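/-
Real classes of equal 2-part (S3860): definitions and the intermediate propositions.
-/
import Cfsg.Agent.Grp.SylowIn
import Cfsg.Agent.Grp.CoresPi
import Cfsg.Agent.Grp.Coprime2
import Cfsg.Agent.Grp.PGroupFrattini
import Cfsg.Agent.Loc.FStar
import Cfsg.Prelude.Def_Sz
import Cfsg.Statements.S3223

set_option autoImplicit false

open Cfsg CL.Grp Subgroup

namespace CL.RC

universe u

section defs
variable {G : Type*} [Group G]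

/-- `v` is a 2-element -/
def Two (v : G) : Prop := ∃ k : ℕ, v ^ 2 ^ k = 1

/-- `v` is inverted by an element of `H` -/
def RealIn (H : Subgroup G) (v : G) : Prop := ∃ r ∈ H, r * v * r⁻¹ = v⁻¹

/-- centralizer of one element -/
abbrev cen (x : G) : Subgroup G := centralizer ({x} : Set G)

theorem mem_cen {x g : G} : g ∈ cen x ↔ g * x * g⁻¹ = x := by
  rw [mem_centralizer_singleton_iff, mul_inv_eq_iff_eq_mul]

theorem mem_cen' {x g : G} : g ∈ cen x ↔ g * x = x * g := mem_centralizer_singleton_iff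

/-- the elements centralizing or inverting `x` -/
def cst (x : G) : Subgroup G where
  carrier := {g | g * x * g⁻¹ = x ∨ g * x * g⁻¹ = x⁻¹}
  one_mem' := Or.inl (by simp)
  mul_mem' := by
    intro a b ha hb
    have e : a * b * x * (a * b)⁻¹ = a * (b * x * b⁻¹) * a⁻¹ := by group
    have e' : a * x⁻¹ * a⁻¹ = (a * x * a⁻¹)⁻¹ := by group
    simp only [Set.mem_ofPred_eq] at *
    rcases hb with hb | hb <;> rcases ha with ha | ha <;> rw [e, hb]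
    · exact Or.inl ha
    · exact Or.inr ha
    · rw [e', ha]; exact Or.inr rfl
    · rw [e', ha, inv_inv]; exact Or.inl rfl
  inv_mem' := by
    intro a ha
    simp only [Set.mem_ofPred_eq] at *
    rcases ha with ha | ha
    · left
      calc a⁻¹ * x * a⁻¹⁻¹ = a⁻¹ * (a * x * a⁻¹) * a⁻¹⁻¹ := by rw [ha]
        _ = x := by group
    · right
      have : x = (a * x * a⁻¹)⁻¹ := by rw [ha, inv_inv]
      calc a⁻¹ * x * a⁻¹⁻¹ = a⁻¹ * (a * x * a⁻¹)⁻¹ * a⁻¹⁻¹ := by rw [← this]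
        _ = x⁻¹ := by group

theorem mem_cst {x g : G} : g ∈ cst x ↔ g * x * g⁻¹ = x ∨ g * x * g⁻¹ = x⁻¹ := Iff.rfl

theorem cen_le_cst (x : G) : cen x ≤ cst x := fun _ h => Or.inl (mem_cen.1 h)

theorem cst_le_normalizer_cen (x : G) : cst x ≤ normalizer (cen x : Set G) := by
  have key : ∀ g ∈ cst x, ∀ h ∈ cen x, g * h * g⁻¹ ∈ cen x := by
    intro g hg h hh
    rw [mem_cen] at hh ⊢
    have e : g * h * g⁻¹ * x * (g * h * g⁻¹)⁻¹ = g * (h * (g⁻¹ * x * g⁻¹⁻¹) * h⁻¹) * g⁻¹ := by group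
    have e' : h * x⁻¹ * h⁻¹ = x⁻¹ := by
      have : h * x⁻¹ * h⁻¹ = (h * x * h⁻¹)⁻¹ := by group
      rw [this, hh]
    rcases (cst x).inv_mem hg with h1 | h1
    · rw [e, h1, hh]
      calc g * x * g⁻¹ = g * (g⁻¹ * x * g⁻¹⁻¹) * g⁻¹ := by rw [h1]
        _ = x := by group
    · rw [e, h1, e', ← h1]; group
  intro g hg
  rw [mem_normalizer_iff]
  intro h
  refine ⟨key g hg h, fun hh => ?_⟩
  have := key _ ((cst x).inv_mem hg) _ hh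
  simpa [mul_assoc] using this

/-- two elements of `cst x` outside `cen x` multiply into `cen x` -/
theorem mul_mem_cen_of_notMem {x s t : G} (hs : s ∈ cst x) (ht : t ∈ cst x) (hs' : s ∉ cen x)
    (ht' : t ∉ cen x) : s * t ∈ cen x := by
  rw [mem_cen] at *
  have h1 := (mem_cst.1 hs).resolve_left hs'
  have h2 := (mem_cst.1 ht).resolve_left ht'
  calc s * t * x * (s * t)⁻¹ = s * (t * x * t⁻¹) * s⁻¹ := by group
    _ = (s * x * s⁻¹)⁻¹ := by rw [h2]; group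
    _ = x := by rw [h1, inv_inv]

variable (G) in
/-- the central elements of square one -/
def om : Subgroup G where
  carrier := {a | a ∈ center G ∧ a * a = 1}
  one_mem' := ⟨one_mem _, by simp⟩
  mul_mem' := by
    rintro a b ⟨ha, ha'⟩ ⟨hb, hb'⟩
    refine ⟨mul_mem ha hb, ?_⟩
    have := mem_center_iff.1 ha b
    calc a * b * (a * b) = a * (b * a) * b := by group
      _ = (a * a) * (b * b) := by rw [this]; group
      _ = 1 := by rw [ha', hb', one_mul]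
  inv_mem' := by
    rintro a ⟨ha, ha'⟩
    exact ⟨inv_mem ha, by rw [← mul_inv_rev, ha', inv_one]⟩

theorem mem_om {a : G} : a ∈ om G ↔ a ∈ center G ∧ a * a = 1 := Iff.rfl

/-- `A` is a central subgroup of exponent at most two -/
structure CE2 (A : Subgroup G) : Prop where
  cen : A ≤ center G
  sq : ∀ a ∈ A, a * a = 1

theorem ce2_om : CE2 (om G) := ⟨fun _ h => h.1, fun _ h => h.2⟩

theorem CE2.comm {A : Subgroup G} (h : CE2 A) {a : G} (ha : a ∈ A) (g : G) : g * a = a * g :=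
  mem_center_iff.1 (h.cen ha) g

theorem CE2.inv_eq {A : Subgroup G} (h : CE2 A) {a : G} (ha : a ∈ A) : a⁻¹ = a :=
  inv_eq_of_mul_eq_one_right (h.sq a ha)

/-- the stabilizer of the coset `uA` under conjugation (for central `A`) -/
def stb (A : Subgroup G) (u : G) : Subgroup G where
  carrier := {g | g * u * g⁻¹ * u⁻¹ ∈ A ⊓ center G}
  one_mem' := by simp
  mul_mem' := by
    intro a b ha hb
    simp only [Set.mem_ofPred_eq] at *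
    have h := mem_center_iff.1 hb.2 a
    have e : a * b * u * (a * b)⁻¹ * u⁻¹ = (b * u * b⁻¹ * u⁻¹) * (a * u * a⁻¹ * u⁻¹) := by
      calc a * b * u * (a * b)⁻¹ * u⁻¹ = (a * (b * u * b⁻¹ * u⁻¹)) * u * a⁻¹ * u⁻¹ := by group
        _ = _ := by rw [h]; group
    rw [e]; exact mul_mem hb ha
  inv_mem' := by
    intro a ha
    simp only [Set.mem_ofPred_eq] at *
    have h := mem_center_iff.1 (inv_mem ha).2 a⁻¹
    have e : a⁻¹ * u * a⁻¹⁻¹ * u⁻¹ = (a * u * a⁻¹ * u⁻¹)⁻¹ := by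
      have h2 := mem_center_iff.1 (inv_mem ha).2 (a⁻¹ * u)
      calc a⁻¹ * u * a⁻¹⁻¹ * u⁻¹ = (a⁻¹ * (a * u * a⁻¹ * u⁻¹)⁻¹) * (a * u * a⁻¹ * u⁻¹) * u * a * u⁻¹ := by group
        _ = (a * u * a⁻¹ * u⁻¹)⁻¹ * (a⁻¹ * (a * u * a⁻¹ * u⁻¹) * u * a * u⁻¹) := by rw [h]; group
        _ = (a * u * a⁻¹ * u⁻¹)⁻¹ * (u * a⁻¹ * u⁻¹ * u * a * u⁻¹) := by group
        _ = _ := by group
    rw [e]; exact inv_mem ha

theorem mem_stb {A : Subgroup G} (hA : A ≤ center G) {u g : G} : g ∈ stb A u ↔ g * u * g⁻¹ * u⁻¹ ∈ A :=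
  ⟨fun h => h.1, fun h => ⟨h, hA h⟩⟩

theorem cen_le_stb (A : Subgroup G) (u : G) : cen u ≤ stb A u := by
  intro g hg
  change g * u * g⁻¹ * u⁻¹ ∈ A ⊓ center G
  rw [mem_cen.1 hg, mul_inv_cancel]; exact one_mem _

/-- `g ↦ [g, u]` is multiplicative on `stb A u` -/
theorem stb_mul {A : Subgroup G} {u b : G} (a : G) (hb : b ∈ stb A u) :
    a * b * u * (a * b)⁻¹ * u⁻¹ = (b * u * b⁻¹ * u⁻¹) * (a * u * a⁻¹ * u⁻¹) := by
  have h := mem_center_iff.1 hb.2 a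
  calc a * b * u * (a * b)⁻¹ * u⁻¹ = (a * (b * u * b⁻¹ * u⁻¹)) * u * a⁻¹ * u⁻¹ := by group
    _ = _ := by rw [h]; group

/-- the centre of `L` as a subgroup of `G` -/
def zc (L : Subgroup G) : Subgroup G := L ⊓ centralizer (L : Set G)

theorem mem_zc {L : Subgroup G} {z : G} : z ∈ zc L ↔ z ∈ L ∧ ∀ l ∈ L, l * z = z * l := Iff.rfl

theorem zc_le (L : Subgroup G) : zc L ≤ L := inf_le_left

theorem mem_zc_of_center {L : Subgroup G} {a : G} (h : a ∈ center G) (ha : a ∈ L) : a ∈ zc L :=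
  ⟨ha, fun l _ => mem_center_iff.1 h l⟩

/-- quasisimple with centre a 2-group -/
structure QS (L : Subgroup G) : Prop where
  qs : IsQuasisimple L
  two : IsPGroup 2 (zc L)

/-- no non-trivial element of odd order of `M` is real in `M` -/
def Clo (M : Subgroup G) : Prop := ∀ w ∈ M, w ≠ 1 → Odd (orderOf w) → ¬ RealIn M w

variable (G) in
/-- the centralizer of every non-central real element has Sylow 2-subgroups of order `c` -/
def HH (c : ℕ) : Prop :=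
  ∀ x : G, IsConj x x⁻¹ → x ∉ center G →
    (∃ B : Subgroup G, IsPGroup 2 B ∧ B ≤ cen x ∧ Nat.card B = c) ∧
    ∀ B : Subgroup G, IsPGroup 2 B → B ≤ cen x → Nat.card B ≤ c

/-- `T` is a Sylow 2-subgroup of the extended centralizer of the real element `x` of odd order -/
structure Cfg (c : ℕ) (x : G) (T : Subgroup G) : Prop where
  ne : x ≠ 1
  odd : Odd (orderOf x)
  two : IsPGroup 2 T
  le : T ≤ cst x
  card0 : Nat.card ↥(T ⊓ cen x) = c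
  card : Nat.card T = 2 * c

structure Hyp (M A : Subgroup G) (c : ℕ) : Prop where
  nrm : M.Normal
  ce : CE2 A
  b1 : ∀ w ∈ M, w ≠ 1 → Odd (orderOf w) → IsConj w w⁻¹ →
    ∃ B : Subgroup G, IsPGroup 2 B ∧ B ≤ cen w ∧ c ≤ Nat.card B
  b3 : ∀ v ∈ M, v ∉ A → Two v → IsConj v v⁻¹ → ∀ B : Subgroup G, IsPGroup 2 B → B ≤ cen v → Nat.card B ≤ c
  f3 : ∀ w ∈ M, w ≠ 1 → Odd (orderOf w) → ∀ v ∈ M, Two v → v * w = w * v → ∀ r s : G,
    r * w * r⁻¹ = w → r * v * r⁻¹ = v⁻¹ → s * w * s⁻¹ = w⁻¹ → s * v * s⁻¹ = v → v ∈ A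

structure HypB (M A : Subgroup G) (c : ℕ) : Prop where
  nrm : M.Normal
  ce : CE2 A
  b1 : ∀ w ∈ M, w ≠ 1 → Odd (orderOf w) → IsConj w w⁻¹ →
    ∃ B : Subgroup G, IsPGroup 2 B ∧ B ≤ cen w ∧ c ≤ Nat.card B
  b3 : ∀ v ∈ M, v ∉ A → Two v → IsConj v v⁻¹ → ∀ B : Subgroup G, IsPGroup 2 B → B ≤ cen v → Nat.card B ≤ c
  b2 : ∀ w ∈ M, w ≠ 1 → Odd (orderOf w) → IsConj w w⁻¹ → ∀ v ∈ M, Two v → v * w = w * v →
    ∀ r ∈ cst w, r * v * r⁻¹ = v⁻¹ → v ∈ A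
  b4 : ∀ S : Sylow 2 G, 4 * c ≤ Nat.card S

theorem HypB.hyp {M A : Subgroup G} {c : ℕ} (h : HypB M A c) : Hyp M A c :=
  ⟨h.nrm, h.ce, h.b1, h.b3, fun w hw h1 ho v hv h2 hc r s hr hr' hs _ =>
    h.b2 w hw h1 ho (isConj_iff.2 ⟨s, hs⟩) v hv h2 hc r (Or.inl hr) hr'⟩

/-- non-central real elements with square in `om G` -/
def UU (u : G) : Prop := IsConj u u⁻¹ ∧ u ∉ center G ∧ u * u ∈ om G

/-- elements of `L` outside the centre of `L`, real in `L`, with square in `om G` -/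
def UL (L : Subgroup G) (u : G) : Prop := u ∈ L ∧ u ∉ zc L ∧ RealIn L u ∧ u * u ∈ om G

theorem UL.uu {L : Subgroup G} {u : G} (h : UL L u) : UU u := by
  obtain ⟨h1, h2, ⟨r, -, hr⟩, h4⟩ := h
  exact ⟨isConj_iff.2 ⟨r, hr⟩, fun hc => h2 (mem_zc_of_center hc h1), h4⟩

/-- the configuration of the case where Sylow 2-subgroups have order `2 c`; `R = S ⊓ cen x` -/
structure A1 (c : ℕ) (L S : Subgroup G) (x : G) : Prop where
  hh : HH G c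
  nrm : L.Normal
  qs : QS L
  om_le : ∀ z ∈ zc L, z * z = 1 → z ∈ om G
  cfg : Cfg c x S
  syl : IsSylowIn 2 S ⊤
  xL : x ∈ L
  yex : ∃ y ∈ S, UL L y ∧ y * x * y⁻¹ = x⁻¹

structure Z1 (L S : Subgroup G) (x : G) : Prop where
  inv : ∀ u ∈ S ⊓ cen x, u * u = 1 → ∀ r ∈ S ⊓ cen x, r * u = u * r
  uu : ∀ u ∈ S ⊓ cen x, UU u → (∀ r ∈ S ⊓ cen x, r * u = u * r) ∧
    ∀ s ∈ S, s ∉ cen x → s * u * s⁻¹ * u⁻¹ ∈ om G ∧ s * u * s⁻¹ ≠ u
  rep : ∀ e, UL L e → ∃ l ∈ L, l * e * l⁻¹ ∈ S ⊓ cen x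

structure Z2 (L S : Subgroup G) (x z y i : G) : Prop where
  zom : z ∈ om G
  zne : z ≠ 1
  val : ∀ u, UL L u → ∀ g : G, g * u * g⁻¹ * u⁻¹ ∈ om G → g * u * g⁻¹ = u ∨ g * u * g⁻¹ = u * z
  sq : ∀ u, UL L u → u * u = 1 ∨ u * u = z
  yR : y ∈ S ⊓ cen x
  yU : UL L y
  ysq : y * y = z
  iS : i ∈ S
  iR : i ∉ cen x
  iU : UL L i
  isq : i * i = z

/-- elements of `R ⊓ L` inverted by `i` are central in `R ⊓ L` -/
def ZJ (L S : Subgroup G) (x i : G) : Prop :=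
  ∀ v ∈ S ⊓ cen x ⊓ L, i * v * i⁻¹ = v⁻¹ → ∀ r ∈ S ⊓ cen x ⊓ L, r * v = v * r

end defs

/-- the list of simple groups in Hering's theorem -/
def HList (X : Type u) [Group X] : Prop :=
  (∃ (F : Type) (_ : Field F) (_ : Fintype F) (n : ℕ), 2 ≤ n ∧ Fintype.card F = 2 ^ n ∧
      (Nonempty (X ≃* Matrix.ProjectiveSpecialLinearGroup (Fin 2) F) ∨
        Nonempty (X ≃* Matrix.ProjectiveSpecialLinearGroup (Fin 3) F) ∨
        Nonempty (X ≃* Cfsg.PSp 2 F))) ∨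
    Cfsg.Lie.IsoSuzuki X ∨
    (∃ (F : Type) (_ : Field F) (_ : Fintype F) (n : ℕ), 2 ≤ n ∧ Fintype.card F = (2 ^ n) ^ 2 ∧
      Nonempty (X ≃* Cfsg.PSU 3 F (2 ^ n))) ∨
    (∃ (F : Type) (_ : Field F) (_ : Fintype F) (n : ℕ), 3 < Fintype.card F ∧
      (Fintype.card F = 2 ^ n + 1 ∨ Fintype.card F + 1 = 2 ^ n) ∧
      Nonempty (X ≃* Matrix.ProjectiveSpecialLinearGroup (Fin 2) F))

/-! ### General lemmas -/

def TW : Prop := ∀ (G : Type u) [Group G] [Finite G] (O T T0 : Subgroup G) (v : G),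
  Odd (Nat.card O) → IsPGroup 2 T → T ≤ normalizer (O : Set G) → v ∈ normalizer (O : Set G) → T0 ≤ T →
  (∀ s ∈ T, ∀ t ∈ T, s ∉ T0 → t ∉ T0 → s * t ∈ T0) →
  (∀ t ∈ T0, v⁻¹ * (t * v * t⁻¹) ∈ O) → (∀ t ∈ T, t ∉ T0 → v * (t * v * t⁻¹) ∈ O) →
  ∃ w : G, v⁻¹ * w ∈ O ∧ (∀ t ∈ T0, t * w * t⁻¹ = w) ∧ ∀ t ∈ T, t ∉ T0 → t * w * t⁻¹ = w⁻¹

def K1 : Prop := ∀ (G : Type u) [Group G] [Finite G] (x : G) (T W : Subgroup G), Odd (orderOf x) →
  IsPGroup 2 T → T ≤ cen x → IsPGroup 2 W → T ≤ normalizer (W : Set G) → x ∈ normalizer (W : Set G) →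
  ¬ W ≤ cen x →
  ∃ y ∈ W, RealIn W y ∧ y ∉ cen x ∧ ∃ B : Subgroup G, IsPGroup 2 B ∧ B ≤ cen y ∧ 2 * Nat.card T ≤ Nat.card B

def NN : Prop := ∀ (G : Type u) [Group G] [Finite G] (H P : Subgroup G), IsSylowIn 2 P H →
  (∃ K : Subgroup G, K ≤ H ∧ H ≤ normalizer (K : Set G) ∧ Odd (Nat.card K) ∧
    ∀ h ∈ H, ∃ k ∈ K, ∃ p ∈ P, h = k * p) ∨
  ∃ y ∈ P, RealIn P y ∧ ∃ x ∈ H, Odd (orderOf x) ∧ y ∉ cen x ∧ x * y * x⁻¹ ∈ P

def MSs : Prop := ∀ (G : Type u) [Group G] [Finite G] (A T N : Subgroup G) (u : G), CE2 A →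
  IsPGroup 2 T → N ≤ T → T ≤ normalizer (N : Set G) → u ∈ N → u ∉ A → u * u ∈ A → ¬ T ≤ stb A u →
  ∃ v ∈ N, v ∉ A ∧ v * v ∈ A ∧ u * v * u⁻¹ = v⁻¹ ∧ T ⊓ stb A u < T ⊓ stb A v

def MS : Prop := ∀ (G : Type u) [Group G] [Finite G] (A T N : Subgroup G) (u : G), CE2 A →
  IsPGroup 2 T → N ≤ T → T ≤ normalizer (N : Set G) → u ∈ N → u ∉ A → RealIn N u →
  ∃ v ∈ N, v ∉ A ∧ v * v ∈ A ∧ RealIn N v ∧ T ≤ stb A v

/-! ### Quasisimple subgroups -/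

def NQ : Prop := ∀ (G : Type u) [Group G] [Finite G] (L P : Subgroup G), IsQuasisimple L →
  IsSylowIn 2 P L → ∃ y ∈ P, RealIn P y ∧ y ∉ zc L

def RQ : Prop := ∀ (G : Type u) [Group G] [Finite G] (L : Subgroup G), IsQuasisimple L →
  ∃ w ∈ L, w ≠ 1 ∧ Odd (orderOf w) ∧ RealIn L w

def ZS : Prop := ∀ (G : Type u) [Group G] [Finite G] (L P : Subgroup G) (u : G), QS L →
  IsSylowIn 2 P L → u ∈ P → u ∉ zc L → u * u ∈ zc L →
  ∃ l ∈ L, l * u * l⁻¹ ∈ P ∧ l * u * l⁻¹ * u⁻¹ ∉ zc L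

def TT : Prop := ∀ (G : Type u) [Group G] [Finite G] (L P R : Subgroup G) (e : G), QS L →
  IsSylowIn 2 P L → R ≤ P → R.relIndex P = 2 → zc L ≤ R → e ∈ L → e * e ∈ zc L →
  ∃ l ∈ L, l * e * l⁻¹ ∈ R

def EX : Prop := ∀ (G : Type u) [Group G] [Finite G] (L P : Subgroup G) (k l : G),
  IsSylowIn 2 P L → k ∈ P → (∀ p ∈ P, p * k * p⁻¹ * k⁻¹ ∈ zc L) → l ∈ L →
  ∃ g ∈ L, g * (l * k * l⁻¹) * g⁻¹ * k⁻¹ ∈ zc L ∧
    ∀ p ∈ P, p * (l * k * l⁻¹) * p⁻¹ * (l * k * l⁻¹)⁻¹ ∈ zc L → g * p * g⁻¹ ∈ P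

def FO : Prop := ∀ (G : Type u) [Group G] [Finite G] (L P : Subgroup G), IsQuasisimple L →
  IsSylowIn 2 P L → zc L ⊓ P ≤ ⁅P, P⁆

def BS : Prop := ∀ (G : Type u) [Group G] [Finite G] (L : Subgroup G) (u : G), QS L →
  u ∈ L → u ∉ zc L → u * u ∈ zc L → ∃ x ∈ L, x ≠ 1 ∧ Odd (orderOf x) ∧ u * x * u⁻¹ = x⁻¹

def KF : Prop := ∀ (G : Type u) [Group G] [Finite G] (L P : Subgroup G), QS L →
  IsSylowIn 2 P L → 4 * Nat.card (zc L) ≤ Nat.card P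

def RK1 : Prop := ∀ (G : Type u) [Group G] [Finite G] (L : Subgroup G) (z : G), QS L →
  (∀ v ∈ L, v * v = 1 → v = 1 ∨ v = z) →
  ∃ x ∈ L, x ≠ 1 ∧ Odd (orderOf x) ∧ RealIn L x ∧ ∀ b ∈ L, Two b → b ∈ cen x → b ∈ zc L

def HZ2 : Prop := ∀ (X : Type u) [Group X] [Finite X], IsQuasisimple X → HList (X ⧸ center X) →
  IsPGroup 2 (center X) → ∀ V : Subgroup X, V ≤ center X → (∀ v ∈ V, v * v = 1) → 4 ≤ Nat.card V →
  Nat.card (center X) ≤ 16 ∧ 64 ∣ Nat.card (X ⧸ center X) ∧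
    ∀ a b : X ⧸ center X, a * b = b * a → orderOf a = 2 → Odd (orderOf b) → b = 1

def HZ : Prop := ∀ (G : Type u) [Group G] [Finite G] (L P B V : Subgroup G) (y x : G), QS L →
  IsSylowIn 2 P L → y ∈ P → y ∉ zc L → y * y ∈ zc L → (∀ p ∈ P, p * y * p⁻¹ * y⁻¹ ∈ zc L) →
  (∀ l ∈ L, l * y * l⁻¹ * y⁻¹ ∈ zc L → l ∈ normalizer (P : Set G)) →
  x ∈ L → x ≠ 1 → Odd (orderOf x) → B ≤ P → B ≤ cen x → V ≤ zc L → (∀ v ∈ V, v * v = 1) →
  4 ≤ Nat.card V → Nat.card P ≤ Nat.card B * Nat.card V → False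

/-! ### Consequences of `HH` -/

def F1 : Prop := ∀ (G : Type u) [Group G] [Finite G] (c : ℕ) (v : G) (B : Subgroup G), HH G c →
  IsConj v v⁻¹ → IsPGroup 2 B → B ≤ cen v → c < Nat.card B → v ∈ om G

def CF : Prop := ∀ (G : Type u) [Group G] [Finite G] (c : ℕ) (x : G) (U : Subgroup G), HH G c →
  x ≠ 1 → Odd (orderOf x) → IsConj x x⁻¹ → IsPGroup 2 U → U ≤ cst x → ∃ T : Subgroup G, Cfg c x T ∧ U ≤ T

def F2 : Prop := ∀ (G : Type u) [Group G] [Finite G] (c : ℕ) (x v s : G), HH G c →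
  x ≠ 1 → Odd (orderOf x) → Two v → v ∈ cen x → s * x * s⁻¹ = x⁻¹ → s * v * s⁻¹ = v⁻¹ →
  ∃ T : Subgroup G, Cfg c x T ∧ v ∈ T ∧ (∀ t ∈ T, t ∈ cen x → t * v * t⁻¹ = v) ∧
    ∀ t ∈ T, t ∉ cen x → t * v * t⁻¹ = v⁻¹

def F3 : Prop := ∀ (G : Type u) [Group G] [Finite G] (c : ℕ) (x v r s : G), HH G c →
  x ≠ 1 → Odd (orderOf x) → Two v → v ∈ cen x → r ∈ cen x → r * v * r⁻¹ = v⁻¹ →
  s * x * s⁻¹ = x⁻¹ → s * v * s⁻¹ = v → v ∈ om G

def HP : Prop := ∀ (G : Type u) [Group G] [Finite G] (c : ℕ) (x g : G) (T B : Subgroup G), HH G c →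
  Cfg c x T → IsPGroup 2 B → T ≤ B → g ∈ B → g ∉ T → g ∈ normalizer (T : Set G) →
  (∀ t ∈ T ⊓ cen x, g * t * g⁻¹ ∈ T ⊓ cen x) → g * g ∈ T ⊓ cen x →
  ∃ k ∈ T, k ∉ cen x ∧ ∀ t ∈ T ⊓ cen x, k * t = t * k

def CE : Prop := ∀ (G : Type u) [Group G] [Finite G] (c : ℕ) (x u w : G) (T : Subgroup G), HH G c →
  Cfg c x T → u ∈ T ⊓ cen x → (∀ t ∈ T ⊓ cen x, t * u * t⁻¹ = u) → u * u ∈ om G → w ∈ om G → w ≠ 1 →
  (∀ t ∈ T, t ∉ cen x → t * u * t⁻¹ = u * w) → IsSylowIn 2 T ⊤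

def PS : Prop := ∀ (G : Type u) [Group G] [Finite G] (c : ℕ) (x v r : G), HH G c →
  x ≠ 1 → Odd (orderOf x) → IsConj x x⁻¹ → Two v → v ∈ cen x → v ∉ om G → r ∈ cen x →
  r * v * r⁻¹ = v⁻¹ → ∀ S : Sylow 2 G, Nat.card S = 2 * c

def HA : Prop := ∀ (G : Type u) [Group G] [Finite G] (c : ℕ), HH G c → Hyp ⊤ (om G) c

def HB : Prop := ∀ (G : Type u) [Group G] [Finite G] (c : ℕ), HH G c →
  (∀ S : Sylow 2 G, 4 * c ≤ Nat.card S) → HypB ⊤ (om G) c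

/-! ### The structure step and the case `4 c ≤ |S|` -/

def ST : Prop := ∀ (G : Type u) [Group G] [Finite G] (M A : Subgroup G) (c : ℕ), Hyp M A c →
  oddCore M = ⊥ → ¬ Clo M →
  ∃ L : Subgroup G, L ≤ M ∧ L.Normal ∧ QS L ∧ ∀ z ∈ zc L, z * z = 1 → z ∈ A

def SUB : Prop := ∀ (G : Type u) [Group G] [Finite G] (M A L : Subgroup G) (c : ℕ) (y : G) (S : Sylow 2 G),
  HypB M A c → L ≤ M → L.Normal → y ∈ L → y ∉ A → y * y ∈ A → (S : Subgroup G) ≤ stb A y →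
  HypB (L.subgroupOf (stb A y)) (A.subgroupOf (stb A y)) c

def QUO : Prop := ∀ (G Q : Type u) [Group G] [Finite G] [Group Q] (M A : Subgroup G) (c : ℕ) (f : G →* Q),
  HypB M A c → Function.Surjective f → Odd (Nat.card f.ker) → f.ker ≤ M → HypB (M.map f) (A.map f) c

def LV : Prop := ∀ (G : Type u) [Group G] [Finite G] (M A L O : Subgroup G) (c : ℕ) (y : G) (S : Sylow 2 G),
  HypB M A c → L ≤ M → L.Normal → QS L → y ∈ (S : Subgroup G) ⊓ L → y ∉ zc L → y * y ∈ A →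
  (S : Subgroup G) ≤ stb A y → O ≤ L → O ≤ cen y → Odd (Nat.card O) →
  (S : Subgroup G) ≤ normalizer (O : Set G) → (S : Subgroup G) ⊓ L ≤ centralizer (O : Set G)

def CB : Prop := ∀ (G : Type u) [Group G] [Finite G] (M A : Subgroup G) (c : ℕ), HypB M A c →
  oddCore M = ⊥ → Clo M

/-! ### The case `|S| = 2 c` -/

def U1 : Prop := ∀ (G : Type u) [Group G] [Finite G] (c : ℕ) (S : Subgroup G) (u : G), HH G c →
  IsSylowIn 2 S ⊤ → Nat.card S = 2 * c → UU u →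
  ∃ w ∈ om G, w ≠ 1 ∧ (∀ g : G, g * u * g⁻¹ * u⁻¹ ∈ om G → g * u * g⁻¹ = u ∨ g * u * g⁻¹ = u * w) ∧
    (u * u = 1 ∨ u * u = w)

def R4 : Prop := ∀ (G : Type u) [Group G] [Finite G] (c : ℕ) (u : G), HH G c →
  IsConj u u⁻¹ → u * u * (u * u) = 1 → u * u ∈ om G

def A2a : Prop := ∀ (G : Type u) [Group G] [Finite G] (c : ℕ) (L S : Subgroup G) (x : G),
  A1 c L S x → Z1 L S x

def A2b : Prop := ∀ (G : Type u) [Group G] [Finite G] (c : ℕ) (L S : Subgroup G) (x : G),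
  A1 c L S x → Z1 L S x → ∃ z y i : G, Z2 L S x z y i

def A3 : Prop := ∀ (G : Type u) [Group G] [Finite G] (c : ℕ) (L S : Subgroup G) (x z y i : G),
  A1 c L S x → Z1 L S x → Z2 L S x z y i → ZJ L S x i

def A4a : Prop := ∀ (G : Type u) [Group G] [Finite G] (c : ℕ) (L S : Subgroup G) (x z y i : G),
  A1 c L S x → Z1 L S x → Z2 L S x z y i → ZJ L S x i →
  (∀ r ∈ S ⊓ cen x ⊓ L, i * r = r * i → r ∈ zc L) → False

def A4b : Prop := ∀ (G : Type u) [Group G] [Finite G] (c : ℕ) (L S : Subgroup G) (x z y i r : G),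
  A1 c L S x → Z1 L S x → Z2 L S x z y i → ZJ L S x i →
  r ∈ S ⊓ cen x ⊓ L → i * r = r * i → r ∉ zc L → False

def Main : Prop := ∀ (G : Type u) [Group G] [Finite G] (c : ℕ), HH G c → oddCore G = ⊥ →
  ∀ w : G, w ≠ 1 → Odd (orderOf w) → ¬ IsConj w w⁻¹

end CL.RC
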