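/-
Real classes of equal 2-part (S3860): small shared lemmas.
-/
import Cfsg.Agent.RC.Defs

set_option autoImplicit false

open Cfsg CL.Grp Subgroup

namespace CL.RC

variable {G : Type*} [Group G]

theorem Two.of_mem {P : Subgroup G} (hP : IsPGroup 2 P) {v : G} (h : v ∈ P) : Two v := by
  obtain ⟨k, hk⟩ := hP ⟨v, h⟩
  exact ⟨k, by simpa using congrArg Subtype.val hk⟩

theorem Two.of_sq {v : G} (h : v * v = 1) : Two v := ⟨1, by rw [pow_one, pow_two, h]⟩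

theorem Two.of_mul_self {v : G} (h : Two (v * v)) : Two v := by
  obtain ⟨k, hk⟩ := h
  exact ⟨k + 1, by rw [pow_succ', pow_mul, pow_two, hk]⟩

theorem Two.pow {v : G} (h : Two v) (n : ℕ) : Two (v ^ n) := by
  obtain ⟨k, hk⟩ := h
  exact ⟨k, by rw [← pow_mul, mul_comm, pow_mul, hk, one_pow]⟩

theorem Two.conj {v : G} (h : Two v) (g : G) : Two (g * v * g⁻¹) := by
  obtain ⟨k, hk⟩ := h
  exact ⟨k, by rw [conj_pow, hk]; simp⟩

theorem Two.zpowers {v : G} (h : Two v) : IsPGroup 2 (zpowers v) := by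
  obtain ⟨k, hk⟩ := h
  rintro ⟨_, n, rfl⟩
  refine ⟨k, Subtype.ext ?_⟩
  change (v ^ n) ^ 2 ^ k = 1
  rw [← zpow_natCast, ← zpow_mul, mul_comm, zpow_mul, zpow_natCast, hk, one_zpow]

theorem isPGroup_of_two {P : Subgroup G} (h : ∀ v ∈ P, Two v) : IsPGroup 2 P := by
  rintro ⟨v, hv⟩
  obtain ⟨k, hk⟩ := h v hv
  exact ⟨k, Subtype.ext (by simpa using hk)⟩

theorem CE2.isPGroup {A : Subgroup G} (h : CE2 A) : IsPGroup 2 A :=
  isPGroup_of_two fun v hv => Two.of_sq (h.sq v hv)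

theorem Two.eq_one_of_odd {v : G} (h : Two v) (ho : Odd (orderOf v)) : v = 1 := by
  obtain ⟨k, hk⟩ := h
  have h1 := orderOf_dvd_of_pow_eq_one hk
  have h2 : (orderOf v).Coprime (2 ^ k) := (Nat.coprime_two_right.2 ho).pow_right k
  exact orderOf_eq_one_iff.1 (h2.eq_one_of_dvd h1)

theorem eq_one_of_odd_of_sq {x : G} (ho : Odd (orderOf x)) (h : x * x = 1) : x = 1 :=
  (Two.of_sq h).eq_one_of_odd ho

theorem ne_inv_of_odd {x : G} (h1 : x ≠ 1) (ho : Odd (orderOf x)) : x ≠ x⁻¹ := fun h =>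
  h1 (eq_one_of_odd_of_sq ho (by nth_rewrite 2 [h]; exact mul_inv_cancel x))

theorem sq_eq_one_of_real_of_center {v : G} (h : IsConj v v⁻¹) (hc : v ∈ center G) : v * v = 1 := by
  obtain ⟨r, hr⟩ := isConj_iff.1 h
  rw [mem_center_iff.1 hc r, mul_inv_cancel_right] at hr
  nth_rewrite 2 [hr]; exact mul_inv_cancel v

theorem mem_om_of_real_of_center {v : G} (h : IsConj v v⁻¹) (hc : v ∈ center G) : v ∈ om G :=
  ⟨hc, sq_eq_one_of_real_of_center h hc⟩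

theorem not_center_of_real_odd {x : G} (h1 : x ≠ 1) (ho : Odd (orderOf x)) (h : IsConj x x⁻¹) :
    x ∉ center G := fun hc => h1 (eq_one_of_odd_of_sq ho (sq_eq_one_of_real_of_center h hc))

theorem RealIn.isConj {H : Subgroup G} {v : G} (h : RealIn H v) : IsConj v v⁻¹ := by
  obtain ⟨r, -, hr⟩ := h
  exact isConj_iff.2 ⟨r, hr⟩

theorem RealIn.mono {H K : Subgroup G} {v : G} (h : RealIn H v) (hK : H ≤ K) : RealIn K v := by
  obtain ⟨r, h1, hr⟩ := h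
  exact ⟨r, hK h1, hr⟩

theorem realIn_of_sq (H : Subgroup G) {v : G} (h : v * v = 1) : RealIn H v :=
  ⟨1, one_mem _, by simpa using eq_inv_of_mul_eq_one_left h⟩

theorem isConj_inv_of_sq {v : G} (h : v * v = 1) : IsConj v v⁻¹ := (realIn_of_sq ⊤ h).isConj

theorem conj_pow_inv {s v : G} (h : s * v * s⁻¹ = v⁻¹) (n : ℕ) : s * v ^ n * s⁻¹ = (v ^ n)⁻¹ := by
  rw [← conj_pow, h, inv_pow]

theorem pow_conj_fix {s v : G} (h : s * v * s⁻¹ = v) (n : ℕ) : s ^ n * v * (s ^ n)⁻¹ = v :=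
  mem_cen.1 (pow_mem (mem_cen.2 h) n)

theorem odd_pow_conj_inv {s v : G} (h : s * v * s⁻¹ = v⁻¹) {m : ℕ} (hm : Odd m) :
    s ^ m * v * (s ^ m)⁻¹ = v⁻¹ := by
  obtain ⟨k, rfl⟩ := hm
  have h2 : (s * s) * v * (s * s)⁻¹ = v := by
    calc (s * s) * v * (s * s)⁻¹ = s * (s * v * s⁻¹) * s⁻¹ := by group
      _ = s * v⁻¹ * s⁻¹ := by rw [h]
      _ = (s * v * s⁻¹)⁻¹ := by group
      _ = v := by rw [h, inv_inv]
  have h3 := pow_conj_fix h2 k
  rw [← pow_two, ← pow_mul] at h3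
  calc s ^ (2 * k + 1) * v * (s ^ (2 * k + 1))⁻¹ = s * (s ^ (2 * k) * v * (s ^ (2 * k))⁻¹) * s⁻¹ := by group
    _ = v⁻¹ := by rw [h3, h]

theorem exists_odd_pow_two [Finite G] (s : G) : ∃ m : ℕ, Odd m ∧ Two (s ^ m) := by
  obtain ⟨k, m, hm, e⟩ := Nat.exists_eq_two_pow_mul_odd (orderOf_pos s).ne'
  exact ⟨m, hm, k, by rw [← pow_mul, mul_comm, ← e, pow_orderOf_eq_one]⟩

theorem exists_two_pow_odd [Finite G] (s : G) : ∃ k : ℕ, Odd (orderOf (s ^ 2 ^ k)) := by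
  obtain ⟨k, m, hm, e⟩ := Nat.exists_eq_two_pow_mul_odd (orderOf_pos s).ne'
  refine ⟨k, Odd.of_dvd_nat hm (orderOf_dvd_of_pow_eq_one ?_)⟩
  rw [← pow_mul, ← e, pow_orderOf_eq_one]

/-- an element of odd order lies in every subgroup containing its square -/
theorem mem_of_odd_pow_mem_of_sq_mem {H : Subgroup G} {g : G} {m : ℕ} (hm : Odd m) (h1 : g ^ m ∈ H)
    (h2 : g * g ∈ H) : g ∈ H := by
  obtain ⟨k, rfl⟩ := hm
  have h3 : g ^ (2 * k) ∈ H := by rw [pow_mul, pow_two]; exact pow_mem h2 k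
  have := mul_mem (inv_mem h3) h1
  rwa [pow_succ, inv_mul_cancel_left] at this

theorem mem_of_odd_of_sq_mem {H : Subgroup G} {g : G} (ho : Odd (orderOf g)) (h2 : g * g ∈ H) : g ∈ H :=
  mem_of_odd_pow_mem_of_sq_mem ho (by rw [pow_orderOf_eq_one]; exact one_mem _) h2

theorem Two.exists_last {A : Subgroup G} {u : G} (h : Two u) (hu : u ∉ A) :
    ∃ k : ℕ, u ^ 2 ^ k ∉ A ∧ u ^ 2 ^ k * u ^ 2 ^ k ∈ A := by
  obtain ⟨k, hk⟩ := h
  obtain ⟨j, h1, h2⟩ := exists_pow_notMem_pow_prime_mem (p := 2) (N := A) (k := k) (by rw [hk]; exact one_mem _) hu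
  exact ⟨j, h1, by rwa [pow_two] at h2⟩

/-- a 2-element of order at least 4 has a power of order 4 -/
theorem Two.exists_four {v : G} (h : Two v) (hv : v * v ≠ 1) :
    ∃ k : ℕ, v ^ k * v ^ k ≠ 1 ∧ v ^ k * v ^ k * (v ^ k * v ^ k) = 1 := by
  obtain ⟨k, h1, h2⟩ := Two.exists_last (A := ⊥) (h.pow 2) (by rwa [mem_bot, pow_two])
  rw [mem_bot] at h1 h2
  have e : (v ^ 2) ^ 2 ^ k = v ^ 2 ^ k * v ^ 2 ^ k := by rw [← pow_mul, ← pow_add, two_mul]
  rw [e] at h1 h2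
  exact ⟨2 ^ k, h1, h2⟩

theorem sq_mem_cen_of_stb {A : Subgroup G} (hA : CE2 A) {u g : G} (hg : g ∈ stb A u) : g * g ∈ cen u := by
  have h := stb_mul g hg
  rw [hA.sq _ ((mem_stb hA.cen).1 hg), mul_inv_eq_one] at h
  exact mem_cen.2 h

theorem mem_cen_of_odd_of_stb {A : Subgroup G} (hA : CE2 A) {u g : G} (hg : g ∈ stb A u)
    (ho : Odd (orderOf g)) : g ∈ cen u := mem_of_odd_of_sq_mem ho (sq_mem_cen_of_stb hA hg)

theorem zc_normal (L : Subgroup G) [L.Normal] : (zc L).Normal := by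
  unfold zc; infer_instance

theorem le_normalizer_zc (L : Subgroup G) : L ≤ normalizer (zc L : Set G) :=
  le_normalizer_inf' le_normalizer (le_normalizer_centralizer' le_normalizer)

theorem map_center_eq_zc (L : Subgroup G) : (center L).map L.subtype = zc L :=
  CL.Loc.map_center_subtype_eq_inf L

theorem coe_mem_zc {L : Subgroup G} {a : L} : (a : G) ∈ zc L ↔ a ∈ center L := by
  rw [← map_center_eq_zc]
  exact ⟨fun ⟨b, hb, e⟩ => (Subtype.ext e : b = a) ▸ hb, fun h => ⟨a, h, rfl⟩⟩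

theorem QS.zc_le [Finite G] {L P : Subgroup G} (h : QS L) (hP : IsSylowIn 2 P L) : zc L ≤ P :=
  hP.le_of_normalized h.two (CL.RC.zc_le L) (le_normalizer_zc L)

namespace Cfg
variable {c : ℕ} {x : G} {T : Subgroup G}

theorem inv (h : Cfg c x T) {t : G} (ht : t ∈ T) (ht' : t ∉ cen x) : t * x * t⁻¹ = x⁻¹ :=
  (mem_cst.1 (h.le ht)).resolve_left fun e => ht' (mem_cen.2 e)

theorem pos [Finite G] (h : Cfg c x T) : 0 < c := h.card0 ▸ Nat.card_pos

theorem lt_card [Finite G] (h : Cfg c x T) : c < Nat.card T := by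
  have := h.pos; rw [h.card]; omega

theorem exists_notMem [Finite G] (h : Cfg c x T) : ∃ t ∈ T, t ∉ cen x := by
  by_contra hn
  push Not at hn
  have h0 := h.card0
  rw [inf_eq_left.2 (show T ≤ cen x from hn)] at h0
  have := h.lt_card
  omega

theorem real [Finite G] (h : Cfg c x T) : IsConj x x⁻¹ := by
  obtain ⟨t, h1, h2⟩ := h.exists_notMem
  exact isConj_iff.2 ⟨t, h.inv h1 h2⟩

theorem mul_mem (h : Cfg c x T) {s t : G} (hs : s ∈ T) (ht : t ∈ T) (hs' : s ∉ cen x) (ht' : t ∉ cen x) :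
    s * t ∈ T ⊓ cen x :=
  ⟨T.mul_mem hs ht, mul_mem_cen_of_notMem (h.le hs) (h.le ht) hs' ht'⟩

theorem conj_mem (h : Cfg c x T) {s t : G} (hs : s ∈ T) (ht : t ∈ T ⊓ cen x) : s * t * s⁻¹ ∈ T ⊓ cen x :=
  ⟨T.mul_mem (T.mul_mem hs ht.1) (T.inv_mem hs),
    (mem_normalizer_iff.1 (cst_le_normalizer_cen x (h.le hs)) t).1 ht.2⟩

theorem syl0 [Finite G] (h : Cfg c x T) (hH : HH G c) : IsSylowIn 2 (T ⊓ cen x) (cen x) := by
  obtain ⟨S, hS⟩ := exists_isSylowIn 2 (cen x)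
  refine hS.of_card_le (h.two.to_inf_left) inf_le_right ?_
  rw [h.card0]
  exact (hH x h.real (not_center_of_real_odd h.ne h.odd h.real)).2 S hS.isPGroup hS.le

/-- a subgroup containing `T ⊓ cen x` and one element of `T` outside `cen x` contains `T` -/
theorem le_of (h : Cfg c x T) {H : Subgroup G} (h0 : T ⊓ cen x ≤ H) {s : G} (hs : s ∈ T) (hs' : s ∉ cen x)
    (hH : s ∈ H) : T ≤ H := by
  intro t ht
  by_cases h1 : t ∈ cen x
  · exact h0 ⟨ht, h1⟩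
  · have := H.mul_mem (H.inv_mem hH) (h0 (h.mul_mem hs ht hs' h1))
    rwa [inv_mul_cancel_left] at this

end Cfg

end CL.RC
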