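/-
Real classes of equal 2-part (S3860): one more intermediate proposition.
-/
import Cfsg.Agent.RC.Basic

set_option autoImplicit false

open Cfsg CL.Grp Subgroup

namespace CL.RC

universe u

def LV1 : Prop := ∀ (G : Type u) [Group G] [Finite G] (S P O : Subgroup G), IsPGroup 2 S → P ≤ S →
  S ≤ normalizer (P : Set G) → Odd (Nat.card O) → S ≤ normalizer (O : Set G) →
  ¬ P ≤ centralizer (O : Set G) →
  ∃ X Y : Subgroup G, ∃ s ∈ P, X ≤ O ∧ Y < X ∧ ⁅X, X⁆ ≤ Y ∧ S ≤ normalizer (X : Set G) ∧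
    S ≤ normalizer (Y : Set G) ∧ ∀ v ∈ X, v * (s * v * s⁻¹) ∈ Y

end CL.RC
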