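/-
Real classes of equal 2-part (S3860): the propositions `NN`, `NQ`, `RQ`, `FO`, `EX`.
-/
import Cfsg.Agent.RC.Defs2
import Cfsg.Agent.Transfer.Basic
import Cfsg.Agent.S0071
import Cfsg.Agent.S0205
import Cfsg.Agent.S3861

set_option autoImplicit false

open Cfsg CL.Grp Subgroup
open scoped Pointwise

namespace CL.RC

universe u

namespace Q1x

variable {G : Type*} [Group G]

theorem solv_of_two [Finite G] {P : Subgroup G} (h : IsPGroup 2 P) : Group.IsSolvable P := by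
  have := h.isNilpotent
  infer_instance

/-- the elements `h` of `L` with `[h, k]` in the centre of `L` -/
def cmod (L : Subgroup G) (k : G) : Subgroup G where
  carrier := {h | h ∈ L ∧ h * k * h⁻¹ * k⁻¹ ∈ zc L}
  one_mem' := ⟨one_mem _, by simp⟩
  mul_mem' := by
    rintro a b ⟨ha, ha'⟩ ⟨hb, hb'⟩
    refine ⟨mul_mem ha hb, ?_⟩
    have h := hb'.2 a ha
    have e : a * b * k * (a * b)⁻¹ * k⁻¹ = (b * k * b⁻¹ * k⁻¹) * (a * k * a⁻¹ * k⁻¹) := by
      calc a * b * k * (a * b)⁻¹ * k⁻¹ = (a * (b * k * b⁻¹ * k⁻¹)) * k * a⁻¹ * k⁻¹ := by group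
        _ = _ := by rw [h]; group
    rw [e]; exact mul_mem hb' ha'
  inv_mem' := by
    rintro a ⟨ha, ha'⟩
    refine ⟨inv_mem ha, ?_⟩
    have h := (inv_mem ha').2 a⁻¹ (inv_mem ha)
    have e : a⁻¹ * k * a⁻¹⁻¹ * k⁻¹ = (a * k * a⁻¹ * k⁻¹)⁻¹ := by
      calc a⁻¹ * k * a⁻¹⁻¹ * k⁻¹ = (a⁻¹ * (a * k * a⁻¹ * k⁻¹)⁻¹) * a := by group
        _ = (a * k * a⁻¹ * k⁻¹)⁻¹ * a⁻¹ * a := by rw [h]
        _ = _ := by group
    rw [e]; exact inv_mem ha'

theorem mem_cmod {L : Subgroup G} {k h : G} : h ∈ cmod L k ↔ h ∈ L ∧ h * k * h⁻¹ * k⁻¹ ∈ zc L := Iff.rfl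

end Q1x

open Q1x

theorem nn (h : K1.{u}) : NN.{u} := by
  intro G _ _ H P hP
  by_cases hc : ∃ N : Subgroup H, N.Normal ∧ N.IsComplement' (hP.toSylow : Subgroup H)
  · obtain ⟨N, hN, hc⟩ := hc
    left
    refine ⟨N.map H.subtype, map_subtype_le _, ?_, ?_, ?_⟩
    · intro g hg
      rw [mem_normalizer_iff]
      intro y
      constructor
      · rintro ⟨n, hn, rfl⟩
        exact ⟨_, hN.conj_mem n hn ⟨g, hg⟩, rfl⟩
      · rintro ⟨n, hn, e⟩
        refine ⟨_, hN.conj_mem n hn ⟨g, hg⟩⁻¹, ?_⟩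
        change g⁻¹ * (n : G) * g⁻¹⁻¹ = y
        have e' : (n : G) = g * y * g⁻¹ := e
        rw [e']; group
    · rw [card_map_of_injective H.subtype_injective, ← hc.index_eq_card]
      exact Nat.odd_iff.2 (Nat.two_dvd_ne_zero.1 hP.toSylow.not_dvd_index)
    · intro g hg
      obtain ⟨⟨k, p⟩, e⟩ := hc.2 ⟨g, hg⟩
      exact ⟨k, ⟨k, k.2, rfl⟩, p, p.2, (congrArg Subtype.val e).symm⟩
  · right
    rw [Cfsg.Agent.S0071.result] at hc
    push Not at hc
    obtain ⟨Q, hQ, g, hg, ho, hn⟩ := hc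
    have hWP : Q.map H.subtype ≤ P := by
      rintro _ ⟨q, hq, rfl⟩
      exact hQ hq
    have hodd : Odd (orderOf (g : G)) := by
      rw [Subgroup.orderOf_coe]
      exact Nat.coprime_two_right.1 ho
    have hgn : (g : G) ∈ normalizer ((Q.map H.subtype : Subgroup G) : Set G) :=
      le_normalizer_map _ ⟨g, hg, rfl⟩
    have hnc : ¬ Q.map H.subtype ≤ cen (g : G) := by
      intro hle
      apply hn
      rw [mem_centralizer_iff]
      intro q hq
      exact Subtype.ext (mem_cen'.1 (hle ⟨q, hq, rfl⟩))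
    obtain ⟨y, hy, hr, hy', -⟩ := h G g ⊥ (Q.map H.subtype) hodd IsPGroup.of_bot bot_le
      (hP.isPGroup.to_le hWP) bot_le hgn hnc
    exact ⟨y, hWP hy, hr.mono hWP, g, g.2, hodd, hy', hWP ((mem_normalizer_iff.1 hgn y).1 hy)⟩

theorem nq (h : NN.{u}) : NQ.{u} := by
  intro G _ _ L P hL hP
  rcases h G L P hP with ⟨K, hK, hn, ho, hd⟩ | ⟨y, hy, hr, x, hx, -, hy', -⟩
  · exfalso
    rcases CL.Loc.IsQuasisimple.eq_or_commutator_eq_bot hL hK hn with e | e
    · subst e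
      exact CL.Loc.IsQuasisimple.not_isSolvable hL (Cfsg.Agent.S0205.result ho)
    · have h1 : L ≤ P ⊔ K := by
        intro l hl
        obtain ⟨k, hk, p, hp, rfl⟩ := hd l hl
        exact mul_mem (mem_sup_right hk) (mem_sup_left hp)
      have h2 := CL.Loc.commutator_le_of_le_sup_centralizer hP.le
        (commutator_eq_bot_iff_le_centralizer.1 e) h1
      rw [CL.Loc.IsQuasisimple.commutator_self hL] at h2
      exact CL.Loc.IsQuasisimple.not_le_of_isSolvable hL (solv_of_two hP.isPGroup)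
        (h2.trans (commutator_le_self P))
  · exact ⟨y, hy, hr, fun hz => hy' (mem_cen'.2 (hz.2 x hx).symm)⟩

theorem rq : RQ.{u} := by
  intro G _ _ L hL
  by_contra hn
  push Not at hn
  obtain ⟨P⟩ : Nonempty (Sylow 2 L) := inferInstance
  have hN : (P : Subgroup L).Normal := by
    rw [← Cfsg.Agent.S3861.result P]
    intro x h1 ho hc
    obtain ⟨r, hr⟩ := isConj_iff.1 hc
    refine hn x x.2 (fun e => h1 (Subtype.ext e)) (by rwa [Subgroup.orderOf_coe]) ⟨r, r.2, ?_⟩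
    exact congrArg Subtype.val hr
  rcases CL.Loc.IsQuasisimple.normal_eq_top_or_le_center hL (P : Subgroup L) with e | e
  · apply CL.Loc.IsQuasisimple.not_isSolvable hL
    have h2 := solv_of_two P.isPGroup'
    rw [e] at h2
    exact Group.isSolvable_of_surjective (f := (⊤ : Subgroup L).subtype) fun x => ⟨⟨x, trivial⟩, rfl⟩
  · have ho : Odd (Nat.card (L ⧸ center L)) :=
      Odd.of_dvd_nat (Nat.odd_iff.2 (Nat.two_dvd_ne_zero.1 P.not_dvd_index)) (index_dvd_of_le e)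
    have hs := Cfsg.Agent.S0205.result ho
    have := hL.2
    exact CL.Loc.IsQuasisimple.not_isMulCommutative_quotient hL
      ⟨⟨IsSimpleGroup.comm_iff_isSolvable.2 hs⟩⟩

theorem fo : FO.{u} := by
  intro G _ _ L P hL hP z hz
  set Q : Subgroup L := P.subgroupOf L with hQ
  have hzL : z ∈ L := hz.1.1
  have hzQ : (⟨z, hzL⟩ : L) ∈ Q := hz.2
  have hzc : (⟨z, hzL⟩ : L) ∈ center L := coe_mem_zc.1 hz.1
  let V : L →* Abelianization Q := MonoidHom.transfer (Abelianization.of : Q →* Abelianization Q)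
  have h1 : V ⟨z, hzL⟩ = 1 := by
    have hp : _root_.commutator L = ⊤ := Group.isPerfect_def.1 hL.1
    have := Abelianization.commutator_subset_ker V
    rw [hp] at this
    exact this (mem_top _)
  have h2 : V ⟨z, hzL⟩ = (Abelianization.of (⟨_, hzQ⟩ : Q)) ^ Q.index := by
    apply CL.Transfer.transfer_eq_pow_of_conj
    intro k g hg
    rw [← map_pow]
    congr 1
    apply Subtype.ext
    have := mem_center_iff.1 (pow_mem hzc k) g
    change g⁻¹ * (⟨z, hzL⟩ : L) ^ k * g = (⟨z, hzL⟩ : L) ^ k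
    rw [mul_assoc, ← this]; group
  have hodd : Odd Q.index := Nat.odd_iff.2 (Nat.two_dvd_ne_zero.1 hP.not_dvd)
  have h3 : Abelianization.of (⟨_, hzQ⟩ : Q) = 1 := by
    obtain ⟨k, hk⟩ := Two.of_mem hP.isPGroup hz.2
    have ht : Two (Abelianization.of (⟨_, hzQ⟩ : Q)) := by
      refine ⟨k, ?_⟩
      rw [← map_pow]
      have : (⟨_, hzQ⟩ : Q) ^ 2 ^ k = 1 := Subtype.ext (Subtype.ext hk)
      rw [this, map_one]
    exact ht.eq_one_of_odd (Odd.of_dvd_nat hodd (orderOf_dvd_of_pow_eq_one (h2 ▸ h1)))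
  have h4 : (⟨_, hzQ⟩ : Q) ∈ _root_.commutator Q := by
    rw [← Abelianization.ker_of]; exact h3
  have h5 : (_root_.commutator Q).map (L.subtype.comp Q.subtype) ≤ ⁅P, P⁆ := by
    rw [_root_.commutator_def, map_commutator]
    have : (⊤ : Subgroup Q).map (L.subtype.comp Q.subtype) ≤ P := by
      rintro _ ⟨q, -, rfl⟩
      exact q.2
    exact commutator_mono this this
  exact h5 ⟨_, h4, rfl⟩

theorem ex : EX.{u} := by
  intro G _ _ L P k l hP hk hc hl
  have hPH : P ≤ cmod L k := fun p hp => ⟨hP.le hp, hc p hp⟩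
  have hS : IsSylowIn 2 P (cmod L k) := hP.of_le hPH fun _ h => h.1
  set Q : Subgroup G := P ⊓ cmod L (l * k * l⁻¹) with hQ
  have hU : IsPGroup 2 (MulAut.conj l⁻¹ • Q : Subgroup G) := (hP.isPGroup.to_inf_left).map _
  have hUH : (MulAut.conj l⁻¹ • Q : Subgroup G) ≤ cmod L k := by
    rw [conj_smul_le_iff]
    rintro p ⟨hp, hpL, hp'⟩
    refine ⟨mul_mem (mul_mem (inv_mem hl) hpL) (inv_mem (inv_mem hl)), ?_⟩
    have h1 := (mem_normalizer_iff.1 (le_normalizer_zc L (inv_mem hl)) _).1 hp'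
    convert h1 using 1
    group
  obtain ⟨h, hh, hle⟩ := hS.exists_conj_le hU hUH
  refine ⟨h * l⁻¹, mul_mem hh.1 (inv_mem hl), ?_, ?_⟩
  · convert hh.2 using 1
    group
  · intro p hp hp'
    rw [conj_smul_conj_smul, conj_smul_le_iff] at hle
    exact hle p ⟨hp, hP.le hp, hp'⟩

end CL.RC
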