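/-
Real classes of equal 2-part (S3860): covers of the groups in Hering's list with a central four-group.
-/
import Cfsg.Agent.RC.Defs2
import Cfsg.Agent.Fgs.SchurCover
import Cfsg.Agent.S2086
import Cfsg.Agent.S2088
import Cfsg.Agent.S2089
import Cfsg.Agent.S2092
import Cfsg.Agent.S2111
import Cfsg.Agent.S2112
import Cfsg.Agent.S2116
import Cfsg.Agent.S0252
import Cfsg.Agent.S0254
import Cfsg.Agent.S0892
import Cfsg.Agent.Cit.PG
import Cfsg.Agent.Cls.PSL34
import Cfsg.Agent.Chev.SzInst
import Cfsg.Agent.Chev.SzCard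

set_option autoImplicit false

open Cfsg CL.Grp Subgroup

namespace CL.RC

universe u

namespace HZ2x

theorem card_dvd {X : Type*} [Group X] (hp : Group.IsPerfect X) {K : Type*} [Group K] (e : X ⧸ center X ≃* K)
    {A : Type*} [CommGroup A] (hA : HasSchurMultiplier K A) : Nat.card (center X) ∣ Nat.card A := by
  have hk : (e.toMonoidHom.comp (QuotientGroup.mk' (center X))).ker = center X := by
    ext x
    rw [MonoidHom.mem_ker, MonoidHom.comp_apply, MulEquiv.coe_toMonoidHom, map_eq_one_iff _ e.injective,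
      QuotientGroup.mk'_apply, QuotientGroup.eq_one_iff]
  have := CL.Schur.HasSM.card_ker_dvd hA (e.toMonoidHom.comp (QuotientGroup.mk' (center X)))
    ⟨e.surjective.comp (QuotientGroup.mk'_surjective _), hk.le, by rw [hp.commutator_eq_top]; exact le_top⟩
  rwa [hk] at this

theorem card_dvd' {X : Type*} [Group X] (hp : Group.IsPerfect X) {K : Type*} [Group K] (e : X ⧸ center X ≃* K)
    {n : ℕ} (hA : HasCyclicSchurMultiplier K n) : Nat.card (center X) ∣ n := by
  have := card_dvd hp e hA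
  rwa [Nat.card_congr Multiplicative.toAdd, Nat.card_zmod] at this

/-- no element of order twice an odd number greater than one -/
def Cit (K : Type*) [Group K] : Prop := ∀ a b : K, a * b = b * a → orderOf a = 2 → Odd (orderOf b) → b = 1

theorem Cit.of_equiv {K L : Type*} [Group K] [Group L] (h : Cit L) (e : K ≃* L) : Cit K := by
  intro a b hab ha hb
  have := h (e a) (e b) (by rw [← map_mul, hab, map_mul]) (by rw [e.orderOf_eq, ha]) (by rwa [e.orderOf_eq])
  exact (map_eq_one_iff _ e.injective).1 this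

theorem cit_L34 {F : Type*} [Field F] [Fintype F] (hF : Fintype.card F = 4) :
    Cit (Matrix.ProjectiveSpecialLinearGroup (Fin 3) F) := by
  intro a b hab ha hb
  have hc : (orderOf a).Coprime (orderOf b) := by rw [ha]; exact Nat.coprime_two_left.2 hb
  have ho := Commute.orderOf_mul_eq_mul_orderOf_of_coprime (show Commute a b from hab) hc
  rw [ha] at ho
  rw [← orderOf_eq_one_iff]
  obtain ⟨k, hk⟩ := hb
  rcases CL.Cls.pow_eq_one_PSL3_four hF (a * b) with h | h | h | h <;>
    have h1 := orderOf_dvd_of_pow_eq_one h <;> rw [ho, hk] at h1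
  · exact absurd (Nat.dvd_trans (Dvd.intro _ rfl) h1) (by decide)
  · have := Nat.le_of_dvd (by decide) h1
    omega
  · exact absurd (Nat.dvd_trans (Dvd.intro _ rfl) h1) (by decide)
  · exact absurd (Nat.dvd_trans (Dvd.intro _ rfl) h1) (by decide)

theorem cit_of_isCIT {K : Type*} [Group K] (h : CL.Cit.IsCIT K) : Cit K := by
  intro a b hab ha hb
  exact (Two.of_mem (h a ha) (mem_centralizer_singleton_iff.2 hab.symm)).eq_one_of_odd hb

theorem pow_cases {n : ℕ} (hn : 2 ≤ n) : 2 ^ n = 4 ∨ (8 ≤ 2 ^ n ∧ 2 ∣ 2 ^ n) := by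
  rcases hn.eq_or_lt with rfl | h
  · left; rfl
  · right
    exact ⟨(show 2 ^ 3 ≤ 2 ^ n from Nat.pow_le_pow_right (by decide) h), dvd_pow_self 2 (by omega)⟩

end HZ2x

open HZ2x in
theorem hz2 : HZ2.{u} := by
  intro X _ _ hq hL hZ V hV hV2 h4
  have hp := hq.1
  have hVp : IsPGroup 2 V := isPGroup_of_two fun v hv => Two.of_sq (hV2 v hv)
  obtain ⟨j, hj⟩ := IsPGroup.iff_card.1 hVp
  obtain ⟨k, hk⟩ := IsPGroup.iff_card.1 hZ
  have h4' : 4 ∣ Nat.card (center X) := by
    refine Nat.dvd_trans ?_ (card_dvd_of_le hV)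
    rw [hj] at h4 ⊢
    have : 2 ≤ j := by
      by_contra h
      have : j = 0 ∨ j = 1 := by omega
      rcases this with rfl | rfl <;> omega
    exact pow_dvd_pow 2 this
  have no : ∀ {m n : ℕ}, ¬ 4 ∣ m → ¬ Nat.card (center X) ∣ Nat.gcd m n := fun hm h =>
    hm (h4'.trans (h.trans (Nat.gcd_dvd_left _ _)))
  have hA5 : ∀ {F : Type} [Field F] [Fintype F], Fintype.card F = 4 →
      (X ⧸ center X ≃* Matrix.ProjectiveSpecialLinearGroup (Fin 2) F) → False := by
    intro F _ _ hF e
    obtain ⟨e'⟩ := Cfsg.Agent.S0252.result hF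
    have := Cfsg.Agent.S0892.result 5 (by decide) (by decide) (by decide) (center X) le_rfl
      (by rw [hp.commutator_eq_top]; exact le_top) (e.trans e')
    have := Nat.le_of_dvd Nat.card_pos h4'
    omega
  have hL2 : ∀ {F : Type} [Field F] [Fintype F], 4 ≤ Fintype.card F →
      (X ⧸ center X ≃* Matrix.ProjectiveSpecialLinearGroup (Fin 2) F) → False := by
    intro F _ _ hF e
    by_cases h1 : Fintype.card F = 4
    · exact hA5 h1 e
    by_cases h2 : Fintype.card F = 9
    · obtain ⟨e'⟩ := Cfsg.Agent.S0254.result h2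
      have := h4'.trans (card_dvd' hp (e.trans e') (Cfsg.Agent.S2116.result 6 (Or.inl rfl)))
      omega
    exact no (by decide) (card_dvd' hp e (Cfsg.Agent.S2086.result rfl 2 le_rfl (fun _ => hF) (by simp [h1, h2])))
  rcases hL with ⟨F, _, _, n, hn, hF, ⟨⟨e⟩⟩ | ⟨⟨e⟩⟩ | ⟨⟨e⟩⟩⟩ | ⟨F, _, _, m, hm, hF, ⟨e⟩⟩ |
    ⟨F, _, _, n, hn, hF, ⟨e⟩⟩ | ⟨F, _, _, n, hn, -, ⟨e⟩⟩
  · exact (hL2 (by rcases pow_cases hn with h | h <;> omega) e).elim
  · rcases pow_cases hn with h | h
    · rw [h] at hF
      have h48 := card_dvd hp e (Cfsg.Agent.S2088.result hF)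
      rw [Nat.card_congr Multiplicative.toAdd, Nat.card_prod, Nat.card_prod, Nat.card_zmod, Nat.card_zmod] at h48
      refine ⟨?_, ?_, (cit_L34 hF).of_equiv e⟩
      · rw [hk] at h48 ⊢
        have : 2 ^ k ∣ 16 := (Nat.Coprime.pow_left k (by decide : Nat.Coprime 2 3)).dvd_of_dvd_mul_left h48
        exact Nat.le_of_dvd (by decide) this
      · rw [Nat.card_congr e.toEquiv, CL.Cit.card_L34 hF]; decide
    · refine (no (by decide) (card_dvd' hp e (Cfsg.Agent.S2086.result hF 3 (by decide) (by omega) ?_))).elim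
      simp only [Set.mem_insert_iff, Set.mem_singleton_iff, Prod.mk.injEq]
      omega
  · exact (no (by decide) (card_dvd' hp e (Cfsg.Agent.S2092.result hF 2 le_rfl
      (fun _ => by rcases pow_cases hn with h | h <;> omega) (by omega)))).elim
  · rcases hm.eq_or_lt with rfl | h
    · have h4 := card_dvd hp e (Cfsg.Agent.S2112.result hF)
      rw [Nat.card_congr Multiplicative.toAdd, Nat.card_prod, Nat.card_zmod] at h4
      refine ⟨(Nat.le_of_dvd (by decide) h4).trans (by decide), ?_,
        (cit_of_isCIT (CL.Cit.isCIT_of_model (CL.Chev.Sz.modelLie le_rfl hF))).of_equiv e⟩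
      rw [Nat.card_congr e.toEquiv, (CL.Chev.Sz.modelLie le_rfl hF).card_G, Nat.card_eq_fintype_card, hF]
      decide
    · have := h4'.trans (card_dvd' hp e (Cfsg.Agent.S2111.result h hF))
      omega
  · refine (no (by decide) (card_dvd' hp e (Cfsg.Agent.S2089.result 3 (2 ^ n) hF le_rfl ?_ ?_))).elim
    · rcases pow_cases hn with h | h <;> omega
    · simp only [Set.mem_insert_iff, Set.mem_singleton_iff, Prod.mk.injEq]
      omega
  · exact (hL2 hn e).elim

end CL.RC
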