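/-
Real classes of equal 2-part (S3860): the structure of `S ⊓ cen x` when Sylow 2-subgroups have order `2 c`.
-/
import Cfsg.Agent.RC.Defs2

set_option autoImplicit false
set_option linter.unusedSectionVars false
set_option linter.unusedVariables false

open Cfsg CL.Grp Subgroup

namespace CL.RC

universe u

namespace A2ax

variable {G : Type u} [Group G]

theorem comm {a : G} (ha : a ∈ om G) (g : G) : g * a = a * g := ce2_om.comm ha g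

theorem cj {a : G} (ha : a ∈ om G) (g : G) : g * a * g⁻¹ = a := by rw [comm ha, mul_inv_cancel_right]

theorem lemD {a b : G} (h : a * a = b * b) : a * (a * b⁻¹) * a⁻¹ = (a * b⁻¹)⁻¹ := by
  rw [← mul_assoc, h]; group

theorem sq_cj {u : G} (h : u * u ∈ om G) (t : G) : t * u * t⁻¹ * (t * u * t⁻¹) = u * u := by
  rw [conj_mul, cj h]

theorem inv_mul_l {x t y : G} (ht : t ∈ cen x) (hy : y * x * y⁻¹ = x⁻¹) : t * y * x * (t * y)⁻¹ = x⁻¹ := by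
  calc t * y * x * (t * y)⁻¹ = t * (y * x * y⁻¹) * t⁻¹ := by group
    _ = (t * x * t⁻¹)⁻¹ := by rw [hy]; group
    _ = x⁻¹ := by rw [mem_cen.1 ht]

/-- the dichotomy of `U1` passes to conjugates -/
theorem val_cj {u w : G} (hw : w ∈ om G)
    (hv : ∀ g : G, g * u * g⁻¹ * u⁻¹ ∈ om G → g * u * g⁻¹ = u ∨ g * u * g⁻¹ = u * w) (t g : G)
    (h : g * (t * u * t⁻¹) * g⁻¹ * (t * u * t⁻¹)⁻¹ ∈ om G) :
    g * (t * u * t⁻¹) * g⁻¹ = t * u * t⁻¹ ∨ g * (t * u * t⁻¹) * g⁻¹ = t * u * t⁻¹ * w := by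
  have e : g * (t * u * t⁻¹) * g⁻¹ = t * (t⁻¹ * g * t * u * (t⁻¹ * g * t)⁻¹) * t⁻¹ := by group
  have h1 : t⁻¹ * g * t * u * (t⁻¹ * g * t)⁻¹ * u⁻¹ ∈ om G := by
    have := cj h t⁻¹
    rw [show t⁻¹ * g * t * u * (t⁻¹ * g * t)⁻¹ * u⁻¹ =
      t⁻¹ * (g * (t * u * t⁻¹) * g⁻¹ * (t * u * t⁻¹)⁻¹) * t⁻¹⁻¹ by group, this]
    exact h
  rcases hv _ h1 with h2 | h2
  · exact .inl (by rw [e, h2])
  · exact .inr (by rw [e, h2, mul_assoc (t * u), comm hw t⁻¹]; group)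

variable [Finite G] {c : ℕ} {S : Subgroup G} {x y : G}

/-- the hypotheses used below -/
structure Hy (c : ℕ) (S : Subgroup G) (x y : G) : Prop where
  hh : HH G c
  cfg : Cfg c x S
  yS : y ∈ S
  yx : y * x * y⁻¹ = x⁻¹
  ysq : y * y ∈ om G
  f3 : ∀ v ∈ S ⊓ cen x, ∀ r ∈ cen x, ∀ s, r * v * r⁻¹ = v⁻¹ → s * x * s⁻¹ = x⁻¹ → s * v * s⁻¹ = v → v ∈ om G
  u1 : ∀ u : G, UU u → ∃ w ∈ om G, w ≠ 1 ∧
    (∀ g : G, g * u * g⁻¹ * u⁻¹ ∈ om G → g * u * g⁻¹ = u ∨ g * u * g⁻¹ = u * w) ∧ (u * u = 1 ∨ u * u = w)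

namespace Hy

variable (h : Hy c S x y)
include h

theorem yn : y ∉ cen x := fun e => ne_inv_of_odd h.cfg.ne h.cfg.odd ((mem_cen.1 e).symm.trans h.yx)

theorem one {u : G} (hu : u ∈ S ⊓ cen x) (h2 : u * u ∈ om G) : y * u * y⁻¹ * u⁻¹ ∈ om G := by
  have hb := h.cfg.conj_mem h.yS hu
  have e1 := lemD (sq_cj h2 y).symm
  have e2 : y * (u * (y * u * y⁻¹)⁻¹) * y⁻¹ = (u * (y * u * y⁻¹)⁻¹)⁻¹ := by
    calc y * (u * (y * u * y⁻¹)⁻¹) * y⁻¹ = y * u * y⁻¹ * (y * y * u⁻¹ * (y * y)⁻¹) := by group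
      _ = _ := by rw [← comm h.ysq, mul_inv_cancel_right]; group
  have := h.f3 _ (mul_mem hu (inv_mem hb)) u hu.2 (u * y) e1 (inv_mul_l hu.2 h.yx) (by
    calc u * y * (u * (y * u * y⁻¹)⁻¹) * (u * y)⁻¹ = u * (y * (u * (y * u * y⁻¹)⁻¹) * y⁻¹) * u⁻¹ := by group
      _ = (u * (u * (y * u * y⁻¹)⁻¹) * u⁻¹)⁻¹ := by rw [e2]; group
      _ = _ := by rw [e1, inv_inv])
  simpa using inv_mem this

/-- if `y` centralizes `u * (t u t⁻¹)⁻¹` then `[t, u] ∈ om G` -/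
theorem two {u t : G} (hu : u ∈ S ⊓ cen x) (h2 : u * u ∈ om G) (ht : t ∈ S ⊓ cen x)
    (e : y * (u * (t * u * t⁻¹)⁻¹) * y⁻¹ = u * (t * u * t⁻¹)⁻¹) : t * u * t⁻¹ * u⁻¹ ∈ om G := by
  have := h.f3 _ (mul_mem hu (inv_mem (mul_mem (mul_mem ht hu) (inv_mem ht)))) u hu.2 y
    (lemD (sq_cj h2 t).symm) h.yx e
  simpa using inv_mem this

theorem invol {u : G} (hu : u ∈ S ⊓ cen x) (h2 : u * u = 1) {t : G} (ht : t ∈ S ⊓ cen x) : t * u = u * t := by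
  by_cases hc : u ∈ center G
  · exact mem_center_iff.1 hc t
  have h2' : u * u ∈ om G := h2 ▸ one_mem _
  obtain ⟨w, hw, -, hv, -⟩ := h.u1 u ⟨isConj_inv_of_sq h2, hc, h2'⟩
  have k : ∀ t ∈ S ⊓ cen x, y * (t * u * t⁻¹) * y⁻¹ = t * u * t⁻¹ * w := fun t ht => by
    have hm := mul_mem (mul_mem ht hu) (inv_mem ht)
    refine (val_cj hw hv t y (h.one hm (by rwa [sq_cj h2']))).resolve_left fun e => hc ?_
    have := h.f3 _ hm 1 (one_mem _) y (by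
      rw [one_mul, inv_one, mul_one]; exact eq_inv_of_mul_eq_one_left (by rw [sq_cj h2', h2])) h.yx e
    have h3 := cj this t⁻¹
    rw [show t⁻¹ * (t * u * t⁻¹) * t⁻¹⁻¹ = u by group] at h3
    rw [h3]; exact this.1
  have k1 := k 1 (one_mem _)
  rw [one_mul, inv_one, mul_one] at k1
  have h3 := h.two hu h2' ht (by
    calc y * (u * (t * u * t⁻¹)⁻¹) * y⁻¹ = y * u * y⁻¹ * (y * (t * u * t⁻¹) * y⁻¹)⁻¹ := by group
      _ = _ := by rw [k1, k t ht]; group)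
  rcases hv t h3 with e | e
  · exact mul_inv_eq_iff_eq_mul.1 e
  · refine absurd (h.f3 u hu 1 (one_mem _) (t * y) (by
      rw [one_mul, inv_one, mul_one]; exact eq_inv_of_mul_eq_one_left h2) (inv_mul_l ht.2 h.yx) ?_).1 hc
    calc t * y * u * (t * y)⁻¹ = t * (y * u * y⁻¹) * t⁻¹ := by group
      _ = t * u * t⁻¹ * (t * w * t⁻¹) := by rw [k1]; group
      _ = u := by rw [e, cj hw, mul_assoc, hw.2, mul_one]

theorem cent (f2 : F2.{u}) {u : G} (hu : u ∈ S ⊓ cen x) (hU : UU u) {r : G} (hr : r ∈ S ⊓ cen x) : r * u = u * r := by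
  obtain ⟨w, hw, -, hv, h2 | h2⟩ := h.u1 u hU
  · exact h.invol hu h2 hr
  have h2' := hU.2.2
  have hi : ∀ t : G, t * u * t⁻¹ * w = (t * u * t⁻¹)⁻¹ := fun t =>
    eq_inv_of_mul_eq_one_right (by rw [← mul_assoc, sq_cj h2', h2, hw.2])
  by_cases hA : ∀ t ∈ S ⊓ cen x, y * (t * u * t⁻¹) * y⁻¹ = t * u * t⁻¹
  · have k1 := hA 1 (one_mem _)
    rw [one_mul, inv_one, mul_one] at k1
    have h3 := h.two hu h2' hr (by
      calc y * (u * (r * u * r⁻¹)⁻¹) * y⁻¹ = y * u * y⁻¹ * (y * (r * u * r⁻¹) * y⁻¹)⁻¹ := by group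
        _ = _ := by rw [k1, hA r hr])
    rcases hv r h3 with e | e
    · exact mul_inv_eq_iff_eq_mul.1 e
    · exact absurd (h.f3 u hu r hr.2 y (by rw [e]; simpa using hi 1) h.yx k1).1 hU.2.1
  push Not at hA
  obtain ⟨t, ht, hA⟩ := hA
  have hm := mul_mem (mul_mem ht hu) (inv_mem ht)
  have e1 := (val_cj hw hv t y (h.one hm (by rwa [sq_cj h2']))).resolve_left hA
  rw [hi] at e1
  obtain ⟨T, hT, h4, h5, -⟩ := f2 G c x _ y h.hh h.cfg.ne h.cfg.odd (Two.of_mem h.cfg.two hm.1) hm.2 h.yx e1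
  have := Fact.mk Nat.prime_two
  obtain ⟨g, -, hg⟩ := (hT.syl0 h.hh).exists_conj_eq (h.cfg.syl0 h.hh)
  obtain ⟨e, he⟩ : ∃ e, e = g * (t * u * t⁻¹) * g⁻¹ := ⟨_, rfl⟩
  have heR : e ∈ S ⊓ cen x := hg ▸ he ▸ conj_mem_conj_smul g (H := T ⊓ cen x) ⟨h4, hm.2⟩
  have hc : ∀ p ∈ S ⊓ cen x, p * e = e * p := fun p hp => by
    rw [← hg, mem_conj_smul_iff] at hp
    have := h5 _ hp.1 hp.2
    rw [← mul_inv_eq_iff_eq_mul, he]
    nth_rewrite 2 [← this]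
    group
  have hee : e * e = w := by rw [he, conj_mul, sq_cj h2', h2, cj hw]
  have h6 := h.invol (mul_mem hu heR) (by
    rw [mul_assoc, ← mul_assoc e, ← hc u hu, mul_assoc, hee, ← mul_assoc, h2, hw.2]) hr
  rwa [mul_assoc, ← hc r hr, ← mul_assoc, ← mul_assoc, mul_left_inj] at h6

theorem out (f2 : F2.{u}) {u : G} (hu : u ∈ S ⊓ cen x) (hU : UU u) {s : G} (hs : s ∈ S) (hs' : s ∉ cen x) :
    s * u * s⁻¹ * u⁻¹ ∈ om G ∧ s * u * s⁻¹ ≠ u := by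
  refine ⟨?_, fun e => ?_⟩
  · have ht := h.cfg.mul_mem (inv_mem h.yS) hs (fun e => h.yn (inv_mem_iff.1 e)) hs'
    have e : s * u * s⁻¹ = y * u * y⁻¹ := by
      calc s * u * s⁻¹ = y * (y⁻¹ * s * u) * s⁻¹ := by group
        _ = _ := by rw [h.cent f2 hu hU ht]; group
    rw [e]; exact h.one hu hU.2.2
  · have hle : S ≤ cen u := h.cfg.le_of (fun r hr => mem_cen'.2 (h.cent f2 hu hU hr)) hs hs' (mem_cen.2 e)
    exact absurd ((h.hh u hU.1 hU.2.1).2 S h.cfg.two hle) (not_le.2 h.cfg.lt_card)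

end Hy

end A2ax

theorem a2a (h1 : F1.{u}) (h2 : F2.{u}) (h3 : F3.{u}) (h4 : U1.{u}) (h5 : TT.{u}) : A2a.{u} := by
  intro G _ _ c L S x hA
  obtain ⟨y, hyS, hyU, hyx⟩ := hA.yex
  have h : A2ax.Hy c S x y := ⟨hA.hh, hA.cfg, hyS, hyx, hyU.2.2.2,
    fun v hv r hr s e1 e2 e3 => h3 G c x v r s hA.hh hA.cfg.ne hA.cfg.odd (Two.of_mem hA.cfg.two hv.1) hv.2 hr e1 e2 e3,
    fun u hu => h4 G c S u hA.hh hA.syl hA.cfg.card hu⟩
  refine ⟨fun u hu e r hr => h.invol hu e hr,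
    fun u hu hU => ⟨fun r hr => h.cent h2 hu hU hr, fun s hs hs' => h.out h2 hu hU hs hs'⟩, fun e he => ?_⟩
  have := Fact.mk Nat.prime_two
  have := hA.nrm
  have hP : IsSylowIn 2 (S ⊓ L) L := hA.syl.inf_of_normalized le_top (by rw [normalizer_eq_top])
  obtain ⟨l, hl, hl'⟩ := h5 G L (S ⊓ L) (S ⊓ cen x ⊓ L) e hA.qs hP (inf_le_inf_right _ inf_le_left)
    (relIndex_eq_two_iff_exists_notMem_and.2 ⟨y, ⟨hyS, hyU.1⟩, fun e => h.yn e.1.2, fun b hb => by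
      by_cases hb' : b ∈ cen x
      · exact .inr ⟨⟨hb.1, hb'⟩, hb.2⟩
      · exact .inl ⟨hA.cfg.mul_mem hb.1 hyS hb' h.yn, mul_mem hb.2 hyU.1⟩⟩)
    (fun z hz => ⟨⟨(hA.qs.zc_le hP hz).1, mem_cen'.2 (hz.2 x hA.xL).symm⟩, hz.1⟩) he.1
    (mem_zc_of_center he.2.2.2.1 (mul_mem he.1 he.1))
  exact ⟨l, hl, hl'.1⟩

end CL.RC
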