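/-
Real classes of equal 2-part (S3860): job A2b.
-/
import Cfsg.Agent.RC.Defs2

set_option autoImplicit false

open Cfsg CL.Grp Subgroup

namespace CL.RC

universe u

namespace A2bx

variable {G : Type u} [Group G] {c : ℕ} {L S : Subgroup G} {x u w a l : G}

theorem om_conj (ha : a ∈ om G) (g : G) : g * a * g⁻¹ = a := by rw [ce2_om.comm ha g, mul_inv_cancel_right]

/-- the conclusion of `U1` -/
def W (u w : G) : Prop := w ∈ om G ∧ w ≠ 1 ∧
  (∀ g : G, g * u * g⁻¹ * u⁻¹ ∈ om G → g * u * g⁻¹ = u ∨ g * u * g⁻¹ = u * w) ∧ (u * u = 1 ∨ u * u = w)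

theorem W.conj (h : W u w) (l : G) : W (l * u * l⁻¹) w := by
  obtain ⟨h1, h2, h3, h4⟩ := h
  refine ⟨h1, h2, fun g hg => ?_, ?_⟩
  · have e : g * (l * u * l⁻¹) * g⁻¹ = l * (l⁻¹ * g * l * u * (l⁻¹ * g * l)⁻¹) * l⁻¹ := by group
    have := om_conj hg l⁻¹
    rcases h3 (l⁻¹ * g * l) (by convert this.symm ▸ hg using 1; group) with k | k <;> rw [e, k]
    · exact .inl rfl
    · exact .inr (by rw [← conj_mul, om_conj h1])
  · rw [conj_mul]
    exact h4.imp (fun k => by rw [k]; group) fun k => by rw [k, om_conj h1]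

theorem uu_conj (h : UU u) (g : G) : UU (g * u * g⁻¹) := by
  obtain ⟨h1, h2, h3⟩ := h
  obtain ⟨r, hr⟩ := isConj_iff.1 h1
  refine ⟨isConj_iff.2 ⟨g * r * g⁻¹, ?_⟩, fun k => h2 ?_, by rwa [conj_mul, om_conj h3]⟩
  · calc _ = g * (r * u * r⁻¹) * g⁻¹ := by group
      _ = _ := by rw [hr]; group
  · simpa [mul_assoc] using (inferInstance : (center G).Normal).conj_mem _ k g⁻¹

theorem ul_conj (h : UL L u) (hl : l ∈ L) : UL L (l * u * l⁻¹) := by
  obtain ⟨h1, h2, ⟨r, hr, e⟩, h4⟩ := h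
  refine ⟨mul_mem (mul_mem hl h1) (inv_mem hl), fun k => h2 ?_,
    ⟨l * r * l⁻¹, mul_mem (mul_mem hl hr) (inv_mem hl), ?_⟩, by rwa [conj_mul, om_conj h4]⟩
  · simpa [mul_assoc] using (mem_normalizer_iff.1 (le_normalizer_zc L (inv_mem hl)) _).1 k
  · calc _ = l * (r * u * r⁻¹) * l⁻¹ := by group
      _ = _ := by rw [e]; group

theorem out (Z : Z1 L S x) (hu : u ∈ S ⊓ cen x) (h : UU u) (hw : W u w) {s : G} (hs : s ∈ S) (hs' : s ∉ cen x) :
    s * u * s⁻¹ = u * w :=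
  let k := (Z.uu u hu h).2 s hs hs'; (hw.2.2.1 s k.1).resolve_left k.2

variable [Finite G] (h1 : F1.{u}) (h2 : U1.{u}) (h3 : ZS.{u}) (A : A1 c L S x) (Z : Z1 L S x)

include h2 A in
theorem exW (h : UU u) : ∃ w, W u w := h2 G c S u A.hh A.syl A.cfg.card h

include h1 h2 A Z in
theorem same (hu : u ∈ S ⊓ cen x) (h : UU u) (hl : l * u * l⁻¹ ∈ S ⊓ cen x) : l * u * l⁻¹ * u⁻¹ ∈ om G := by
  obtain ⟨w, hw⟩ := exW h2 A h
  obtain ⟨s, hs, hs'⟩ := A.cfg.exists_notMem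
  have e1 := out Z hu h hw hs hs'
  have e2 := out Z hl (uu_conj h l) (hw.conj l) hs hs'
  have c2 := (Z.uu _ hl (uu_conj h l)).1
  have sq : l * u * l⁻¹ * (l * u * l⁻¹) = u * u := by rw [conj_mul, om_conj h.2.2]
  generalize l * u * l⁻¹ = v at *
  have c1 := (Z.uu u hu h).1
  have k : u * v ∈ om G := by
    refine h1 G c _ S A.hh (isConj_inv_of_sq ?_) A.cfg.two (A.cfg.le_of (fun r hr => mem_cen'.2 ?_) hs hs'
      (mem_cen.2 ?_)) A.cfg.lt_card
    · calc u * v * (u * v) = u * (v * u) * v := by group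
        _ = u * u * (v * v) := by rw [c1 v hl]; group
        _ = 1 := by rw [sq, h.2.2.2]
    · rw [← mul_assoc, c1 r hr, mul_assoc, c2 r hr, mul_assoc]
    · rw [← conj_mul, e1, e2, mul_assoc, ← mul_assoc w, ← ce2_om.comm hw.1 v, mul_assoc v, hw.1.2, mul_one]
  have := mul_mem (inv_mem h.2.2) k
  rwa [show (u * u)⁻¹ * (u * v) = u⁻¹ * (v * u) * u⁻¹ by group, c1 v hl, inv_mul_cancel_left] at this

include h1 h2 h3 A Z in
theorem step (hu : u ∈ S ⊓ cen x) (h : UL L u) : ∃ l ∈ L, l * u * l⁻¹ ∈ S ∧ l * u * l⁻¹ ∉ cen x := by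
  have := A.nrm
  obtain ⟨l, hl, k1, k2⟩ := h3 G L (S ⊓ L) u A.qs (IsSylowIn.inf_of_normalized A.syl le_top (normalizer_eq_top L).ge) ⟨hu.1, h.1⟩ h.2.1
    (mem_zc_of_center h.2.2.2.1 (mul_mem h.1 h.1))
  exact ⟨l, hl, k1.1, fun k => k2 (mem_zc_of_center (same h1 h2 A Z hu h.uu ⟨k1.1, k⟩).1
    (mul_mem k1.2 (inv_mem h.1)))⟩

end A2bx

open A2bx in
theorem a2b (h1 : F1.{u}) (h2 : U1.{u}) (h3 : ZS.{u}) (_h4 : EX.{u}) : A2b.{u} := by
  intro G _ _ c L S x A Z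
  obtain ⟨y₀, -, hy₀, -⟩ := A.yex
  obtain ⟨l₀, hl₀, hu⟩ := Z.rep y₀ hy₀
  have hU := ul_conj hy₀ hl₀
  generalize l₀ * y₀ * l₀⁻¹ = u at hu hU
  obtain ⟨z, hz⟩ := exW h2 A hU.uu
  obtain ⟨l, hl, vS, vR⟩ := step h1 h2 h3 A Z hu hU
  have hv := hz.conj l
  have hV := ul_conj hU hl
  have sq : l * u * l⁻¹ * (l * u * l⁻¹) = u * u := by rw [conj_mul, om_conj hU.2.2.2]
  generalize l * u * l⁻¹ = v at *
  have all : ∀ e, UL L e → W e z := fun e he => by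
    obtain ⟨w, hw⟩ := exW h2 A he.uu
    obtain ⟨m, hm, hR⟩ := Z.rep e he
    have k := out Z hR (ul_conj he hm).uu (hw.conj m) vS vR
    generalize m * e * m⁻¹ = e' at *
    have k1 : e' * v * e'⁻¹ = v * w := by
      calc e' * v * e'⁻¹ = e' * (v * e' * v⁻¹)⁻¹ * v := by group
        _ = e' * w⁻¹ * e'⁻¹ * v := by rw [k]; group
        _ = _ := by rw [om_conj (inv_mem hw.1), ce2_om.inv_eq hw.1, ce2_om.comm hw.1]
    rcases hv.2.2.1 e' (by rw [k1, om_conj hw.1]; exact hw.1) with k2 | k2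
    · exact absurd (by simpa [k1] using k2) hw.2.1
    · rwa [← mul_left_cancel (k1.symm.trans k2)]
  have e1 := out Z hu hU.uu hz vS vR
  have cz := ce2_om.comm hz.1
  have f2 : u * v * (u * v) = z := by
    calc u * v * (u * v) = u * (v * u * v⁻¹) * (v * v) := by group
      _ = u * u * z * (u * u) := by rw [e1, sq]; group
      _ = z := by rw [cz, mul_assoc, hU.2.2.2.2, mul_one]
  have fL : u * v ∈ L := mul_mem hU.1 hV.1
  have hF : UL L (u * v) := by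
    refine ⟨fL, fun k => vR (((cen x).mul_mem_cancel_left hu.2).1 (mem_cen'.2 (k.2 x A.xL).symm)), ⟨v, hV.1, ?_⟩,
      f2.symm ▸ hz.1⟩
    refine eq_inv_of_mul_eq_one_left ?_
    calc v * (u * v) * v⁻¹ * (u * v) = (v * u * v⁻¹) * v * (u * v) := by group
      _ = u * (z * v) * (u * v) := by rw [e1]; group
      _ = u * v * (z * (u * v)) := by rw [← cz v]; group
      _ = 1 := by rw [← cz, ← mul_assoc, f2, hz.1.2]
  obtain ⟨m, hm, yR⟩ := Z.rep _ hF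
  have yU := ul_conj hF hm
  have ysq : m * (u * v) * m⁻¹ * (m * (u * v) * m⁻¹) = z := by rw [conj_mul, f2, om_conj hz.1]
  obtain ⟨n, hn, iS, iR⟩ := step h1 h2 h3 A Z yR yU
  exact ⟨z, _, _, hz.1, hz.2.1, fun e he => (all e he).2.2.1, fun e he => (all e he).2.2.2, yR, yU, ysq, iS, iR,
    ul_conj yU hn, by rw [conj_mul, ysq, om_conj hz.1]⟩

end CL.RC
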