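/-
Real classes of equal 2-part (S3860): elements of `R ⊓ L` inverted by `i` are central in `R ⊓ L`.
-/
import Cfsg.Agent.RC.Defs2

set_option autoImplicit false

open Cfsg CL.Grp Subgroup

namespace CL.RC

universe u

theorem a3 (h1 : F1.{u}) (h2 : F2.{u}) (h3 : R4.{u}) (h4 : NN.{u}) : A3.{u} := by
  intro G _ _ c L S x z y i a z1 z2
  have syl : ∀ T, Cfg c x T → IsSylowIn 2 (T ⊓ cen x ⊓ L) (cen x ⊓ L) := fun T hT => by
    have := (hT.syl0 a.hh).inf_of_normalized (N := cen x ⊓ L) inf_le_left fun g hg =>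
      mem_normalizer_fintype fun h hh => ⟨(cen x).mul_mem ((cen x).mul_mem hg hh.1) (inv_mem hg), a.nrm.conj_mem _ hh.2 g⟩
    rwa [inf_assoc, ← inf_assoc (cen x), inf_idem, ← inf_assoc] at this
  have sR := syl S a.cfg
  have iu : ∀ u ∈ S ⊓ cen x, UL L u → i * u * i⁻¹ = u * z := fun u hu hU =>
    let ⟨h, h'⟩ := (z1.uu u hu hU.uu).2 i z2.iS z2.iR
    (z2.val u hU i h).resolve_left h'
  rcases h4 G _ _ sR with ⟨K, KH, HK, oK, dec⟩ | ⟨y0, hy0, ⟨r, hr, e⟩, x1, hx1, ox, hy, hy1⟩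
  · intro v hv hi r hr
    obtain ⟨T', cT, -, hT, -⟩ := h2 G c x v i a.hh a.cfg.ne a.cfg.odd (Two.of_mem sR.isPGroup hv) hv.1.2
      (a.cfg.inv z2.iS z2.iR) hi
    obtain ⟨h, hH, hle⟩ := (syl T' cT).exists_conj_le sR.isPGroup sR.le
    obtain ⟨k, hk, p, hp, rfl⟩ := dec h hH
    have h5 := (conj_smul_le_iff _ _ _).1 hle _ (mul_mem (mul_mem (inv_mem hp) hr) hp)
    rw [show k * p * (p⁻¹ * r * p) * (k * p)⁻¹ = k * (r * k⁻¹ * r⁻¹) * r by group] at h5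
    have cj : ∀ g ∈ S ⊓ cen x ⊓ L, ∀ k ∈ K, g * k * g⁻¹ ∈ K := fun g hg k hk =>
      (mem_normalizer_iff.1 (HK (sR.le hg)) k).1 hk
    have hk' : k * (r * k⁻¹ * r⁻¹) ∈ K := mul_mem hk (cj r hr _ (inv_mem hk))
    have h6 := mul_inv_eq_iff_eq_mul.1 (hT _ h5.1.1 h5.1.2)
    generalize k * (r * k⁻¹ * r⁻¹) = k' at hk' h6
    have h7 : v * r * v⁻¹ * r⁻¹ = (v * k' * v⁻¹)⁻¹ * k' := by
      calc v * r * v⁻¹ * r⁻¹ = (v * k' * v⁻¹)⁻¹ * (v * (k' * r)) * v⁻¹ * r⁻¹ := by group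
        _ = _ := by rw [← h6]; group
    have h8 : v * r * v⁻¹ * r⁻¹ = 1 :=
      (Two.of_mem sR.isPGroup (mul_mem (mul_mem (mul_mem hv hr) (inv_mem hv)) (inv_mem hr))).eq_one_of_odd
        (oK.of_dvd_nat (orderOf_dvd_natCard K (h7 ▸ mul_mem (inv_mem (cj v hv _ hk')) hk')))
    exact (mul_inv_eq_iff_eq_mul.1 (mul_inv_eq_one.1 h8)).symm
  · exfalso
    by_cases h : y0 * y0 = 1
    · have h' : x1 * y0 * x1⁻¹ * (x1 * y0 * x1⁻¹) = 1 := by rw [conj_mul, h, mul_one, mul_inv_cancel]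
      have u0 : UL L y0 := ⟨hy0.2, fun hz => hy (mem_cen'.2 (hz.2 x1 hx1.2).symm), realIn_of_sq L h, h ▸ one_mem _⟩
      have u1 : UL L (x1 * y0 * x1⁻¹) := ⟨hy1.2, fun hz => hy (mem_cen'.2 (by
        have := hz.2 x1 hx1.2
        rw [inv_mul_cancel_right, mul_right_inj, mul_inv_eq_iff_eq_mul] at this
        exact this.symm)), realIn_of_sq L h', h' ▸ one_mem _⟩
      have i0 := iu _ hy0.1 u0
      have i1 := iu _ hy1.1 u1
      have c0 := z1.inv _ hy0.1 h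
      have c1 := z1.inv _ hy1.1 h'
      have key : x1 * y0 * x1⁻¹ * y0 ∈ om G := by
        generalize x1 * y0 * x1⁻¹ = y1 at hy1 h' i1 c1
        refine h1 G c _ S a.hh (isConj_inv_of_sq ?_) a.cfg.two (a.cfg.le_of (fun g hg => mem_cen'.2 ?_) z2.iS z2.iR
          (mem_cen.2 ?_)) a.cfg.lt_card
        · rw [mul_assoc, ← mul_assoc y0, ← c0 _ hy1.1, mul_assoc, h, mul_one, h']
        · rw [← mul_assoc, c1 g hg, mul_assoc, c0 g hg, mul_assoc]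
        · rw [← conj_mul, i0, i1, mul_assoc, ← mul_assoc z, ← ce2_om.comm z2.zom, mul_assoc, z2.zom.2, mul_one]
      exact hy (mem_cen'.2 (mem_cen'.1 (mem_cen_of_odd_of_stb ce2_om ((mem_stb ce2_om.cen).2
        (by rwa [inv_eq_of_mul_eq_one_right h])) ox)).symm)
    · obtain ⟨k, k1, k2⟩ := (Two.of_mem sR.isPGroup hy0).exists_four h
      have e' := conj_pow_inv e k
      have re : IsConj (y0 ^ k) (y0 ^ k)⁻¹ := isConj_iff.2 ⟨r, e'⟩
      rw [(z1.uu _ (pow_mem hy0.1 k) ⟨re, fun hc => k1 (sq_eq_one_of_real_of_center re hc),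
        h3 G c _ a.hh re k2⟩).1 r hr.1, mul_inv_cancel_right] at e'
      exact k1 (eq_inv_iff_mul_eq_one.1 e')

end CL.RC
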