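/-
Real classes of equal 2-part (S3860): the case where `i` centralizes only the centre in `R ⊓ L`.
-/
import Cfsg.Agent.RC.Defs2
import Cfsg.Agent.Grp.PGroupCyc

set_option autoImplicit false

open Cfsg CL.Grp Subgroup
open scoped commutatorElement

namespace CL.RC

universe u

namespace A4ax

variable {G : Type*} [Group G]

theorem th_inv {i z : G} (hz : z ∈ center G) (hi : i * i = z) (r : G) :
    i * (r * i * r⁻¹ * i⁻¹) * i⁻¹ = (r * i * r⁻¹ * i⁻¹)⁻¹ := by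
  have h := mem_center_iff.1 (inv_mem hz) r⁻¹
  calc i * (r * i * r⁻¹ * i⁻¹) * i⁻¹ = i * r * i * (r⁻¹ * (i * i)⁻¹) := by group
    _ = i * r * i * ((i * i)⁻¹ * r⁻¹) := by rw [hi, h]
    _ = (r * i * r⁻¹ * i⁻¹)⁻¹ := by group

theorem th_mem {R : Subgroup G} {i r : G} (hR : ∀ r ∈ R, i * r * i⁻¹ ∈ R) (hr : r ∈ R) :
    r * i * r⁻¹ * i⁻¹ ∈ R := by
  have := R.mul_mem hr (hR _ (R.inv_mem hr))
  simpa only [mul_assoc] using this

theorem core [Finite G] (R P : Subgroup G) (i z : G) (h2 : IsPGroup 2 R) (hz : z ∈ center G)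
    (hzz : z * z = 1) (hi : i * i = z) (hR : ∀ r ∈ R, i * r * i⁻¹ ∈ R)
    (hJ : ∀ v ∈ R, i * v * i⁻¹ = v⁻¹ → ∀ r ∈ R, r * v = v * r)
    (hK : ∀ r ∈ R, i * r = r * i → ∀ r' ∈ R, r' * r = r * r')
    (h1 : ∀ r ∈ R, r * i * r⁻¹ * i⁻¹ * (r * i * r⁻¹ * i⁻¹) = 1 →
      r * i * r⁻¹ * i⁻¹ = 1 ∨ r * i * r⁻¹ * i⁻¹ = z)
    (hP : ∀ a ∈ P, a ∈ R ∨ ∃ r ∈ R, a = r * i) :
    ∀ c ∈ ⁅P, P⁆, ∃ r ∈ R, c = r * i * r⁻¹ * i⁻¹ := by
  have : Fact (Nat.Prime 2) := ⟨Nat.prime_two⟩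
  have hc : ∀ r ∈ R, ∀ s ∈ R, s * (r * i * r⁻¹ * i⁻¹) = (r * i * r⁻¹ * i⁻¹) * s :=
    fun r hr => hJ _ (th_mem hR hr) (th_inv hz hi r)
  let f : R →* G := MonoidHom.mk' (fun r => (r : G) * i * (r : G)⁻¹ * i⁻¹) (fun a b => by
    have e1 := hc b b.2 a a.2
    have e2 := hc b b.2 _ (th_mem hR a.2)
    simp only [coe_mul]
    calc (a : G) * b * i * ((a : G) * b)⁻¹ * i⁻¹
        = ((a : G) * ((b : G) * i * (b : G)⁻¹ * i⁻¹)) * i * (a : G)⁻¹ * i⁻¹ := by group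
      _ = ((b : G) * i * (b : G)⁻¹ * i⁻¹) * ((a : G) * i * (a : G)⁻¹ * i⁻¹) := by rw [e1]; group
      _ = _ := e2.symm)
  have hf : ∀ r : R, f r = (r : G) * i * (r : G)⁻¹ * i⁻¹ := fun _ => rfl
  have hJR : f.range ≤ R := by
    rintro _ ⟨r, rfl⟩
    exact th_mem hR r.2
  have hcyc : IsCyclic f.range := by
    by_contra hn
    have h4 := sq_le_card_omegaOne_of_not_isCyclic (h2.to_le hJR) ⟨⟨fun a b => Subtype.ext (by
      obtain ⟨_, r, rfl⟩ := b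
      exact hc r r.2 _ (hJR a.2))⟩⟩ hn
    have hle : omegaOne 2 f.range ≤ zpowers z := by
      refine (closure_le _).2 ?_
      rintro _ ⟨⟨r, rfl⟩, hr⟩
      rcases h1 r r.2 (by rw [← pow_two]; exact hr) with h | h
      · rw [hf, h]; exact one_mem _
      · rw [hf, h]; exact mem_zpowers z
    have h5 := card_le_of_le hle
    rw [Nat.card_zpowers] at h5
    have h6 : orderOf z ≤ 2 := orderOf_le_of_pow_eq_one (by norm_num) (by rw [pow_two, hzz])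
    omega
  have hcomm : ∀ a ∈ R, ∀ b ∈ R, a * b = b * a := by
    have := f.rangeRestrict.isMulCommutative_of_isCyclic_of_ker_le_center (fun r hr => by
      rw [MonoidHom.ker_rangeRestrict, MonoidHom.mem_ker, hf] at hr
      refine mem_center_iff.2 fun s => Subtype.ext (hK r r.2 ?_ s s.2)
      calc i * r = (r * i * (r : G)⁻¹ * i⁻¹) * (i * r) := by rw [hr, one_mul]
        _ = r * i := by group)
    exact fun a ha b hb => congrArg Subtype.val (this.is_comm.comm (⟨a, ha⟩ : R) ⟨b, hb⟩)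
  have hmix : ∀ r ∈ R, ∀ s ∈ R, ⁅r, s * i⁆ ∈ f.range := by
    intro r hr s hs
    refine ⟨⟨r, hr⟩, ?_⟩
    rw [hf, commutatorElement_def]
    have e1 := hcomm r hr s hs
    have e2 := hc r hr s hs
    calc r * i * r⁻¹ * i⁻¹ = (r * i * r⁻¹ * i⁻¹) * s * s⁻¹ := by group
      _ = (s * r) * i * r⁻¹ * i⁻¹ * s⁻¹ := by rw [← e2]; group
      _ = r * (s * i) * r⁻¹ * (s * i)⁻¹ := by rw [← e1]; group
  have hle : ⁅P, P⁆ ≤ f.range := by
    refine commutator_le.2 fun a ha b hb => ?_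
    rcases hP a ha with ha | ⟨r, hr, rfl⟩ <;> rcases hP b hb with hb | ⟨s, hs, rfl⟩
    · rw [commutatorElement_eq_one_iff_mul_comm.2 (hcomm a ha b hb)]
      exact one_mem _
    · exact hmix a ha s hs
    · rw [← commutatorElement_inv]
      exact inv_mem (hmix b hb r hr)
    · refine ⟨⟨r * s⁻¹, R.mul_mem hr (R.inv_mem hs)⟩, ?_⟩
      rw [hf, commutatorElement_def]
      have e := hcomm _ (R.inv_mem hs) _ (hR _ (R.mul_mem hs (R.inv_mem hr)))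
      calc r * s⁻¹ * i * (r * s⁻¹)⁻¹ * i⁻¹ = r * (s⁻¹ * (i * (s * r⁻¹) * i⁻¹)) := by group
        _ = r * i * (s * i) * (r * i)⁻¹ * (s * i)⁻¹ := by rw [e]; group
  intro c hc'
  obtain ⟨r, rfl⟩ := hle hc'
  exact ⟨r, r.2, rfl⟩

theorem card_le_two [Finite G] (P Z : Subgroup G) (s : G) (h : ∀ t ∈ P, t ∈ Z ∨ s * t ∈ Z) :
    Nat.card P ≤ 2 * Nat.card Z := by
  have h1 : (P : Set G) ⊆ (Z : Set G) ∪ (fun y => s⁻¹ * y) '' (Z : Set G) := by
    intro t ht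
    rcases h t ht with h | h
    · exact Or.inl h
    · exact Or.inr ⟨s * t, h, by simp⟩
  have h2 := Set.ncard_le_ncard h1
  have h3 := Set.ncard_union_le (Z : Set G) ((fun y => s⁻¹ * y) '' (Z : Set G))
  have h4 := Set.ncard_image_le (f := fun y => s⁻¹ * y) (s := (Z : Set G))
  have e1 : Nat.card P = (P : Set G).ncard := rfl
  have e2 : Nat.card Z = (Z : Set G).ncard := rfl
  omega

end A4ax

open A4ax in
theorem a4a (h1 : F1.{u}) (h2 : FO.{u}) (h3 : RK1.{u}) (h4 : KF.{u}) (h5 : CF.{u}) : A4a.{u} := by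
  intro G _ _ c L S x z y i hA hZ1 hZ2 hJ hC
  have : Fact (Nat.Prime 2) := ⟨Nat.prime_two⟩
  have hn := hA.nrm
  have hiL : i ∈ L := hZ2.iU.1
  have hsyl : ∀ T : Subgroup G, IsSylowIn 2 T ⊤ → IsSylowIn 2 (T ⊓ L) L := fun T hT =>
    hT.inf_of_normalized le_top (by rw [normalizer_eq_top])
  have hP := hsyl S hA.syl
  have hR : ∀ r ∈ S ⊓ cen x ⊓ L, i * r * i⁻¹ ∈ S ⊓ cen x ⊓ L := fun r hr =>
    ⟨hA.cfg.conj_mem hZ2.iS hr.1, hn.conj_mem _ hr.2 i⟩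
  have hone : ∀ r ∈ S ⊓ cen x ⊓ L, r * i * r⁻¹ * i⁻¹ * (r * i * r⁻¹ * i⁻¹) = 1 →
      r * i * r⁻¹ * i⁻¹ = 1 ∨ r * i * r⁻¹ * i⁻¹ = z := by
    intro r hr hj
    have hm := th_mem hR hr
    have hle : S ≤ cen (r * i * r⁻¹ * i⁻¹) :=
      hA.cfg.le_of (fun t ht => mem_cen'.2 (hZ1.inv _ hm.1 hj t ht)) hZ2.iS hZ2.iR
        (mem_cen.2 ((th_inv hZ2.zom.1 hZ2.isq r).trans (inv_eq_of_mul_eq_one_right hj)))
    have hom := h1 G c _ S hA.hh (isConj_inv_of_sq hj) hA.cfg.two hle hA.cfg.lt_card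
    rcases hZ2.val i hZ2.iU r hom with h | h
    · left
      rw [h, mul_inv_cancel]
    · right
      rw [h, mem_center_iff.1 hZ2.zom.1 i, mul_inv_cancel_right]
  have hcore := core (S ⊓ cen x ⊓ L) (S ⊓ L) i z (hA.cfg.two.to_le (inf_le_left.trans inf_le_left))
    hZ2.zom.1 hZ2.zom.2 hZ2.isq hR hJ (fun r hr h r' hr' => (hC r hr h).2 r' hr'.2) hone
    (fun a ha => by
      by_cases hx : a ∈ cen x
      · exact Or.inl ⟨⟨ha.1, hx⟩, ha.2⟩
      · refine Or.inr ⟨a * i⁻¹, ⟨hA.cfg.mul_mem ha.1 (S.inv_mem hZ2.iS) hx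
          (fun h => hZ2.iR (inv_mem_iff.1 h)), L.mul_mem ha.2 (L.inv_mem hiL)⟩, by group⟩)
  have hZsq : ∀ a ∈ zc L, a * a = 1 ∧ (a = 1 ∨ a = z) := by
    intro a ha
    obtain ⟨r, hr, rfl⟩ := hcore a (h2 G L _ hA.qs.qs hP ⟨ha, hA.qs.zc_le hP ha⟩)
    have e := th_inv hZ2.zom.1 hZ2.isq r
    rw [ha.2 i hiL, mul_inv_cancel_right] at e
    have hj := mul_eq_one_iff_eq_inv.2 e
    exact ⟨hj, hone r hr hj⟩
  have hiu : ∀ u ∈ S ⊓ cen x, UL L u → i * u * i⁻¹ = u * z := fun u hu hU =>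
    (hZ2.val u hU i ((hZ1.uu u hu hU.uu).2 i hZ2.iS hZ2.iR).1).resolve_left
      ((hZ1.uu u hu hU.uu).2 i hZ2.iS hZ2.iR).2
  have hinv : ∀ v ∈ L, v * v = 1 → v = 1 ∨ v = z := by
    intro v hv hvv
    refine (hZsq v ?_).2
    by_contra hvZ
    obtain ⟨l, hl, hw⟩ := hZ1.rep v ⟨hv, hvZ, realIn_of_sq L hvv, by rw [hvv]; exact one_mem _⟩
    have hwL : l * v * l⁻¹ ∈ L := hn.conj_mem _ hv l
    have hww : l * v * l⁻¹ * (l * v * l⁻¹) = 1 := by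
      calc l * v * l⁻¹ * (l * v * l⁻¹) = l * (v * v) * l⁻¹ := by group
        _ = 1 := by rw [hvv]; group
    have hwZ : l * v * l⁻¹ ∉ zc L := by
      intro h
      apply hvZ
      have e : v = l * v * l⁻¹ := by
        calc v = l⁻¹ * (l * v * l⁻¹) * l := by group
          _ = l * v * l⁻¹ := by rw [h.2 l⁻¹ (L.inv_mem hl)]; group
      rwa [e]
    generalize l * v * l⁻¹ = w at hw hwL hww hwZ
    have e1 := hiu w hw ⟨hwL, hwZ, realIn_of_sq L hww, by rw [hww]; exact one_mem _⟩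
    have e2 := hiu y hZ2.yR hZ2.yU
    have e3 : i * (w * y) = w * y * i := by
      calc i * (w * y) = (i * w * i⁻¹) * (i * y * i⁻¹) * i := by group
        _ = w * (z * y) * z * i := by rw [e1, e2]; group
        _ = w * y * (z * z) * i := by rw [← mem_center_iff.1 hZ2.zom.1 y]; group
        _ = w * y * i := by rw [hZ2.zom.2, mul_one]
    have e4 := (hZsq _ (hC (w * y) ⟨mul_mem hw hZ2.yR, L.mul_mem hwL hZ2.yU.1⟩ e3)).1
    have e5 := (hZ1.uu y hZ2.yR hZ2.yU.uu).1 w hw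
    apply hZ2.zne
    calc z = (w * w) * (y * y) := by rw [hww, hZ2.ysq, one_mul]
      _ = w * (w * y) * y := by group
      _ = w * y * (w * y) := by rw [e5, ← mul_assoc, mul_assoc (w * y), e5]
      _ = 1 := e4
  obtain ⟨x1, hx1L, hx1, hodd, hreal, hb⟩ := h3 G L z hA.qs hinv
  obtain ⟨T, hT, -⟩ := h5 G c x1 ⊥ hA.hh hx1 hodd hreal.isConj IsPGroup.of_bot bot_le
  have hTs : IsSylowIn 2 T ⊤ := hA.syl.of_card_le hT.two le_top (by rw [hT.card, hA.cfg.card])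
  have hK := h4 G L _ hA.qs (hsyl T hTs)
  have hpos : 0 < Nat.card (zc L) := Nat.card_pos
  obtain ⟨s, hs⟩ : ∃ s : G, ∀ t ∈ T ⊓ L, t ∈ zc L ∨ s * t ∈ zc L := by
    by_cases h : ∃ s ∈ T ⊓ L, s ∉ cen x1
    · obtain ⟨s, hs, hs'⟩ := h
      refine ⟨s, fun t ht => ?_⟩
      by_cases ht' : t ∈ cen x1
      · exact Or.inl (hb t ht.2 (Two.of_mem hT.two ht.1) ht')
      · have := hT.mul_mem hs.1 ht.1 hs' ht'
        exact Or.inr (hb _ (L.mul_mem hs.2 ht.2) (Two.of_mem hT.two this.1) this.2)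
    · push Not at h
      exact ⟨1, fun t ht => Or.inl (hb t ht.2 (Two.of_mem hT.two ht.1) (h t ht))⟩
  have := card_le_two _ _ s hs
  omega

end CL.RC
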