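/-
Real classes of equal 2-part (S3860): the case `C_{R ⊓ L}(i) ≰ Z(L)` is impossible.
-/
import Cfsg.Agent.RC.Defs2

set_option autoImplicit false

open Cfsg CL.Grp Subgroup

namespace CL.RC

universe u

namespace A4bx

variable {G : Type*} [Group G] {c : ℕ} {L S : Subgroup G} {x z y i : G}

theorem ul_conj (hn : L.Normal) {e g : G} (h : UL L e) (hg : g ∈ L) : UL L (g * e * g⁻¹) := by
  obtain ⟨h1, h2, ⟨r, hr, hr'⟩, h4⟩ := h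
  have := zc_normal L
  refine ⟨hn.conj_mem _ h1 g, fun hc => h2 ?_, ⟨g * r * g⁻¹, hn.conj_mem _ hr g, ?_⟩, ?_⟩
  · have := this.conj_mem _ hc g⁻¹
    simpa [mul_assoc] using this
  · calc g * r * g⁻¹ * (g * e * g⁻¹) * (g * r * g⁻¹)⁻¹ = g * (r * e * r⁻¹) * g⁻¹ := by group
      _ = _ := by rw [hr']; group
  · have e1 : g * e * g⁻¹ * (g * e * g⁻¹) = g * (e * e) * g⁻¹ := by group
    rw [e1, ce2_om.comm h4 g, mul_inv_cancel_right]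
    exact h4

theorem star (h1 : Z1 L S x) (h2 : Z2 L S x z y i) {e : G} (he : e ∈ S ⊓ cen x) (hU : UL L e) {s : G}
    (hs : s ∈ S) (hs' : s ∉ cen x) : s * e * s⁻¹ = e * z := by
  obtain ⟨ha, hb⟩ := (h1.uu e he hU.uu).2 s hs hs'
  exact (h2.val e hU s ha).resolve_left hb

theorem split (hA : A1 c L S x) (h2 : Z2 L S x z y i) {p : G} (hp : p ∈ S ⊓ L) (hp' : p ∉ cen x) :
    i⁻¹ * p ∈ S ⊓ cen x ⊓ L :=
  ⟨hA.cfg.mul_mem (S.inv_mem h2.iS) hp.1 (fun h => h2.iR (by simpa using (cen x).inv_mem h)) hp',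
    L.mul_mem (L.inv_mem h2.iU.1) hp.2⟩

theorem conj_RL (hA : A1 c L S x) {p k : G} (hp : p ∈ S) (hk : k ∈ S ⊓ cen x ⊓ L) :
    p * k * p⁻¹ ∈ S ⊓ cen x ⊓ L :=
  ⟨hA.cfg.conj_mem hp hk.1, hA.nrm.conj_mem _ hk.2 p⟩

theorem norm0 (hA : A1 c L S x) (h2 : Z2 L S x z y i) (hJ : ZJ L S x i) {r k : G}
    (hr : r ∈ S ⊓ cen x ⊓ L) (hk : k ∈ S ⊓ cen x ⊓ L) (hi : i * k * i⁻¹ = k) :
    i * (r * k * r⁻¹) * i⁻¹ = r * k * r⁻¹ := by
  have hj : i * r * i⁻¹ * r⁻¹ ∈ S ⊓ cen x ⊓ L := mul_mem (conj_RL hA h2.iS hr) (inv_mem hr)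
  have hz := ce2_om.comm h2.zom r
  have e : i * (i * r * i⁻¹ * r⁻¹) * i⁻¹ = (i * r * i⁻¹ * r⁻¹)⁻¹ := by
    calc i * (i * r * i⁻¹ * r⁻¹) * i⁻¹ = (i * i) * r * (i * i)⁻¹ * (i * r⁻¹ * i⁻¹) := by group
      _ = _ := by rw [h2.isq, ← hz]; group
  have h3 := hJ _ hj e _ (conj_RL hA hr.1.1 hk)
  calc i * (r * k * r⁻¹) * i⁻¹
      = (i * r * i⁻¹ * r⁻¹) * (r * (i * k * i⁻¹) * r⁻¹) * (i * r * i⁻¹ * r⁻¹)⁻¹ := by group
    _ = _ := by rw [hi, ← h3]; group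

theorem norm1 (hA : A1 c L S x) (h2 : Z2 L S x z y i) (hJ : ZJ L S x i) {p k : G}
    (hp : p ∈ S ⊓ L) (hk : k ∈ S ⊓ cen x ⊓ L) (hi : i * k * i⁻¹ = k) :
    i * (p * k * p⁻¹) * i⁻¹ = p * k * p⁻¹ := by
  by_cases h : p ∈ cen x
  · exact norm0 hA h2 hJ ⟨⟨hp.1, h⟩, hp.2⟩ hk hi
  · have h3 := norm0 hA h2 hJ (split hA h2 hp h) hk hi
    have e : p * k * p⁻¹ = i * (i⁻¹ * p * k * (i⁻¹ * p)⁻¹) * i⁻¹ := by group
    rw [e, h3, h3]

theorem exists_k [Finite G] (hA : A1 c L S x) (h2 : Z2 L S x z y i) (hJ : ZJ L S x i) {r : G}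
    (hr : r ∈ S ⊓ cen x ⊓ L) (hi : i * r = r * i) (hr' : r ∉ zc L) :
    ∃ k ∈ S ⊓ cen x ⊓ L, i * k = k * i ∧ k ∉ zc L ∧ k * k ∈ zc L ∧
      ∀ p ∈ S ⊓ L, p * k * p⁻¹ * k⁻¹ ∈ zc L := by
  have : Fact (Nat.Prime 2) := ⟨Nat.prime_two⟩
  have := hA.nrm
  have := zc_normal L
  have key : ∀ k : G, k ∈ cen i ↔ i * k * i⁻¹ = k := fun k => by
    rw [mem_cen', mul_inv_eq_iff_eq_mul, eq_comm]
  have hM : ((S ⊓ cen x ⊓ L ⊓ cen i).subgroupOf (S ⊓ L)).Normal := ⟨fun n hn g => by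
    rw [mem_subgroupOf] at hn ⊢
    exact ⟨conj_RL hA g.2.1 hn.1, (key _).2 (norm1 hA h2 hJ g.2 hn.1 ((key _).1 hn.2))⟩⟩
  have hP : IsPGroup 2 ↥(S ⊓ L) := hA.cfg.two.to_inf_left
  obtain ⟨k, hk, hkZ, hk2, hc⟩ := exists_central_mod_of_not_le hP (N := (zc L).subgroupOf (S ⊓ L))
    (M := (S ⊓ cen x ⊓ L ⊓ cen i).subgroupOf (S ⊓ L)) fun h =>
      hr' (h (x := ⟨r, hr.1.1, hr.2⟩) (mem_subgroupOf.2 ⟨hr, mem_cen'.2 hi.symm⟩))
  rw [mem_subgroupOf] at hk hkZ hk2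
  refine ⟨k, hk.1, (mem_cen'.1 hk.2).symm, hkZ, by simpa [pow_two] using hk2, fun p hp => ?_⟩
  have h3 := inv_mem (mem_subgroupOf.1 (hc ⟨p, hp⟩))
  have e : p * k * p⁻¹ * (k : G)⁻¹ = ((k : G) * p * (k : G)⁻¹ * p⁻¹)⁻¹ := by group
  rw [e]
  exact h3

theorem comm_ul (hA : A1 c L S x) (h1 : Z1 L S x) (h2 : Z2 L S x z y i) (hJ : ZJ L S x i) {k f : G}
    (hk : k ∈ S ⊓ cen x ⊓ L) (hi : i * k = k * i) (hf : f ∈ S ⊓ L) (hU : UL L f) : k * f = f * k := by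
  by_cases h : f ∈ cen x
  · exact (h1.uu f ⟨hf.1, h⟩ hU.uu).1 k hk.1
  have hr := split hA h2 hf h
  obtain ⟨r, rfl⟩ : ∃ r, f = i * r := ⟨i⁻¹ * f, by group⟩
  rw [inv_mul_cancel_left] at hr
  have hz := ce2_om.comm h2.zom
  have e : i * r * (i * r) = i * r * i⁻¹ * r * z := by
    calc i * r * (i * r) = i * r * i⁻¹ * ((i * i) * r) := by group
      _ = _ := by rw [h2.isq, ← hz r]; group
  suffices hs : k * r = r * k by
    calc k * (i * r) = i * (k * r) := by rw [← mul_assoc, ← hi, mul_assoc]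
      _ = _ := by rw [hs, mul_assoc]
  rcases h2.sq _ hU with h3 | h3
  · obtain ⟨l, hl, he⟩ := h1.rep _ hU
    have heU := ul_conj hA.nrm hU hl
    have he2 : l * (i * r) * l⁻¹ * (l * (i * r) * l⁻¹) = 1 := by
      calc l * (i * r) * l⁻¹ * (l * (i * r) * l⁻¹) = l * (i * r * (i * r)) * l⁻¹ := by group
        _ = 1 := by rw [h3]; group
    generalize l * (i * r) * l⁻¹ = w at he heU he2
    have hw := (h1.uu w he heU.uu).1
    have hy := (h1.uu y h2.yR h2.yU.uu).1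
    have hq : ∀ t ∈ S ⊓ cen x, t * (w * y) = w * y * t := fun t ht => by
      rw [← mul_assoc, hw t ht, mul_assoc, hy t ht, mul_assoc]
    have hiq : i * (w * y) * i⁻¹ = w * y := by
      calc i * (w * y) * i⁻¹ = (i * w * i⁻¹) * (i * y * i⁻¹) := by group
        _ = w * (z * y) * z := by
          rw [star h1 h2 he heU h2.iS h2.iR, star h1 h2 h2.yR h2.yU h2.iS h2.iR]; group
        _ = w * y * (z * z) := by rw [← hz y]; group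
        _ = _ := by rw [h2.zom.2, mul_one]
    have hqq : w * y * (w * y) = z := by
      calc w * y * (w * y) = w * (y * w) * y := by group
        _ = (w * w) * (y * y) := by rw [hw y h2.yR]; group
        _ = z := by rw [he2, h2.ysq, one_mul]
    have hqR : w * y ∈ S ⊓ cen x ⊓ L := mul_mem ⟨he, heU.1⟩ ⟨h2.yR, h2.yU.1⟩
    generalize w * y = q at hq hiq hqq hqR
    have e2 : i * (r * q) * i⁻¹ = (r * q)⁻¹ := by
      apply eq_inv_of_mul_eq_one_left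
      calc i * (r * q) * i⁻¹ * (r * q) = i * r * i⁻¹ * ((i * q * i⁻¹) * r) * q := by group
        _ = i * r * i⁻¹ * r * (q * q) := by rw [hiq, ← hq r hr.1]; group
        _ = 1 := by rw [hqq, ← e, h3]
    have h4 := hJ _ (mul_mem hr hqR) e2 k hk
    rw [mul_assoc r q k, ← hq k hk.1, ← mul_assoc, ← mul_assoc] at h4
    exact mul_right_cancel h4
  · rw [e, mul_eq_right] at h3
    exact hJ r hr (eq_inv_of_mul_eq_one_left h3) k hk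

theorem ul_v (hA : A1 c L S x) {k m : G} (hk : k ∈ L) (hm : m ∈ L) (hk2 : k * k ∈ zc L)
    (hm2 : m * m = k * k) (ha : m * k * m⁻¹ * k⁻¹ ∈ zc L) (hn : m * k⁻¹ ∉ zc L) : UL L (k⁻¹ * m) := by
  have := hA.nrm
  have hZ := zc_normal L
  obtain ⟨a, e⟩ : ∃ a, a = m * k * m⁻¹ * k⁻¹ := ⟨_, rfl⟩
  rw [← e] at ha
  have e1 : m * k * m⁻¹ = a * k := by rw [e]; group
  have ha2 : a * a = 1 := by
    have h3 : a * a * (k * k) = k * k := by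
      calc a * a * (k * k) = a * (a * k) * k := by group
        _ = a * (k * a) * k := by rw [ha.2 k hk]
        _ = (a * k) * (a * k) := by group
        _ = m * (k * k) * m⁻¹ := by rw [← e1]; group
        _ = k * k := by rw [hk2.2 m hm]; group
    exact mul_eq_right.1 h3
  have hao := hA.om_le a ha ha2
  have hc := ce2_om.comm hao
  have e2 : m * k⁻¹ = a * (k⁻¹ * m) := by
    calc m * k⁻¹ = (m * k * m⁻¹)⁻¹ * m := by group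
      _ = (k⁻¹ * a⁻¹) * m := by rw [e1]; group
      _ = _ := by rw [ce2_om.inv_eq hao, hc k⁻¹]; group
  have e3 : k⁻¹ * m * (k⁻¹ * m) = a := by
    calc k⁻¹ * m * (k⁻¹ * m) = k⁻¹ * (m * k⁻¹) * m := by group
      _ = (k⁻¹ * a) * k⁻¹ * (m * m) := by rw [e2]; group
      _ = a := by rw [hc k⁻¹, hm2]; group
  refine ⟨L.mul_mem (L.inv_mem hk) hm, fun h => hn ?_, ⟨k, hk, ?_⟩, by rw [e3]; exact hao⟩
  · have := hZ.conj_mem _ h k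
    simpa [mul_assoc] using this
  · apply eq_inv_of_mul_eq_one_left
    calc k * (k⁻¹ * m) * k⁻¹ * (k⁻¹ * m) = (m * k⁻¹) * (k⁻¹ * m) := by group
      _ = a * (k⁻¹ * m * (k⁻¹ * m)) := by rw [e2]; group
      _ = 1 := by rw [e3, ha2]

end A4bx

open A4bx in
theorem a4b (h1 : ZS.{u}) (h2 : EX.{u}) : A4b.{u} := by
  intro G _ _ c L S x z y i r hA hZ1 hZ2 hJ hr hi hr'
  have : Fact (Nat.Prime 2) := ⟨Nat.prime_two⟩
  have := hA.nrm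
  have hP : IsSylowIn 2 (S ⊓ L) L := hA.syl.inf_of_normalized le_top (by rw [Subgroup.normalizer_eq_top])
  obtain ⟨k, hk, hik, hkZ, hk2, hc⟩ := exists_k hA hZ2 hJ hr hi hr'
  have hkP : k ∈ S ⊓ L := ⟨hk.1.1, hk.2⟩
  obtain ⟨l, hl, hm, hn⟩ := h1 G L _ k hA.qs hP hkP hkZ hk2
  obtain ⟨g, hg, hgc, hgP⟩ := h2 G L _ k l hP hkP hc hl
  have hm2 : l * k * l⁻¹ * (l * k * l⁻¹) = k * k := by
    calc l * k * l⁻¹ * (l * k * l⁻¹) = l * (k * k) * l⁻¹ := by group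
      _ = k * k := by rw [hk2.2 l hl]; group
  generalize l * k * l⁻¹ = m at hm hn hgc hgP hm2
  have hv := ul_v hA hk.2 hm.2 hk2 hm2 (hc m hm) hn
  have hvP : k⁻¹ * m ∈ S ⊓ L := mul_mem (inv_mem hkP) hm
  obtain ⟨v, rfl⟩ : ∃ v, m = k * v := ⟨k⁻¹ * m, by group⟩
  rw [inv_mul_cancel_left] at hv hvP
  have hz := ce2_om.comm hZ2.zom
  obtain ⟨e, heP, heU, hev⟩ : ∃ e ∈ S ⊓ L, UL L e ∧ e * v * e⁻¹ = v * z := by
    by_cases h : v ∈ cen x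
    · exact ⟨i, ⟨hZ2.iS, hZ2.iU.1⟩, hZ2.iU, star hZ1 hZ2 ⟨hvP.1, h⟩ hv hZ2.iS hZ2.iR⟩
    · refine ⟨y, ⟨hZ2.yR.1, hZ2.yU.1⟩, hZ2.yU, ?_⟩
      have h3 := star hZ1 hZ2 hZ2.yR hZ2.yU hvP.1 h
      calc y * v * y⁻¹ = (y * z) * (z⁻¹ * v) * y⁻¹ := by group
        _ = (v * y * v⁻¹) * (v * z) * y⁻¹ := by rw [h3, ce2_om.inv_eq hZ2.zom, hz v]
        _ = v * (y * z) * y⁻¹ := by group
        _ = v * z := by rw [hz y]; group
  have hke := comm_ul hA hZ1 hZ2 hJ hk hik heP heU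
  have e1 : e * (k * v) * e⁻¹ * (k * v)⁻¹ = z := by
    calc e * (k * v) * e⁻¹ * (k * v)⁻¹ = (e * k) * e⁻¹ * (e * v * e⁻¹) * (k * v)⁻¹ := by group
      _ = (k * v) * z * (k * v)⁻¹ := by rw [← hke, hev]; group
      _ = z := by rw [hz]; group
  have hzZ : z ∈ zc L := mem_zc_of_center hZ2.zom.1 (hZ2.ysq ▸ L.mul_mem hZ2.yU.1 hZ2.yU.1)
  have h3 := hgP e heP (e1 ▸ hzZ)
  have h4 := comm_ul hA hZ1 hZ2 hJ hk hik h3 (ul_conj hA.nrm heU hg)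
  have h5 := hgc.2 _ h3.2
  apply hZ2.zne
  rw [← e1]
  generalize k * v = m at h5 ⊢
  calc e * m * e⁻¹ * m⁻¹
      = g⁻¹ * ((g * e * g⁻¹ * (g * m * g⁻¹ * k⁻¹)) * k) * g * e⁻¹ * m⁻¹ := by group
    _ = g⁻¹ * ((g * m * g⁻¹ * k⁻¹) * (g * e * g⁻¹ * k)) * g * e⁻¹ * m⁻¹ := by rw [h5]; group
    _ = 1 := by rw [← h4]; group

end CL.RC
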