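/-
Real classes of equal 2-part (S3860): the case `4 c ≤ |S|`.
-/
import Cfsg.Agent.RC.Defs2
import Cfsg.Agent.Grp.MinNormal
import Cfsg.Agent.S3861

set_option autoImplicit false

open Cfsg CL.Grp Subgroup
open scoped Pointwise

namespace CL.RC

universe u

namespace CBx

theorem quo_step (h6 : QUO.{u}) {H : Type u} [Group H] [Finite H] {M A : Subgroup H} {c : ℕ} (hb : HypB M A c)
    (IH : ∀ (Q : Type u) [Group Q] [Finite Q] (M' A' : Subgroup Q), Nat.card M' ≤ Nat.card M → HypB M' A' c →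
      oddCore M' = ⊥ → Clo M') :
    (pPrimeCoreOf 2 M).Normal ∧ ∀ w ∈ M, Odd (orderOf w) → RealIn M w → w ∈ pPrimeCoreOf 2 M := by
  haveI := hb.nrm
  haveI hn : (pPrimeCoreOf 2 M).Normal :=
    normalizer_eq_top_iff.1 (top_le_iff.1 (le_normalizer_of_normal.trans (normalizer_le_normalizer_pPrimeCoreOf 2 M)))
  refine ⟨hn, fun w hw ho ⟨r, hr, e⟩ => ?_⟩
  let f := QuotientGroup.mk' (pPrimeCoreOf 2 M)
  have hk : f.ker = pPrimeCoreOf 2 M := QuotientGroup.ker_mk' _
  have k : (f.subgroupMap M).ker = pPrimeCore 2 M := by rw [ker_subgroupMap, hk, pPrimeCoreOf_subgroupOf]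
  have cl := IH _ (M.map f) (A.map f) (Nat.card_le_card_of_surjective _ (f.subgroupMap_surjective M))
    (h6 H _ M A c f hb (QuotientGroup.mk'_surjective _) (by rw [hk]; exact Nat.coprime_two_right.1 (pPrimeCoreOf_coprime 2 M))
      (hk.le.trans (pPrimeCoreOf_le 2 M))) (by
      show pPrimeCore 2 _ = ⊥
      rw [← map_pPrimeCore_of_surjective (f.subgroupMap_surjective M) (k ▸ pPrimeCore_coprime 2 M),
        Subgroup.map_eq_bot_iff, k])
  by_contra n
  exact cl (f w) (mem_map_of_mem f hw) (fun e => n (hk ▸ e)) (ho.of_dvd_nat (orderOf_map_dvd f w))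
    ⟨f r, mem_map_of_mem f hr, by rw [← map_inv, ← map_mul, ← map_mul, e, map_inv]⟩

variable {G : Type u} [Group G] [Finite G]

theorem card_le {A L S : Subgroup G} [L.Normal] (hA : CE2 A) {y : G} (hy : y ∈ L) (hS : S ≤ stb A y) :
    Nat.card S ≤ Nat.card ↥(S ⊓ cen y) * Nat.card ↥(A ⊓ L) := by
  let ψ : S →* ↥(A ⊓ L) := MonoidHom.mk' (fun s => ⟨s * y * (s : G)⁻¹ * y⁻¹, (mem_stb hA.cen).1 (hS s.2),
    L.mul_mem (Normal.conj_mem inferInstance y hy s) (L.inv_mem hy)⟩) fun a b => Subtype.ext (by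
      simp only [coe_mul]
      rw [stb_mul _ (hS b.2)]
      exact hA.comm ((mem_stb hA.cen).1 (hS a.2)) _)
  have k : ψ.ker = (S ⊓ cen y).subgroupOf S := by
    ext s
    rw [MonoidHom.mem_ker, Subtype.ext_iff, mem_subgroupOf, mem_inf, mem_cen]
    exact ⟨fun h => ⟨s.2, mul_inv_eq_one.1 h⟩, fun h => mul_inv_eq_one.2 h.2⟩
  rw [← ψ.ker.index_mul_card, index_ker, mul_comm, k, Nat.card_congr (subgroupOfEquivOfLe inf_le_left).toEquiv]
  exact Nat.mul_le_mul_left _ (card_le_card_group _)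

theorem sq_one {A L : Subgroup G} (hA : CE2 A) {y l : G} (hy : y ∈ L) (h2 : y * y ∈ A)
    (h : l * y * l⁻¹ * y⁻¹ ∈ zc L) : l * y * l⁻¹ * y⁻¹ * (l * y * l⁻¹ * y⁻¹) = 1 := by
  have e := h.2 y hy
  have e2 := hA.comm h2 l
  generalize hz : l * y * l⁻¹ * y⁻¹ = z at *
  have e3 : l * y * l⁻¹ = z * y := by rw [← hz]; group
  have e4 : y * y = z * z * (y * y) := by
    calc y * y = l * (y * y) * l⁻¹ := by rw [e2]; group
      _ = (l * y * l⁻¹) * (l * y * l⁻¹) := by group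
      _ = z * (y * z) * y := by rw [e3]; group
      _ = z * z * (y * y) := by rw [e]; group
  exact (right_eq_mul.1 e4 : z * z = 1)

theorem clo {N O P : Subgroup G} (hP : IsSylowIn 2 P N) (hO : N ≤ normalizer (O : Set G))
    (hc : P ≤ centralizer (O : Set G)) (h : ∀ w ∈ N, Odd (orderOf w) → RealIn N w → w ∈ O) :
    N ≤ normalizer (P : Set G) := by
  refine (normal_subgroupOf_iff_le_normalizer hP.le).1 ((Cfsg.Agent.S3861.result hP.toSylow).1 fun x h1 ho hx => ?_)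
  obtain ⟨r, hr⟩ := isConj_iff.1 hx
  have e : (r : G) * x * (r : G)⁻¹ = (x : G)⁻¹ := congrArg Subtype.val hr
  rw [← orderOf_coe] at ho
  obtain ⟨k, hk, t⟩ := exists_odd_pow_two (r : G)
  obtain ⟨m, hm, hl⟩ := hP.exists_conj_le t.zpowers (zpowers_le.2 (pow_mem r.2 k))
  have e1 := hc ((conj_smul_le_iff ..).1 hl _ (mem_zpowers _)) _
    ((mem_normalizer_iff.1 (hO hm) _).1 (h x x.2 ho ⟨r, r.2, e⟩))
  have e2 := odd_pow_conj_inv e hk
  generalize (r : G) ^ k = s at *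
  refine ne_inv_of_odd (fun c => h1 (Subtype.ext c)) ho ?_
  rw [← e2]
  calc (x : G) = m⁻¹ * (m * x * m⁻¹ * (m * s * m⁻¹)) * m * s⁻¹ := by group
    _ = _ := by rw [e1]; group

end CBx

open CBx in
theorem cb (h1 : ST.{u}) (h2 : NQ.{u}) (h3 : RQ.{u}) (h4 : MS.{u}) (h5 : SUB.{u}) (h6 : QUO.{u}) (h7 : LV.{u})
    (h8 : HZ.{u}) : CB.{u} := by
  intro G _ _ M A c
  induction' hn : Nat.card M using Nat.strong_induction_on with n IH generalizing G
  intro hb hO
  by_contra nc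
  obtain ⟨L, hLM, hLn, hL, hz⟩ := h1 G M A c hb.hyp hO nc
  obtain ⟨S⟩ : Nonempty (Sylow 2 G) := inferInstance
  have hP := isSylowIn_inf_normal S L
  have hSP : (S : Subgroup G) ≤ normalizer (((S : Subgroup G) ⊓ L : Subgroup G) : Set G) :=
    le_normalizer_inf' le_normalizer le_normalizer_of_normal
  have hA := hb.ce
  obtain ⟨y0, hy0, r0, n0⟩ := h2 G L _ hL.qs hP
  obtain ⟨y, hy, nA, sq, ⟨r, hr, er⟩, hS⟩ := h4 G A S _ y0 hA S.isPGroup' inf_le_left hSP hy0
    (fun a => n0 (mem_zc_of_center (hA.cen a) hy0.2)) r0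
  have nz : y ∉ zc L := fun a => nA (hz y a (by
    rw [a.2 r hr.2, mul_inv_cancel_right] at er
    nth_rewrite 2 [er]; exact mul_inv_cancel y))
  have lt : Nat.card (L.subgroupOf (stb A y)) < n := by
    rw [← card_map_subtype, subgroupOf_map_subtype, ← hn]
    refine lt_of_lt_of_le (card_lt_card_of_lt (inf_lt_left.2 fun a => nz ⟨hy.2, fun l hl => ?_⟩)) (card_le_of_le hLM)
    have : ⁅zpowers y, L⁆ = ⊥ := CL.Loc.commutator_eq_bot_of_perfect (CL.Loc.IsQuasisimple.commutator_self hL.qs)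
      (commutator_eq_bot_iff_le_centralizer.2 (le_trans ?_ (hA.cen.trans (center_le_centralizer _))))
    · exact commutator_eq_bot_iff_le_centralizer.1 this (mem_zpowers y) l hl
    rw [commutator_comm, commutator_le]
    intro l hl
    haveI : A.Normal := ⟨fun n hn g => by rwa [hA.comm hn, mul_inv_cancel_right]⟩
    suffices zpowers y ≤ (centralizer {((l : G ⧸ A))}).comap (QuotientGroup.mk' A) from fun v hv => by
      have := mem_centralizer_singleton_iff.1 (this hv)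
      rw [← QuotientGroup.eq_one_iff, commutatorElement_def]
      simp only [QuotientGroup.mk'_apply] at this
      simp [← this]
    rw [zpowers_le, mem_comap, mem_centralizer_singleton_iff]
    have := (QuotientGroup.eq_one_iff _).2 ((mem_stb hA.cen).1 (a hl))
    simp only [QuotientGroup.mk_mul, QuotientGroup.mk_inv, mul_inv_eq_one, mul_inv_eq_iff_eq_mul] at this
    simpa using this.symm
  obtain ⟨hn', hq⟩ := quo_step h6 (h5 G M A L c y S hb hLM hLn hy.2 nA sq hS) fun Q _ _ M' A' a =>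
    IH _ (a.trans_lt lt) Q M' A' rfl
  set O := (pPrimeCoreOf 2 (L.subgroupOf (stb A y))).map (stb A y).subtype
  have oO : Odd (Nat.card O) := by
    rw [card_map_subtype]; exact Nat.coprime_two_right.1 (pPrimeCoreOf_coprime 2 _)
  have nO : stb A y ≤ normalizer (O : Set G) := le_normalizer_map_subtype _
  have hc := h7 G M A L O c y S hb hLM hLn hL hy nz sq hS
    (by rintro _ ⟨g, hg, rfl⟩; exact pPrimeCoreOf_le 2 (L.subgroupOf (stb A y)) hg)
    (fun g hg => mem_cen_of_odd_of_stb hA (map_subtype_le _ hg) (oO.of_dvd_nat (orderOf_dvd_natCard _ hg))) oO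
    (hS.trans nO)
  have hN : stb A y ⊓ L ≤ normalizer (((S : Subgroup G) ⊓ L : Subgroup G) : Set G) :=
    clo (hP.of_le (inf_le_inf_right L hS) inf_le_right) (inf_le_left.trans nO) hc fun w hw ho ⟨r, hr, e⟩ =>
      ⟨⟨w, hw.1⟩, hq ⟨w, hw.1⟩ hw.2 (by rwa [← orderOf_coe]) ⟨⟨r, hr.1⟩, hr.2, Subtype.ext e⟩, rfl⟩
  obtain ⟨w, hw, w1, wo, wr⟩ := h3 G L hL.qs
  obtain ⟨B, hB, Bc, cB⟩ := hb.b1 w (hLM hw) w1 wo wr.isConj
  obtain ⟨g, hg⟩ := exists_conj_le_sylow S hB
  have c1 := card_le hA hy.2 hS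
  have c2 := hb.b3 y (hLM hy.2) nA (Two.of_mem S.isPGroup' hy.1) (isConj_iff.2 ⟨r, er⟩) ((S : Subgroup G) ⊓ cen y)
    S.isPGroup'.to_inf_left inf_le_right
  have c3 := hb.b4 S
  have c4 : 0 < c := Nat.card_pos.trans_le c2
  have c5 := c1.trans (Nat.mul_le_mul_right _ c2)
  have c6 := card_sup_mul_card_inf (hg.trans hSP)
  have c7 : Nat.card ↥(MulAut.conj g • B ⊔ (S : Subgroup G) ⊓ L) ≤ Nat.card S := card_le_of_le (sup_le hg inf_le_left)
  rw [card_conj_smul] at c6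
  refine h8 G L _ (MulAut.conj g • B ⊓ ((S : Subgroup G) ⊓ L)) (A ⊓ L) y (g * w * g⁻¹) hL hP hy nz
    (mem_zc_of_center (hA.cen sq) (L.mul_mem hy.2 hy.2))
    (fun p hp => mem_zc_of_center (hA.cen ((mem_stb hA.cen).1 (hS hp.1)))
      (L.mul_mem (hLn.conj_mem y hy.2 p) (L.inv_mem hy.2)))
    (fun l hl a => hN ⟨(mem_stb hA.cen).2 (hz _ a (sq_one hA hy.2 sq a)), hl⟩) (hLn.conj_mem w hw g)
    (by simpa using w1) (by rwa [← MulAut.conj_apply, MulEquiv.orderOf_eq]) inf_le_right (fun b hb => ?_)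
    (fun v hv => mem_zc_of_center (hA.cen hv.1) hv.2) (fun v hv => hA.sq v hv.1) (by nlinarith) ?_
  · have := mem_cen'.1 (Bc ((mem_conj_smul_iff ..).1 hb.1))
    rw [mem_cen']
    calc b * (g * w * g⁻¹) = g * (g⁻¹ * b * g * w) * g⁻¹ := by group
      _ = _ := by rw [this]; group
  · refine Nat.le_of_mul_le_mul_left ?_ (Nat.card_pos (α := B))
    rw [← c6, mul_comm _ (Nat.card ↥(A ⊓ L)), ← mul_assoc]
    exact Nat.mul_le_mul_right _ (c7.trans (c5.trans (Nat.mul_le_mul_right _ cB)))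

end CL.RC
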