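/-
Real classes of equal 2-part (S3860): first consequences of the hypothesis `HH`.
-/
import Cfsg.Agent.RC.Defs2

set_option autoImplicit false

open Cfsg CL.Grp Subgroup

namespace CL.RC

universe u

namespace Fx

variable {G : Type u} [Group G] [Finite G] {c : ℕ} {w s : G} {U K : Subgroup G}

theorem out (hK : K ≤ cst w) (hU : IsSylowIn 2 U K) (hs : s ∈ K) (e : s * w * s⁻¹ = w⁻¹) (ne : w ≠ w⁻¹) :
    ∃ t ∈ U, t ∉ cen w := by
  have : Fact (Nat.Prime 2) := ⟨Nat.prime_two⟩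
  obtain ⟨m, hm, h2⟩ := exists_odd_pow_two s
  obtain ⟨h, hh, k⟩ := hU.exists_conj_le h2.zpowers (zpowers_le.2 (pow_mem hs m))
  exact ⟨_, k (conj_mem_conj_smul h (mem_zpowers _)), fun q => ne ((mem_cen.1
    ((mem_normalizer_iff.1 (cst_le_normalizer_cen w (hK hh)) _).2 q)).symm.trans (odd_pow_conj_inv e hm))⟩

theorem cf0 (hH : HH G c) (r : IsConj w w⁻¹) (ne : w ≠ w⁻¹) (hU : IsPGroup 2 U) (le : U ≤ cst w) :
    ∃ T : Subgroup G, U ≤ T ∧ IsPGroup 2 T ∧ T ≤ cst w ∧ Nat.card ↥(T ⊓ cen w) = c ∧ Nat.card T = 2 * c := by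
  have : Fact (Nat.Prime 2) := ⟨Nat.prime_two⟩
  obtain ⟨T, hT, UT⟩ := exists_isSylowIn_ge hU le
  obtain ⟨⟨B, b1, b2, b3⟩, h2⟩ := hH w r fun k =>
    ne (eq_inv_of_mul_eq_one_left (sq_eq_one_of_real_of_center r k))
  have h0 := hT.inf_of_normalized (cen_le_cst w) (cst_le_normalizer_cen w)
  have e : Nat.card ↥(T ⊓ cen w) = c := le_antisymm (h2 _ h0.isPGroup h0.le) (b3 ▸ h0.card_le b1 b2)
  obtain ⟨s, hs⟩ := isConj_iff.1 r
  obtain ⟨t, t1, t2⟩ := out le_rfl hT (Or.inr hs) hs ne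
  refine ⟨T, UT, hT.isPGroup, hT.le, e, ?_⟩
  rw [← card_inf_mul_relIndex (cen w) T, inf_comm, e, mul_comm, relIndex_eq_two_iff_exists_notMem_and.2
    ⟨t, t1, t2, fun b hb => or_iff_not_imp_right.2 fun k => mul_mem_cen_of_notMem (hT.le hb) (hT.le t1) k t2⟩]

end Fx

theorem f1 : F1.{u} := fun _ _ _ _ v B hH r h1 h2 h3 =>
  mem_om_of_real_of_center r (by_contra fun k => absurd ((hH v r k).2 B h1 h2) (not_le.2 h3))

theorem cf : CF.{u} := fun _ _ _ _ _ _ hH x1 xo r h1 h2 =>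
  let ⟨T, a, b, d, e, f⟩ := Fx.cf0 hH r (ne_inv_of_odd x1 xo) h1 h2
  ⟨T, ⟨x1, xo, b, d, e, f⟩, a⟩

theorem f2 : F2.{u} := by
  intro G _ _ c x v s hH x1 xo v2 vx sx sv
  have cm : Commute x v := (mem_cen'.1 vx).symm
  obtain ⟨k, hk⟩ := id v2
  have xw : x ∈ zpowers (x * v) := by
    have := npow_mem_zpowers (x * v) (2 ^ k)
    rw [cm.mul_pow, hk, mul_one] at this
    exact zpowers_le.2 this (mem_zpowers_pow_iff.2 ((Nat.coprime_two_left.2 xo).pow_left k))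
  have vw : v ∈ zpowers (x * v) := (mul_mem_cancel_left xw).1 (mem_zpowers _)
  have fix : ∀ t, t * (x * v) * t⁻¹ = x * v → ∀ y ∈ zpowers (x * v), t * y * t⁻¹ = y := by
    rintro t e _ ⟨n, rfl⟩
    rw [← conj_zpow, e]
  have inv : ∀ t, t * (x * v) * t⁻¹ = (x * v)⁻¹ → ∀ y ∈ zpowers (x * v), t * y * t⁻¹ = y⁻¹ := by
    rintro t e _ ⟨n, rfl⟩
    rw [← conj_zpow, e, inv_zpow]
  have nx := ne_inv_of_odd x1 xo
  obtain ⟨T, a, b, d, e, f⟩ := Fx.cf0 (w := x * v) hH (isConj_iff.2 ⟨s, by rw [← conj_mul, sx, sv, ← mul_inv_rev, cm.eq]⟩)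
    (fun q => nx (by simpa using inv 1 (by simpa using q) x xw)) v2.zpowers
    (zpowers_le.2 (cen_le_cst _ (mem_cen'.2 (cm.symm.mul_right (Commute.refl v)))))
  have h1 : ∀ t ∈ T, t ∈ cen x → t * (x * v) * t⁻¹ = x * v := fun t ht q =>
    (d ht).resolve_right fun k => nx ((mem_cen.1 q).symm.trans (inv t k x xw))
  have h2 : ∀ t ∈ T, t ∉ cen x → t * (x * v) * t⁻¹ = (x * v)⁻¹ := fun t ht q =>
    (d ht).resolve_left fun k => q (mem_cen.2 (fix t k x xw))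
  refine ⟨T, ⟨x1, xo, b, fun t ht => (d ht).imp (fix t · x xw) (inv t · x xw), ?_, f⟩, a (mem_zpowers v),
    fun t ht q => fix t (h1 t ht q) v vw, fun t ht q => inv t (h2 t ht q) v vw⟩
  rw [← e, show T ⊓ cen x = T ⊓ cen (x * v) from le_antisymm (fun t ht => ⟨ht.1, mem_cen.2 (h1 t ht.1 ht.2)⟩)
    fun t ht => ⟨ht.1, mem_cen.2 (fix t (mem_cen.1 ht.2) x xw)⟩]

theorem f3 : F3.{u} := by
  intro G _ _ c x v r s hH x1 xo v2 vx rx rv sx sv
  have : Fact (Nat.Prime 2) := ⟨Nat.prime_two⟩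
  obtain ⟨T, hT, -, h1, -⟩ := f2 G c x v (s * r) hH x1 xo v2 vx
    (by rw [← sx, mul_inv_rev, mul_assoc s r, mul_assoc s, ← mul_assoc (r * x), mem_cen.1 rx, mul_assoc])
    (by rw [mul_inv_rev, mul_assoc s r, mul_assoc s, ← mul_assoc (r * v), rv, ← mul_assoc, ← conj_inv, sv])
  obtain ⟨U, hU, le⟩ := exists_isSylowIn_ge (hT.two.to_inf_left (K := cen x)) (H := cen v ⊓ cst x)
    fun t ht => ⟨mem_cen.2 (h1 t ht.1 ht.2), hT.le ht.1⟩
  obtain ⟨t, t1, t2⟩ := Fx.out inf_le_right hU ⟨mem_cen.2 sv, Or.inr sx⟩ sx (ne_inv_of_odd x1 xo)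
  refine f1 G c v U hH (isConj_iff.2 ⟨r, rv⟩) hU.isPGroup (hU.le.trans inf_le_left) (hT.card0 ▸ lt_of_not_ge fun k => ?_)
  exact t2 ((eq_of_le_of_card_ge le k).ge t1).2

theorem r4 : R4.{u} := by
  intro G _ _ c v hH r h4
  by_cases e : v * v = 1
  · rw [e]; exact one_mem _
  obtain ⟨T, -, b, d, f, g⟩ := Fx.cf0 hH r (fun k => e (eq_inv_iff_mul_eq_one.1 k)) IsPGroup.of_bot bot_le
  refine f1 G c _ T hH (isConj_inv_of_sq h4) b (fun t ht => mem_cen.2 ?_) ?_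
  · rw [← conj_mul]
    rcases d ht with k | k <;> rw [k]
    rw [← mul_inv_rev]
    exact inv_eq_of_mul_eq_one_left h4
  · have : 0 < c := f ▸ Nat.card_pos
    omega

theorem ha : HA.{u} := fun G _ _ c hH =>
  ⟨inferInstance, ce2_om, fun w _ w1 wo r =>
    let ⟨B, a, b, d⟩ := (hH w r (not_center_of_real_odd w1 wo r)).1; ⟨B, a, b, d.ge⟩,
    fun v _ hv _ r => (hH v r fun k => hv (mem_om_of_real_of_center r k)).2,
    fun w _ w1 wo v _ v2 cm r s a b d e => f3 G c w v r s hH w1 wo v2 (mem_cen'.2 cm) (mem_cen.2 a) b d e⟩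

end CL.RC
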