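/-
RC-HP: the elements normalising a configuration.
-/
import Cfsg.Agent.RC.Defs2

set_option autoImplicit false

open Cfsg CL.Grp Subgroup

namespace CL.RC

universe u

namespace HPx

variable {G : Type u} [Group G] [Finite G] {c : ℕ} {x g : G} {T B : Subgroup G}

theorem core (h : F1.{u}) (hH : HH G c) (hC : Cfg c x T) (hB : IsPGroup 2 B) (TB : T ≤ B) (gB : g ∈ B) (gT : g ∉ T)
    (gN : g ∈ normalizer (T : Set G)) (g0 : g ∈ normalizer ((T ⊓ cen x : Subgroup G) : Set G))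
    (gg : g * g ∈ T ⊓ cen x) : g ∈ centralizer ((T ⊓ cen x : Subgroup G) : Set G) ⊔ (T ⊓ cen x) := by
  obtain ⟨t, ht, t0⟩ := hC.exists_notMem
  have xC : x ∈ centralizer ((T ⊓ cen x : Subgroup G) : Set G) := fun s hs => mem_cen'.1 hs.2
  have yC : g * x * g⁻¹ ∈ centralizer ((T ⊓ cen x : Subgroup G) : Set G) := fun s hs => by
    have := mem_cen'.1 ((mem_normalizer_iff''.1 g0 s).1 hs).2
    calc s * (g * x * g⁻¹) = g * (g⁻¹ * s * g * x) * g⁻¹ := by group
      _ = _ := by rw [this]; group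
  have ty : t * (g * x * g⁻¹) * t⁻¹ = (g * x * g⁻¹)⁻¹ := by
    have a := (mem_normalizer_iff''.1 gN t).1 ht
    have := hC.inv a fun e => t0 ((mem_normalizer_iff''.1 g0 t).2 ⟨a, e⟩).2
    calc t * (g * x * g⁻¹) * t⁻¹ = g * (g⁻¹ * t * g * x * (g⁻¹ * t * g)⁻¹) * g⁻¹ := by group
      _ = _ := by rw [this]; group
  set w := x * (g * x * g⁻¹) with hw
  have wC : w ∈ centralizer ((T ⊓ cen x : Subgroup G) : Set G) := mul_mem xC yC
  have wr : IsConj w w⁻¹ := isConj_iff.2 ⟨x * t, by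
    calc x * t * w * (x * t)⁻¹ = x * (t * x * t⁻¹) * (t * (g * x * g⁻¹) * t⁻¹) * x⁻¹ := by rw [hw]; group
      _ = _ := by rw [hC.inv ht t0, ty, hw]; group⟩
  have hc : x * g ∈ cen w := mem_cen.2 (by
    calc x * g * w * (x * g)⁻¹ = x * (g * x * g⁻¹) * (g * g * x * (g * g)⁻¹) * x⁻¹ := by rw [hw]; group
      _ = _ := by rw [mem_cen.1 gg.2, hw]; group)
  have hn := mul_mem (centralizer_le_normalizer _ xC) g0
  obtain ⟨m, mo, m2⟩ := exists_odd_pow_two (x * g)
  by_cases k : (x * g) ^ m ∈ T ⊓ cen x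
  · have := mem_of_odd_pow_mem_of_sq_mem (H := centralizer ((T ⊓ cen x : Subgroup G) : Set G) ⊔ (T ⊓ cen x)) mo
      (mem_sup_right k) (by
        rw [show x * g * (x * g) = w * (g * g) by rw [hw]; group]
        exact mul_mem (mem_sup_left wC) (mem_sup_right gg))
    simpa using mul_mem (inv_mem (mem_sup_left xC)) this
  exfalso
  have wo := h G c w (T ⊓ cen x ⊔ zpowers ((x * g) ^ m)) hH wr
    (IsPGroup.to_sup_of_normal_left' (hC.two.to_le inf_le_left) m2.zpowers (zpowers_le.2 (pow_mem hn m)))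
    (sup_le (fun s hs => mem_cen'.2 (wC s hs)) (zpowers_le.2 (pow_mem hc m))) (by
      rw [← hC.card0]
      by_contra n
      exact k ((eq_of_le_of_card_ge le_sup_left (not_lt.1 n)).ge (mem_sup_right (mem_zpowers _))))
  have w1 : w = 1 := by
    have cm : Commute x⁻¹ w := mem_center_iff.1 wo.1 _
    have := cm.mul_pow (orderOf x)
    rw [hw, inv_mul_cancel_left, conj_pow, inv_pow, pow_orderOf_eq_one, mul_one, mul_inv_cancel, inv_one,
      one_mul] at this
    exact (Two.of_sq wo.2).eq_one_of_odd (hC.odd.of_dvd_nat (orderOf_dvd_of_pow_eq_one this.symm))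
  have gi : g * x * g⁻¹ = x⁻¹ := eq_inv_of_mul_eq_one_right w1
  have := mul_mem_cen_of_notMem (Or.inr gi) (hC.le ht)
    (fun e => ne_inv_of_odd hC.ne hC.odd ((mem_cen.1 e).symm.trans gi)) t0
  have e := (hC.syl0 hH).eq_of_le (U := B ⊓ cen x) (hB.to_le inf_le_left) (inf_le_inf_right _ TB) inf_le_right
  exact gT (by simpa using T.mul_mem (e.le ⟨mul_mem gB (TB ht), this⟩).1 (inv_mem ht))

theorem card_le {w v : G} (hw : w ∈ om G) {X : Subgroup G} (le : X ≤ stb (zpowers w) v) :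
    Nat.card X ≤ 2 * Nat.card (X ⊓ cen v :) := by
  let φ : X →* G := MonoidHom.mk' (fun s => s * v * (s : G)⁻¹ * v⁻¹) fun a b =>
    (stb_mul (a : G) (le b.2)).trans (mem_center_iff.1 (le a.2).2 _)
  have k : φ.ker = (X ⊓ cen v).subgroupOf X := Subgroup.ext fun s =>
    mul_inv_eq_one.trans ⟨fun e => ⟨s.2, mem_cen.2 e⟩, fun e => mem_cen.1 e.2⟩
  rw [← φ.ker.index_mul_card, index_ker, k, Nat.card_congr (subgroupOfEquivOfLe inf_le_left).toEquiv]
  refine Nat.mul_le_mul_right _ ((card_le_of_le (K := zpowers w) ?_).trans ?_)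
  · rintro _ ⟨s, rfl⟩; exact (le s.2).1
  · rw [Nat.card_zpowers]
    exact orderOf_le_of_pow_eq_one two_pos ((pow_two w).trans hw.2)

end HPx

open HPx

theorem hp (h : F1.{u}) : HP.{u} := by
  intro G _ _ c x g T B hH hC hB TB gB gT gN g0 gg
  have g1 : g ∈ normalizer ((T ⊓ cen x : Subgroup G) : Set G) := mem_normalizer_fintype g0
  obtain ⟨t, ht, t0⟩ := hC.exists_notMem
  have a := (mem_normalizer_iff.1 gN t).1 ht
  have c1 := core h hH hC hB TB gB gT gN g1 gg
  have c2 := core h hH hC hB TB (mul_mem (TB ht) gB) (fun e => gT (by simpa using mul_mem (inv_mem ht) e))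
    (mul_mem (le_normalizer ht) gN) (mul_mem (mem_normalizer_fintype fun s hs => hC.conj_mem ht hs) g1) (by
      rw [show t * g * (t * g) = t * (g * t * g⁻¹) * (g * g) by group]
      exact mul_mem (hC.mul_mem ht a t0 fun e => t0 ((mem_normalizer_iff.1 g1 t).2 ⟨a, e⟩).2) gg)
  have c3 := mul_mem c2 (inv_mem c1)
  rw [mul_inv_cancel_right, ← SetLike.mem_coe, coe_mul_of_left_le_normalizer_right _ _
    (centralizer_le_normalizer _)] at c3
  obtain ⟨k, hk, s, hs, e⟩ := c3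
  have e : k = t * s⁻¹ := eq_mul_inv_of_mul_eq e
  exact ⟨k, e ▸ mul_mem ht (inv_mem hs.1), fun z => t0 (by simpa [e] using mul_mem z hs.2), fun r hr => (hk r hr).symm⟩

theorem ce (h : F1.{u}) (h2 : HP.{u}) : CE.{u} := by
  intro G _ _ c x u w T hH hC hu u0 uu hw w1 u1
  refine isSylowIn_of_maximal le_top hC.two fun U hU TU _ => ?_
  by_contra n
  obtain ⟨g0, ⟨gU, gN⟩, gT⟩ := SetLike.exists_of_lt (lt_inf_normalizer_of_isPGroup hU (lt_of_le_of_ne TU (Ne.symm n)))
  obtain ⟨k, gT, gg⟩ := (Two.of_mem hU gU).exists_last gT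
  replace gU := pow_mem gU (2 ^ k)
  replace gN := pow_mem gN (2 ^ k)
  generalize g0 ^ 2 ^ k = g at *
  have wc : ∀ s, s * w = w * s := mem_center_iff.1 hw.1
  have uc : ∀ s, s * (u * u) = u * u * s := mem_center_iff.1 uu.1
  have zc : zpowers w ≤ center G := zpowers_le.2 hw.1
  have Tu : T ≤ stb (zpowers w) u := fun t ht => (mem_stb zc).2 (by
    by_cases e : t ∈ cen x
    · rw [u0 t ⟨ht, e⟩, mul_inv_cancel]; exact one_mem _
    · rw [u1 t ht e, wc, mul_inv_cancel_right]; exact mem_zpowers w)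
  have cz : ∀ s a, a ∈ zpowers w → s * a * s⁻¹ = a := fun s a ha => by
    rw [mem_center_iff.1 (zc ha) s, mul_inv_cancel_right]
  set y := g * u * g⁻¹ with hy
  have yT : y ∈ T := (mem_normalizer_iff.1 gN u).1 hu.1
  have yy : y * y = u * u := by rw [hy, conj_mul, uc, mul_inv_cancel_right]
  have Ty : ∀ t ∈ T, t * y * t⁻¹ * y⁻¹ ∈ zpowers w := fun t ht => by
    have a := (mem_stb zc).1 (Tu ((mem_normalizer_iff''.1 gN t).1 ht))
    rw [← cz g _ a] at a
    convert a using 1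
    rw [hy]; group
  have vr : IsConj (u * y) (u * y)⁻¹ := by
    by_cases e : y ∈ cen x
    · refine isConj_inv_of_sq ?_
      calc u * y * (u * y) = u * (y * u * y⁻¹) * (y * y) := by group
        _ = 1 := by rw [u0 y ⟨yT, e⟩, yy, uu.2]
    · refine isConj_iff.2 ⟨u, eq_inv_of_mul_eq_one_right ?_⟩
      calc u * y * (u * (u * y) * u⁻¹) = u * y * (u * u * y) * u⁻¹ := by group
        _ = u * (y * y) * u := by rw [← uc]; group
        _ = 1 := by rw [yy, ← uu.2]; group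
  have lt : T < U ⊓ stb (zpowers w) (u * y) := by
    refine lt_of_le_of_ne (le_inf TU fun t ht => (mem_stb zc).2 ?_) fun e => gT (e.ge ⟨gU, (mem_stb zc).2 ?_⟩)
    · rw [show t * (u * y) * t⁻¹ * (u * y)⁻¹ = t * u * t⁻¹ * u⁻¹ * (u * (t * y * t⁻¹ * y⁻¹) * u⁻¹) by group,
        cz _ _ (Ty t ht)]
      exact mul_mem (Tu ht).1 (Ty t ht)
    · rw [show g * (u * y) * g⁻¹ * (u * y)⁻¹ = y * (g * g * u * (g * g)⁻¹ * u⁻¹) * y⁻¹ * (y * u * y⁻¹ * u⁻¹) by
        rw [hy]; group, cz _ _ (Tu gg).1]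
      exact mul_mem (Tu gg).1 (Tu yT).1
  have vo := h G c (u * y) (U ⊓ stb (zpowers w) (u * y) ⊓ cen (u * y)) hH vr
    (hU.to_le (inf_le_left.trans inf_le_left)) inf_le_right (by
      have c1 := card_le hw (inf_le_right : U ⊓ stb (zpowers w) (u * y) ≤ _)
      have c2 : Nat.card T < Nat.card (U ⊓ stb (zpowers w) (u * y) :) := by
        by_contra z
        exact lt.ne (eq_of_le_of_card_ge lt.le (not_lt.1 z))
      have := hC.card
      omega)
  have vc : ∀ s, s * (u * y) * s⁻¹ = u * y := fun s => by rw [mem_center_iff.1 vo.1 s, mul_inv_cancel_right]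
  have T0 : ∀ t ∈ T, t * u * t⁻¹ = u → t ∈ T ⊓ cen x := fun t ht e => ⟨ht, by
    by_contra z
    exact w1 (left_eq_mul.1 (e.symm.trans (u1 t ht z)))⟩
  obtain ⟨r, hr, r0, e⟩ := h2 G c x g T U hH hC hU TU gU gT gN (fun t ht => T0 _ ((mem_normalizer_iff.1 gN t).1 ht.1) (by
      have a : g * t * g⁻¹ * y * (g * t * g⁻¹)⁻¹ = y := by
        calc _ = g * (t * u * t⁻¹) * g⁻¹ := by rw [hy]; group
          _ = _ := by rw [u0 t ht]
      have b := vc (g * t * g⁻¹)
      rw [← conj_mul, a] at b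
      exact mul_right_cancel b)) (T0 _ gg (by
      have b := (vc g).trans (vc y).symm
      rw [← conj_mul, ← hy, show y * (u * y) * y⁻¹ = y * u by group] at b
      calc _ = g * y * g⁻¹ := by rw [hy]; group
        _ = u := mul_left_cancel b))
  exact w1 (left_eq_mul.1 ((eq_mul_inv_of_mul_eq (e u hu).symm).trans (u1 r hr r0)))

end CL.RC
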