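/-
Real classes of equal 2-part (S3860): the application of the classification of 2-closed centralizers.
-/
import Cfsg.Agent.RC.Defs2

set_option autoImplicit false

open Cfsg CL.Grp Subgroup

namespace CL.RC

universe u

namespace HZx

theorem of_equiv {X Y : Type u} [Group X] [Group Y] (e : X ≃* Y) (h : HList Y) : HList X := by
  rcases h with ⟨F, _, _, n, h1, h2, h3⟩ | ⟨F, _, _, m, h1, h2, h3⟩ | ⟨F, _, _, n, h1, h2, h3⟩ | ⟨F, _, _, n, h1, h2, h3⟩
  · exact .inl ⟨F, _, _, n, h1, h2, h3.imp (·.map e.trans) (Or.imp (·.map e.trans) (·.map e.trans))⟩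
  · exact .inr (.inl ⟨F, _, _, m, h1, h2, h3.map e.trans⟩)
  · exact .inr (.inr (.inl ⟨F, _, _, n, h1, h2, h3.map e.trans⟩))
  · exact .inr (.inr (.inr ⟨F, _, _, n, h1, h2, h3.map e.trans⟩))

theorem hlist (h : type_of% @Cfsg.CfsgFrozen.S3223.{u}) {X : Type u} [Group X] [Finite X] [IsSimpleGroup X]
    (hs : ¬ Group.IsSolvable X) (t : X) (ht : orderOf t = 2) (S : Sylow 2 X) (htS : t ∈ (S : Subgroup X))
    (hSt : (S : Subgroup X) ≤ centralizer ({t} : Set X))
    (hSn : ((S : Subgroup X).subgroupOf (centralizer ({t} : Set X))).Normal) : HList X := by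
  have := Fact.mk Nat.prime_two
  have hM : ∀ M : Subgroup X, M.Normal → Group.IsSolvable M → M = ⊥ := fun M hM hs' =>
    (hM.eq_bot_or_eq_top).resolve_right fun e => hs (by
      subst e
      exact Group.isSolvable_of_surjective (f := (⊤ : Subgroup X).subtype) topEquiv.surjective)
  obtain ⟨k, E, h1, h2, -, h4⟩ := h hM t ht S hSt hSn ⊤ inferInstance (fun P => by rw [top_sup_eq]; infer_instance)
    fun M hn hP => by
      rcases hn.eq_bot_or_eq_top with rfl | rfl
      · have hS := hP S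
        rw [bot_sup_eq] at hS
        have := S.isPGroup'.isNilpotent
        have e := hM _ hS inferInstance
        rw [e, mem_bot] at htS
        simp [htS] at ht
      · exact le_rfl
  obtain ⟨i, hi⟩ : ∃ i, E i ≠ ⊥ := by
    by_contra hc
    push Not at hc
    simp [hc] at h1
  have hn : (E i).Normal := by
    rw [← normalizer_eq_top_iff, eq_top_iff, ← h1]
    refine iSup_le fun j => ?_
    by_cases e : j = i
    · exact e ▸ le_normalizer
    · exact fun g hg => centralizer_le_normalizer _ fun x hx => (h2 j i e g hg x hx).symm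
  have e := hn.eq_bot_or_eq_top.resolve_left hi
  exact of_equiv (topEquiv.symm.trans (MulEquiv.subgroupCongr e.symm)) (h4 i)

theorem core (h : type_of% @Cfsg.CfsgFrozen.S3223.{u}) (h2 : HZ2.{u}) {X : Type u} [Group X] [Finite X]
    (hX : IsQuasisimple X) (hZ : IsPGroup 2 (center X)) (P : Sylow 2 X) {B V : Subgroup X} {y x : X}
    (hy : y ∈ (P : Subgroup X)) (hyZ : y ∉ center X) (hyy : y * y ∈ center X)
    (hP : ∀ p ∈ (P : Subgroup X), p * y * p⁻¹ * y⁻¹ ∈ center X)
    (hl : ∀ l, l * y * l⁻¹ * y⁻¹ ∈ center X → l ∈ normalizer ((P : Subgroup X) : Set X))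
    (hx : x ≠ 1) (ho : Odd (orderOf x)) (hB : B ≤ P) (hBx : B ≤ cen x) (hV : V ≤ center X)
    (hV2 : ∀ v ∈ V, v * v = 1) (hV4 : 4 ≤ Nat.card V) (hc : Nat.card P ≤ Nat.card B * Nat.card V) : False := by
  have := Fact.mk Nat.prime_two
  have := hX.2
  set f := QuotientGroup.mk' (center X) with hf
  have hfs : Function.Surjective f := QuotientGroup.mk'_surjective _
  have h1 : ∀ a, f a = 1 ↔ a ∈ center X := fun a => QuotientGroup.eq_one_iff a
  have hcm : ∀ a b, a * b * a⁻¹ * b⁻¹ ∈ center X ↔ f a * f b = f b * f a := fun a b => by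
    rw [← h1, map_mul, map_mul, map_mul, map_inv, map_inv, mul_inv_eq_one, mul_inv_eq_iff_eq_mul]
  have hord : ∀ a, a ∉ center X → a * a ∈ center X → orderOf (f a) = 2 := fun a ha ha' =>
    orderOf_eq_prime (by rw [sq, ← map_mul, h1]; exact ha') (mt (h1 a).1 ha)
  have hZP : center X ≤ P := hZ.le_sylow_of_normal P
  let S := P.mapSurjective hfs
  have hS : (S : Subgroup _) = (P : Subgroup X).map f := rfl
  have hL : HList (X ⧸ center X) := by
    refine hlist h (fun hs => CL.Loc.IsQuasisimple.not_isMulCommutative_quotient hX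
      ⟨⟨IsSimpleGroup.comm_iff_isSolvable.2 hs⟩⟩) (f y) (hord y hyZ hyy) S ⟨y, hy, rfl⟩ ?_ ?_
    · rintro _ ⟨p, hp, rfl⟩
      exact mem_centralizer_singleton_iff.2 ((hcm p y).1 (hP p hp))
    · refine normal_subgroupOf_of_le_normalizer' fun c hc => ?_
      obtain ⟨l, rfl⟩ := hfs c
      exact le_normalizer_map f ⟨l, hl l ((hcm l y).2 (mem_centralizer_singleton_iff.1 hc)), rfl⟩
  obtain ⟨h16, h64, hab⟩ := h2 X hX hL hZ V hV hV2 hV4
  have hcard : Nat.card P = Nat.card (center X) * Nat.card S := by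
    rw [← card_comap_mk', hS, comap_map_eq_self (by rw [QuotientGroup.ker_mk']; exact hZP)]
  have h64' : 64 ≤ Nat.card S := Nat.le_of_dvd Nat.card_pos (S.pow_dvd_card_of_pow_dvd_card (n := 6) h64)
  have hBZ : ¬ B ≤ center X := fun hBZ => by
    have e1 := card_le_of_le hBZ
    have e2 := card_le_of_le hV
    have e3 : 0 < Nat.card (center X) := Nat.card_pos
    have e4 : Nat.card (center X) * 64 ≤ Nat.card (center X) * 16 :=
      (Nat.mul_le_mul_left _ h64').trans (hcard ▸ hc.trans (Nat.mul_le_mul e1 (e2.trans h16)))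
    omega
  obtain ⟨b, hb, hbZ⟩ := SetLike.not_le_iff_exists.1 hBZ
  obtain ⟨k, hk, hk'⟩ := (Two.of_mem P.isPGroup' (hB hb)).exists_last hbZ
  have hcomm : b ^ 2 ^ k * x = x * b ^ 2 ^ k := mem_cen'.1 (hBx (pow_mem hb _))
  have hx1 := hab (f (b ^ 2 ^ k)) (f x) (by rw [← map_mul, hcomm, map_mul]) (hord _ hk hk')
    (ho.of_dvd_nat (orderOf_map_dvd f x))
  exact hx ((Two.of_mem hZ ((h1 x).1 hx1)).eq_one_of_odd ho)

end HZx

theorem hz (h : type_of% @Cfsg.CfsgFrozen.S3223.{u}) (h2 : HZ2.{u}) : HZ.{u} := by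
  intro G _ _ L P B V y x hL hP hy hyZ hyy hp hl hxL hx ho hB hBx hV hV2 hV4 hc
  have := Fact.mk Nat.prime_two
  have hVL : V ≤ L := hV.trans (zc_le L)
  have cd : ∀ {H : Subgroup G}, H ≤ L → Nat.card (H.subgroupOf L) = Nat.card H := fun hH =>
    Nat.card_congr (subgroupOfEquivOfLe hH).toEquiv
  refine HZx.core h h2 hL.qs (isPGroup_of_two fun v hv => ?_) hP.toSylow (B := B.subgroupOf L) (V := V.subgroupOf L)
    (y := ⟨y, hP.le hy⟩) (x := ⟨x, hxL⟩) hy (mt coe_mem_zc.2 hyZ) (coe_mem_zc.1 hyy)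
    (fun p h => coe_mem_zc.1 (hp p h)) (fun l h => ?_) (fun e => hx (congrArg Subtype.val e))
    (by rwa [orderOf_mk]) (fun b h => hB h) (fun b h => mem_cen'.2 (Subtype.ext (mem_cen'.1 (hBx h))))
    (fun v h => coe_mem_zc.1 (hV h)) (fun v h => Subtype.ext (hV2 v h)) (by rwa [cd hVL]) ?_
  · obtain ⟨k, hk⟩ := Two.of_mem hL.two (coe_mem_zc.2 hv)
    exact ⟨k, Subtype.ext hk⟩
  · have := hl l l.2 (coe_mem_zc.2 h)
    exact mem_normalizer_iff.2 fun a => mem_normalizer_iff.1 this a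
  · rw [cd hVL, cd (hB.trans hP.le)]
    exact (cd hP.le).le.trans hc

end CL.RC
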