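/-
Real classes of equal 2-part (S3860): a 2-group `W` not centralized by an element `x` of odd
order contains a real element outside `C(x)` with a large 2-subgroup in its centralizer.
-/
import Cfsg.Agent.RC.Defs2

set_option autoImplicit false

open Cfsg CL.Grp Subgroup

namespace CL.RC

universe u

namespace K1x

variable {G : Type*} [Group G]

/-- coprime action, elementwise: if `v⁻¹ · v^x` is a 2-element fixed by `x`, it is trivial -/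
theorem eq_one_of_cen {x v : G} (hx : Odd (orderOf x)) (h2 : Two (v⁻¹ * (x * v * x⁻¹)))
    (hc : v⁻¹ * (x * v * x⁻¹) ∈ cen x) : v⁻¹ * (x * v * x⁻¹) = 1 := by
  obtain ⟨c, hc'⟩ : ∃ c, c = v⁻¹ * (x * v * x⁻¹) := ⟨_, rfl⟩
  rw [← hc'] at h2 hc ⊢
  have h0 : x * v * x⁻¹ = v * c := by rw [hc']; group
  have h1 : x * c * x⁻¹ = c := by rw [← mem_cen'.1 hc]; group
  have key : ∀ n : ℕ, x ^ n * v * (x ^ n)⁻¹ = v * c ^ n := by
    intro n
    induction n with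
    | zero => simp
    | succ n ih =>
      calc x ^ (n + 1) * v * (x ^ (n + 1))⁻¹ = x * (x ^ n * v * (x ^ n)⁻¹) * x⁻¹ := by group
        _ = (x * v * x⁻¹) * (x * c * x⁻¹) ^ n := by rw [ih, conj_pow]; group
        _ = v * c ^ (n + 1) := by rw [h0, h1]; group
  have h3 := key (orderOf x)
  rw [pow_orderOf_eq_one] at h3
  have h4 : c ^ orderOf x = 1 := by simpa using h3.symm
  exact h2.eq_one_of_odd (Odd.of_dvd_nat hx (orderOf_dvd_of_pow_eq_one h4))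

theorem mem_cen_of_eq_one {x v : G} (h : v⁻¹ * (x * v * x⁻¹) = 1) : v ∈ cen x := by
  rw [mem_cen']
  calc v * x = v * (v⁻¹ * (x * v * x⁻¹)) * x := by rw [h, mul_one]
    _ = x * v := by group

/-- the setting after the minimal choice of `W` -/
structure Min (x : G) (T W : Subgroup G) : Prop where
  odd : Odd (orderOf x)
  pT : IsPGroup 2 T
  cT : T ≤ cen x
  pW : IsPGroup 2 W
  nT : T ≤ normalizer (W : Set G)
  nx : x ∈ normalizer (W : Set G)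
  not_le : ¬ W ≤ cen x
  min : ∀ U : Subgroup G, U ≤ W → (∀ t ∈ T, ∀ u ∈ U, t * u * t⁻¹ ∈ U) → (∀ u ∈ U, x * u * x⁻¹ ∈ U) →
    ¬ U ≤ cen x → W ≤ U

namespace Min

variable [Finite G] {x : G} {T W : Subgroup G} (h : Min x T W)
include h

omit [Finite G] in
theorem cT' {t w : G} (ht : t ∈ T) (hw : w ∈ W) : t * w * t⁻¹ ∈ W :=
  (mem_normalizer_iff.1 (h.nT ht) w).1 hw

omit [Finite G] in
theorem cx {w : G} (hw : w ∈ W) : x * w * x⁻¹ ∈ W := (mem_normalizer_iff.1 h.nx w).1 hw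

omit [Finite G] in
theorem cx' {w : G} (hw : w ∈ W) : x⁻¹ * w * x ∈ W := by
  simpa using (mem_normalizer_iff.1 (inv_mem h.nx) w).1 hw

omit [Finite G] in
theorem fix {v : G} (hv : v ∈ W) (hc : v⁻¹ * (x * v * x⁻¹) ∈ cen x) : v⁻¹ * (x * v * x⁻¹) = 1 :=
  eq_one_of_cen h.odd (Two.of_mem h.pW (mul_mem (inv_mem hv) (h.cx hv))) hc

/-- commutators of `W` are fixed by `x` -/
theorem comm_mem {a b : G} (ha : a ∈ W) (hb : b ∈ W) : a * b * a⁻¹ * b⁻¹ ∈ cen x := by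
  have hle : ⁅W, W⁆ ≤ cen x := by
    by_contra hn
    have h1 : W ≤ ⁅W, W⁆ := by
      refine h.min _ (commutator_le_self W) (fun t ht u hu => ?_) (fun u hu => ?_) hn
      · exact (mem_normalizer_iff.1 (le_normalizer_commutator' h.nT h.nT ht) u).1 hu
      · have h0 : zpowers x ≤ normalizer (W : Set G) := (zpowers_le).2 h.nx
        exact (mem_normalizer_iff.1 (le_normalizer_commutator' h0 h0 (mem_zpowers x)) u).1 hu
    have hb : W ≠ ⊥ := fun e => h.not_le (e ▸ bot_le)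
    haveI := (nontrivial_iff_ne_bot W).2 hb
    haveI := h.pW.isNilpotent
    have h2 := commutator_top_lt (G := W) (N := ⊤) top_ne_bot
    have h3 : Subgroup.map W.subtype ⁅(⊤ : Subgroup W), (⊤ : Subgroup W)⁆ = ⁅W, W⁆ := by
      rw [map_commutator, top_map_subtype]
    refine h2.ne (top_le_iff.1 fun w _ => ?_)
    have h4 := h1 w.2
    rw [← h3] at h4
    obtain ⟨v, hv, e⟩ := h4
    exact (Subtype.ext e : v = w) ▸ hv
  exact hle (commutator_mem_commutator ha hb)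

/-- `C_W(x)` is central in `W` -/
theorem central {c w : G} (hc : c ∈ W) (hcx : c ∈ cen x) (hw : w ∈ W) : w * c = c * w := by
  have hconj : ∀ g ∈ cen x, (∀ v ∈ W, g⁻¹ * v * g ∈ W) → (∀ v ∈ W, g * v * g⁻¹ ∈ W) →
      ∀ u ∈ W ⊓ centralizer ((W ⊓ cen x : Subgroup G) : Set G),
        g * u * g⁻¹ ∈ W ⊓ centralizer ((W ⊓ cen x : Subgroup G) : Set G) := by
    intro g hg h1 h2 u hu
    refine mem_inf.2 ⟨h2 u hu.1, mem_centralizer_iff.2 fun d hd => ?_⟩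
    have h3 : g⁻¹ * d * g ∈ W ⊓ cen x :=
      mem_inf.2 ⟨h1 d hd.1, mul_mem (mul_mem (inv_mem hg) hd.2) hg⟩
    have h4 := mem_centralizer_iff.1 hu.2 _ h3
    calc d * (g * u * g⁻¹) = g * (g⁻¹ * d * g * u) * g⁻¹ := by group
      _ = g * u * g⁻¹ * d := by rw [h4]; group
  have hle : W ≤ W ⊓ centralizer ((W ⊓ cen x : Subgroup G) : Set G) := by
    refine h.min _ inf_le_left (fun t ht => hconj t (h.cT ht) (fun v hv => ?_) fun v hv => h.cT' ht hv)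
      (hconj x (mem_cen'.2 rfl) (fun v hv => h.cx' hv) fun v hv => h.cx hv) fun hn => h.not_le fun v hv => ?_
    · simpa using h.cT' (inv_mem ht) hv
    · refine mem_cen_of_eq_one (h.fix hv (hn (mem_inf.2 ⟨mul_mem (inv_mem hv) (h.cx hv), ?_⟩)))
      refine mem_centralizer_iff.2 fun d hd => ?_
      have h1 : x * d * x⁻¹ = d := by rw [← mem_cen'.1 hd.2]; group
      have h2 : v * d * v⁻¹ ∈ cen x := by
        have := mul_mem (h.comm_mem hv hd.1) hd.2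
        simpa using this
      have h3 : x * (v * d * v⁻¹) * x⁻¹ = v * d * v⁻¹ := by rw [← mem_cen'.1 h2]; group
      calc d * (v⁻¹ * (x * v * x⁻¹)) = v⁻¹ * (v * d * v⁻¹) * (x * v * x⁻¹) := by group
        _ = v⁻¹ * (x * (v * d * v⁻¹) * x⁻¹) * (x * v * x⁻¹) := by rw [h3]
        _ = v⁻¹ * (x * v * x⁻¹) * (x * d * x⁻¹) := by group
        _ = v⁻¹ * (x * v * x⁻¹) * d := by rw [h1]
  exact (mem_centralizer_iff.1 (hle hw).2 c (mem_inf.2 ⟨hc, hcx⟩)).symm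

/-- an element of `W ∖ C(x)` fixed by `T` modulo `C(x)` -/
theorem exists_y : ∃ y ∈ W, y ∉ cen x ∧ y * y ∈ cen x ∧ ∀ t ∈ T, t * y * t⁻¹ * y⁻¹ ∈ cen x := by
  have hQ : IsPGroup 2 (T ⊔ W : Subgroup G) := h.pT.to_sup_of_normal_right' h.pW h.nT
  have h1 : T ⊔ W ≤ normalizer ((W ⊓ cen x : Subgroup G) : Set G) := by
    refine sup_le (le_normalizer_inf' h.nT (h.cT.trans le_normalizer)) fun w hw => ?_
    refine mem_normalizer_fintype fun c hc => ?_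
    have := h.central hc.1 hc.2 hw
    rw [this, mul_inv_cancel_right]
    exact hc
  haveI := normal_subgroupOf_of_le_normalizer h1
  haveI := normal_subgroupOf_of_le_normalizer (sup_le h.nT le_normalizer : T ⊔ W ≤ _)
  obtain ⟨y, hy, h2, h3, h4⟩ := exists_central_mod_of_not_le hQ
    (N := (W ⊓ cen x).subgroupOf (T ⊔ W)) (M := W.subgroupOf (T ⊔ W)) fun hn =>
      h.not_le fun w hw => (hn (show (⟨w, mem_sup_right hw⟩ : (T ⊔ W : Subgroup G)) ∈ _ from hw)).2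
  refine ⟨y, hy, fun hc => h2 ⟨hy, hc⟩, ?_, fun t ht => ?_⟩
  · have := h3.2
    simpa [pow_two] using this
  · have := (cen x).inv_mem (h4 ⟨t, mem_sup_left ht⟩).2
    simpa [commutatorElement_def, mul_assoc] using this

/-- every element of `C_W(x)` is a commutator with `y` -/
theorem exists_comm {y : G} (hy : y ∈ W) (hyc : y ∉ cen x)
    (hyt : ∀ t ∈ T, t * y * t⁻¹ * y⁻¹ ∈ cen x) {c : G} (hc : c ∈ W) (hcx : c ∈ cen x) :
    ∃ w ∈ W, c = w * y * w⁻¹ * y⁻¹ := by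
  have hcW : ∀ {a b : G}, a ∈ W → b ∈ W → a * b * a⁻¹ * b⁻¹ ∈ W := fun ha hb =>
    mul_mem (mul_mem (mul_mem ha hb) (inv_mem ha)) (inv_mem hb)
  let E : Subgroup G :=
    { carrier := {e | ∃ w ∈ W, e = w * y * w⁻¹ * y⁻¹}
      one_mem' := ⟨1, one_mem _, by group⟩
      mul_mem' := by
        rintro _ _ ⟨a, ha, rfl⟩ ⟨b, hb, rfl⟩
        refine ⟨b * a, mul_mem hb ha, ?_⟩
        have := h.central (hcW ha hy) (h.comm_mem ha hy) hb
        calc a * y * a⁻¹ * y⁻¹ * (b * y * b⁻¹ * y⁻¹) = (a * y * a⁻¹ * y⁻¹ * b) * y * b⁻¹ * y⁻¹ := by group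
          _ = b * a * y * (b * a)⁻¹ * y⁻¹ := by rw [← this]; group
      inv_mem' := by
        rintro _ ⟨a, ha, rfl⟩
        refine ⟨a⁻¹, inv_mem ha, ?_⟩
        have := h.central (inv_mem (hcW ha hy)) (inv_mem (h.comm_mem ha hy)) (inv_mem ha)
        calc (a * y * a⁻¹ * y⁻¹)⁻¹ = ((a * y * a⁻¹ * y⁻¹)⁻¹ * a⁻¹) * a := by group
          _ = a⁻¹ * y * a⁻¹⁻¹ * y⁻¹ := by rw [← this]; group }
  have hEW : ∀ e ∈ E, e ∈ W := by rintro _ ⟨a, ha, rfl⟩; exact hcW ha hy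
  have hEc : ∀ e ∈ E, e ∈ cen x := by rintro _ ⟨a, ha, rfl⟩; exact h.comm_mem ha hy
  have hEw : ∀ w ∈ W, ∀ e ∈ E, w * e * w⁻¹ = e := fun w hw e he => by
    rw [h.central (hEW e he) (hEc e he) hw, mul_inv_cancel_right]
  have hEx : ∀ e ∈ E, x * e * x⁻¹ ∈ E := fun e he => by
    rwa [← mem_cen'.1 (hEc e he), mul_inv_cancel_right]
  have hEt : ∀ t ∈ T, ∀ e ∈ E, t * e * t⁻¹ ∈ E := by
    rintro t ht _ ⟨a, ha, rfl⟩
    refine ⟨_, h.cT' ht ha, ?_⟩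
    have h1 := h.central (mul_mem (h.cT' ht hy) (inv_mem hy)) (hyt t ht) (h.cT' ht ha)
    have h2 := h.central (mul_mem (h.cT' ht hy) (inv_mem hy)) (hyt t ht) (hcW (h.cT' ht ha) hy)
    obtain ⟨a', ha'⟩ : ∃ a', a' = t * a * t⁻¹ := ⟨_, rfl⟩
    obtain ⟨d, hd⟩ : ∃ d, d = t * y * t⁻¹ * y⁻¹ := ⟨_, rfl⟩
    rw [← ha', ← hd] at h1 h2
    rw [← ha']
    calc t * (a * y * a⁻¹ * y⁻¹) * t⁻¹ = (a' * d) * y * a'⁻¹ * y⁻¹ * d⁻¹ := by rw [ha', hd]; group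
      _ = (d * (a' * y * a'⁻¹ * y⁻¹)) * d⁻¹ := by rw [h1]; group
      _ = a' * y * a'⁻¹ * y⁻¹ := by rw [← h2]; group
  -- all commutators lie in `E`
  let Z : Subgroup G :=
    { carrier := {w | w ∈ W ∧ ∀ v ∈ W, v * w * v⁻¹ * w⁻¹ ∈ E}
      one_mem' := ⟨one_mem _, fun v _ => by simpa using one_mem E⟩
      mul_mem' := by
        rintro a b ⟨ha, ha'⟩ ⟨hb, hb'⟩
        refine ⟨mul_mem ha hb, fun v hv => ?_⟩
        have e : v * (a * b) * v⁻¹ * (a * b)⁻¹ =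
            (v * a * v⁻¹ * a⁻¹) * (a * (v * b * v⁻¹ * b⁻¹) * a⁻¹) := by group
        rw [e, hEw a ha _ (hb' v hv)]
        exact mul_mem (ha' v hv) (hb' v hv)
      inv_mem' := by
        rintro a ⟨ha, ha'⟩
        refine ⟨inv_mem ha, fun v hv => ?_⟩
        have e : v * a⁻¹ * v⁻¹ * a⁻¹⁻¹ = a⁻¹ * (v * a * v⁻¹ * a⁻¹)⁻¹ * a⁻¹⁻¹ := by group
        rw [e, hEw _ (inv_mem ha) _ (inv_mem (ha' v hv))]
        exact inv_mem (ha' v hv) }
  have hZc : ∀ g : G, (∀ v ∈ W, g⁻¹ * v * g ∈ W) → (∀ v ∈ W, g * v * g⁻¹ ∈ W) →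
      (∀ e ∈ E, g * e * g⁻¹ ∈ E) → ∀ u ∈ Z, g * u * g⁻¹ ∈ Z := by
    rintro g h1 h2 h3 u ⟨hu, hu'⟩
    refine ⟨h2 u hu, fun v hv => ?_⟩
    have e : v * (g * u * g⁻¹) * v⁻¹ * (g * u * g⁻¹)⁻¹ =
        g * ((g⁻¹ * v * g) * u * (g⁻¹ * v * g)⁻¹ * u⁻¹) * g⁻¹ := by group
    rw [e]
    exact h3 _ (hu' _ (h1 v hv))
  have hZ : W ≤ Z := by
    refine h.min Z (fun w hw => hw.1) (fun t ht => hZc t (fun v hv => ?_) (fun v hv => h.cT' ht hv) (hEt t ht))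
      (hZc x (fun v hv => h.cx' hv) (fun v hv => h.cx hv) hEx) fun hn => hyc (hn ⟨hy, fun v hv => ⟨v, hv, rfl⟩⟩)
    simpa using h.cT' (inv_mem ht) hv
  have hD : ∀ {a b : G}, a ∈ W → b ∈ W → a * b * a⁻¹ * b⁻¹ ∈ E := fun ha hb => (hZ hb).2 _ ha
  -- `W = [W, x] E`
  let I : Subgroup G :=
    { carrier := {w | ∃ v ∈ W, ∃ e ∈ E, w = v⁻¹ * (x * v * x⁻¹) * e}
      one_mem' := ⟨1, one_mem _, 1, one_mem _, by group⟩
      mul_mem' := by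
        rintro _ _ ⟨v, hv, e, he, rfl⟩ ⟨u, hu, f, hf, rfl⟩
        have ha : v⁻¹ * (x * v * x⁻¹) ∈ W := mul_mem (inv_mem hv) (h.cx hv)
        have h1 := mul_mem (hD (inv_mem ha) hu) he
        refine ⟨v * u, mul_mem hv hu, _, mul_mem h1 hf, ?_⟩
        have h2 := hEw _ hu _ he
        have h3 := hEw _ (h.cx hu) _ h1
        obtain ⟨d, hd⟩ : ∃ d, d = x * u * x⁻¹ := ⟨_, rfl⟩
        obtain ⟨a, ha⟩ : ∃ a, a = v⁻¹ * (x * v * x⁻¹) := ⟨_, rfl⟩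
        have e1 : (v * u)⁻¹ * (x * (v * u) * x⁻¹) = u⁻¹ * a * d := by rw [hd, ha]; group
        rw [e1, ← hd, ← ha]
        rw [← hd, ← ha] at h3
        calc a * e * (u⁻¹ * d * f) = a * (u * e * u⁻¹) * (u⁻¹ * d * f) := by rw [h2]
          _ = u⁻¹ * a * (a⁻¹ * u * a⁻¹⁻¹ * u⁻¹ * (u * (u * e * u⁻¹) * u⁻¹)) * u⁻¹ * u * d * f := by group
          _ = u⁻¹ * a * (d * (a⁻¹ * u * a⁻¹⁻¹ * u⁻¹ * e) * d⁻¹) * d * f := by rw [h2, h2, h3]; group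
          _ = u⁻¹ * a * d * (a⁻¹ * u * a⁻¹⁻¹ * u⁻¹ * e * f) := by group
      inv_mem' := by
        rintro _ ⟨v, hv, e, he, rfl⟩
        have h1 := hD hv (inv_mem (h.cx hv))
        refine ⟨v⁻¹, inv_mem hv, _, mul_mem (inv_mem h1) (inv_mem he), ?_⟩
        have h2 := hEw _ (mul_mem (inv_mem hv) (h.cx hv)) _ (inv_mem he)
        have h3 := hEw _ (mul_mem hv (inv_mem (h.cx hv))) _ (inv_mem h1)
        obtain ⟨d, hd⟩ : ∃ d, d = x * v * x⁻¹ := ⟨_, rfl⟩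
        have e1 : v⁻¹⁻¹ * (x * v⁻¹ * x⁻¹) = v * d⁻¹ := by rw [hd]; group
        rw [e1, ← hd]
        rw [← hd] at h2 h3
        calc (v⁻¹ * d * e)⁻¹ = (v⁻¹ * d)⁻¹ * (v⁻¹ * d * e⁻¹ * (v⁻¹ * d)⁻¹) := by group
          _ = (v * d⁻¹ * v⁻¹ * d⁻¹⁻¹)⁻¹ * (v * d⁻¹) * e⁻¹ := by rw [h2]; group
          _ = (v * d⁻¹ * (v * d⁻¹ * v⁻¹ * d⁻¹⁻¹)⁻¹ * (v * d⁻¹)⁻¹) * (v * d⁻¹) * e⁻¹ := by rw [h3]
          _ = v * d⁻¹ * ((v * d⁻¹ * v⁻¹ * d⁻¹⁻¹)⁻¹ * e⁻¹) := by group }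
  have hIc : ∀ g ∈ cen x, (∀ v ∈ W, g * v * g⁻¹ ∈ W) → (∀ e ∈ E, g * e * g⁻¹ ∈ E) →
      ∀ u ∈ I, g * u * g⁻¹ ∈ I := by
    rintro g hg h2 h3 _ ⟨v, hv, e, he, rfl⟩
    refine ⟨_, h2 v hv, _, h3 e he, ?_⟩
    calc g * (v⁻¹ * (x * v * x⁻¹) * e) * g⁻¹
        = (g * v * g⁻¹)⁻¹ * ((g * x * g⁻¹) * (g * v * g⁻¹) * (g * x * g⁻¹)⁻¹) * (g * e * g⁻¹) := by group
      _ = _ := by rw [mem_cen.1 hg]
  have hI : W ≤ I := by
    refine h.min I ?_ (fun t ht => hIc t (h.cT ht) (fun v hv => h.cT' ht hv) (hEt t ht))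
      (hIc x (mem_cen'.2 rfl) (fun v hv => h.cx hv) hEx) fun hn => h.not_le fun v hv => ?_
    · rintro _ ⟨v, hv, e, he, rfl⟩
      exact mul_mem (mul_mem (inv_mem hv) (h.cx hv)) (hEW e he)
    · exact mem_cen_of_eq_one (h.fix hv (hn ⟨v, hv, 1, one_mem _, by rw [mul_one]⟩))
  obtain ⟨v, hv, e, he, rfl⟩ := hI hc
  have h1 := h.fix hv (by simpa using mul_mem hcx (inv_mem (hEc e he)))
  rw [h1, one_mul]
  exact he

theorem main : ∃ y ∈ W, RealIn W y ∧ y ∉ cen x ∧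
    ∃ B : Subgroup G, IsPGroup 2 B ∧ B ≤ cen y ∧ 2 * Nat.card T ≤ Nat.card B := by
  obtain ⟨y, hy, hyc, hy2, hyt⟩ := h.exists_y
  have hQ : IsPGroup 2 (T ⊔ W : Subgroup G) := h.pT.to_sup_of_normal_right' h.pW h.nT
  refine ⟨y, hy, ?_, hyc, (T ⊔ W) ⊓ cen y, hQ.to_inf_left, inf_le_right, ?_⟩
  · obtain ⟨w, hw, e⟩ := h.exists_comm hy hyc hyt (inv_mem (mul_mem hy hy)) (inv_mem hy2)
    refine ⟨w, hw, ?_⟩
    calc w * y * w⁻¹ = (w * y * w⁻¹ * y⁻¹) * y := by group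
      _ = y⁻¹ := by rw [← e]; group
  have hsup : (T ⊔ W) ⊓ cen y ⊔ W = T ⊔ W := by
    refine le_antisymm (sup_le inf_le_left le_sup_right) (sup_le (fun t ht => ?_) le_sup_right)
    obtain ⟨w, hw, e⟩ := h.exists_comm hy hyc hyt (mul_mem (h.cT' ht hy) (inv_mem hy)) (hyt t ht)
    have h1 : w⁻¹ * t ∈ (T ⊔ W) ⊓ cen y := by
      refine mem_inf.2 ⟨mul_mem (mem_sup_right (inv_mem hw)) (mem_sup_left ht), mem_cen.2 ?_⟩
      calc w⁻¹ * t * y * (w⁻¹ * t)⁻¹ = w⁻¹ * (t * y * t⁻¹ * y⁻¹) * y * w := by group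
        _ = y := by rw [e]; group
    have := mul_mem (mem_sup_right hw : w ∈ (T ⊔ W) ⊓ cen y ⊔ W) (mem_sup_left h1)
    simpa using this
  have e1 := card_sup_mul_card_inf h.nT
  have e2 := card_sup_mul_card_inf (H := (T ⊔ W) ⊓ cen y) (K := W)
    (inf_le_left.trans (sup_le h.nT le_normalizer))
  rw [hsup] at e2
  have hle : T ⊓ W ≤ (T ⊔ W) ⊓ cen y ⊓ W := fun t ht =>
    mem_inf.2 ⟨mem_inf.2 ⟨mem_sup_left ht.1, mem_cen'.2 (h.central ht.2 (h.cT ht.1) hy).symm⟩, ht.2⟩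
  obtain ⟨k, hk⟩ := card_dvd_of_le hle
  have hk2 : 2 ≤ k := by
    by_contra hn
    have h1 : Nat.card ((T ⊔ W) ⊓ cen y ⊓ W : Subgroup G) ≤ Nat.card (T ⊓ W : Subgroup G) := by
      rw [hk]
      exact (Nat.mul_le_mul_left _ (by omega : k ≤ 1)).trans (by rw [mul_one])
    have h2 := eq_of_le_of_card_ge hle h1
    have h3 : y ∈ T ⊓ W := by
      rw [h2]
      exact mem_inf.2 ⟨mem_inf.2 ⟨mem_sup_right hy, mem_cen'.2 rfl⟩, hy⟩
    exact hyc (h.cT h3.1)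
  have hW : 0 < Nat.card W := Nat.card_pos
  have e3 : Nat.card ((T ⊔ W) ⊓ cen y : Subgroup G) * Nat.card W = k * Nat.card T * Nat.card W := by
    rw [← e2, hk, mul_assoc k, ← e1]; ring
  rw [Nat.eq_of_mul_eq_mul_right hW e3]
  exact Nat.mul_le_mul_right _ hk2

end Min

end K1x

open K1x in
theorem k1 : K1.{u} := by
  intro G _ _ x T W hx hT hTx hW hTW hxW hn
  classical
  have hex : ∃ n : ℕ, ∃ U : Subgroup G, (U ≤ W ∧ T ≤ normalizer (U : Set G) ∧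
      x ∈ normalizer (U : Set G) ∧ ¬ U ≤ cen x) ∧ Nat.card U = n := ⟨_, W, ⟨le_rfl, hTW, hxW, hn⟩, rfl⟩
  obtain ⟨U, ⟨h1, h2, h3, h4⟩, h5⟩ := Nat.find_spec hex
  have hm : Min x T U := by
    refine ⟨hx, hT, hTx, hW.to_le h1, h2, h3, h4, fun V hV a b c => ?_⟩
    have h6 := Nat.find_min' hex ⟨V, ⟨hV.trans h1, fun t ht => mem_normalizer_fintype (a t ht),
      mem_normalizer_fintype b, c⟩, rfl⟩
    exact (eq_of_le_of_card_ge hV (h5 ▸ h6)).ge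
  obtain ⟨y, hy, r, hc, hB⟩ := hm.main
  exact ⟨y, h1 hy, r.mono h1, hc, hB⟩

end CL.RC
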