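/-
Real classes of equal 2-part (S3860): the proposition `LV`.
-/
import Cfsg.Agent.RC.Defs2

set_option autoImplicit false

open Cfsg CL.Grp Subgroup

namespace CL.RC

universe u

namespace LVx

theorem lemW (h1 : TW.{u}) {G : Type u} [Group G] [Finite G] {S Y : Subgroup G} {v : G}
    (hS : IsPGroup 2 S) (hY : Odd (Nat.card Y)) (SN : S ≤ normalizer (Y : Set G))
    (vN : v ∈ normalizer (Y : Set G)) (hv : v * v ∉ Y) :
    ∃ w : G, v⁻¹ * w ∈ Y ∧ (∀ t ∈ S, v⁻¹ * (t * v * t⁻¹) ∈ Y → t * w * t⁻¹ = w) ∧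
      ∀ t ∈ S, v * (t * v * t⁻¹) ∈ Y → t * w * t⁻¹ = w⁻¹ := by
  set N := normalizer (Y : Set G)
  let π : N →* N ⧸ Y.subgroupOf N := QuotientGroup.mk' _
  let vb := π ⟨v, vN⟩
  have k0 : ∀ t : N, π t * vb * (π t)⁻¹ = vb ↔ v⁻¹ * (t * v * (t : G)⁻¹) ∈ Y := fun t => by
    rw [eq_comm, ← map_mul, ← map_inv, ← map_mul]
    exact QuotientGroup.eq
  have k1 : ∀ t : N, π t * vb * (π t)⁻¹ = vb⁻¹ ↔ v * (t * v * (t : G)⁻¹) ∈ Y := fun t => by
    rw [eq_comm, ← map_mul, ← map_inv π t, ← map_mul, ← map_inv]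
    refine QuotientGroup.eq.trans ?_
    rw [inv_inv]; rfl
  have m : ∀ (K : Subgroup (N ⧸ Y.subgroupOf N)) (t : G) (ht : t ∈ S),
      t ∈ S ⊓ (K.comap π).map N.subtype ↔ π ⟨t, SN ht⟩ ∈ K := fun K t ht =>
    ⟨fun ⟨_, a, b, c⟩ => by obtain rfl : (a : G) = t := c; exact b, fun h => ⟨ht, ⟨t, SN ht⟩, h, rfl⟩⟩
  obtain ⟨w, a, b, c⟩ := h1 G Y (S ⊓ ((cst vb).comap π).map N.subtype) (S ⊓ ((cen vb).comap π).map N.subtype) v
    hY hS.to_inf_left (inf_le_left.trans SN) vN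
    (inf_le_inf_left _ (map_mono (comap_mono (cen_le_cst vb))))
    (fun s hs t ht hs' ht' => (m _ _ (mul_mem hs.1 ht.1)).2 (by
      have := mul_mem_cen_of_notMem ((m _ _ hs.1).1 hs) ((m _ _ ht.1).1 ht)
        (fun e => hs' ((m _ _ hs.1).2 e)) (fun e => ht' ((m _ _ ht.1).2 e))
      rwa [← map_mul] at this))
    (fun t ht => (k0 ⟨t, SN ht.1⟩).1 (mem_cen.1 ((m _ _ ht.1).1 ht)))
    (fun t ht ht' => (k1 ⟨t, SN ht.1⟩).1 ((mem_cst.1 ((m _ _ ht.1).1 ht)).resolve_left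
      fun e => ht' ((m _ _ ht.1).2 (mem_cen.2 e))))
  refine ⟨w, a, fun t ht e => b t ((m _ _ ht).2 (mem_cen.2 ((k0 ⟨t, SN ht⟩).2 e))), fun t ht e =>
    c t ((m _ _ ht).2 (Or.inr ((k1 ⟨t, SN ht⟩).2 e))) fun e' => hv ?_⟩
  have := mul_mem e (inv_mem ((k0 ⟨t, SN ht⟩).1 (mem_cen.1 ((m _ _ ht).1 e'))))
  simpa [mul_assoc] using this

theorem dich {G : Type u} [Group G] {X Y : Subgroup G} (hc : ⁅X, X⁆ ≤ Y) {t : G}
    (ht : t ∈ normalizer (X : Set G)) (h2 : t * t ∈ center G) :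
    (∃ v ∈ X, v ∉ Y ∧ v⁻¹ * (t * v * t⁻¹) ∈ Y) ∨ ∀ v ∈ X, v * (t * v * t⁻¹) ∈ Y := by
  refine or_iff_not_imp_right.2 fun hn => ?_
  push Not at hn
  obtain ⟨v, hv, hn⟩ := hn
  have ha : t * v * t⁻¹ ∈ X := (mem_normalizer_iff.1 ht v).1 hv
  refine ⟨_, mul_mem hv ha, hn, ?_⟩
  have e : t * t * v * (t * t)⁻¹ = v := by rw [← mem_center_iff.1 h2 v, mul_inv_cancel_right]
  have e2 : (v * (t * v * t⁻¹))⁻¹ * (t * (v * (t * v * t⁻¹)) * t⁻¹) =
      (t * v * t⁻¹)⁻¹ * v⁻¹ * (t * v * t⁻¹)⁻¹⁻¹ * v⁻¹⁻¹ := by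
    calc _ = (v * (t * v * t⁻¹))⁻¹ * (t * v * t⁻¹) * (t * t * v * (t * t)⁻¹) := by group
      _ = _ := by rw [e]; group
  rw [e2]
  exact hc (commutator_mem_commutator (inv_mem ha) (inv_mem hv))

end LVx

open LVx in
theorem lv (h1 : TW.{u}) (h2 : ZS.{u}) (h3 : EX.{u}) (h4 : LV1.{u}) : LV.{u} := by
  intro G _ _ M A L O c y S H LM Ln qL yP yZ yA Sst OL Oy Oo SO
  by_contra hn
  have hP : IsSylowIn 2 ((S : Subgroup G) ⊓ L) L := isSylowIn_inf_normal S L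
  set P := (S : Subgroup G) ⊓ L with Pdef
  obtain ⟨X, Y, s, sP, XO, YX, XX, SX, SY, hs⟩ := h4 G S P O S.isPGroup' inf_le_left
    (le_normalizer_inf' le_normalizer (by rw [normalizer_eq_top]; exact le_top)) Oo SO hn
  have XN : X ≤ normalizer (Y : Set G) := fun v hv => mem_normalizer_fintype fun a ha => by
    have := mul_mem (XX (commutator_mem_commutator hv (YX.le ha))) ha
    simpa [commutatorElement_def] using this
  have oo : ∀ v ∈ X, Odd (orderOf v) := fun v hv => Oo.of_dvd_nat (orderOf_dvd_natCard _ (XO hv))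
  have W : ∀ v ∈ X, v ∉ Y → ∃ w : G, y * w * y⁻¹ = w ∧
      (∀ e ∈ P, e * w * e⁻¹ = w → ∀ r ∈ cst w, r * e * r⁻¹ = e⁻¹ → e ∈ A) ∧
      (∀ t ∈ (S : Subgroup G), v⁻¹ * (t * v * t⁻¹) ∈ Y → t * w * t⁻¹ = w) ∧
      ∀ t ∈ (S : Subgroup G), v * (t * v * t⁻¹) ∈ Y → t * w * t⁻¹ = w⁻¹ := fun v hv hv' => by
    obtain ⟨w, a, b, d⟩ := lemW h1 S.isPGroup' (Oo.of_dvd_nat (card_dvd_of_le (YX.le.trans XO))) SY (XN hv)
      fun e => hv' (mem_of_odd_of_sq_mem (oo v hv) e)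
    have wX : w ∈ X := by simpa using mul_mem hv (YX.le a)
    refine ⟨w, ?_, fun e he ew r hr re => H.b2 w (LM (OL (XO wX))) (fun e => hv' ?_) (oo w wX)
      (isConj_iff.2 ⟨s, d s sP.1 (hs v hv)⟩) e (LM he.2) (Two.of_mem hP.isPGroup he)
      (mul_inv_eq_iff_eq_mul.1 ew) r hr re, b, d⟩
    · rw [← mem_cen'.1 (Oy (XO wX)), mul_inv_cancel_right]
    · simpa [e] using a
  have Zn := zc_normal L
  let π : G →* G ⧸ zc L := QuotientGroup.mk' _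
  have k : ∀ a b : G, π a = π b ↔ a * b⁻¹ ∈ zc L := fun a b => by
    rw [← mul_inv_eq_one, ← map_inv, ← map_mul]; exact QuotientGroup.eq_one_iff _
  have AZ : ∀ a ∈ A, a ∈ L → a ∈ zc L := fun a ha hl => mem_zc_of_center (H.ce.cen ha) hl
  have yc := H.ce.cen yA
  have sq : ∀ l : G, (l * y * l⁻¹) * (l * y * l⁻¹) = y * y := fun l => by
    calc _ = l * (y * y) * l⁻¹ := by group
      _ = _ := by rw [mem_center_iff.1 yc l, mul_inv_cancel_right]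
  have dc : ∀ t ∈ P, t * t = y * y → π t = π y ∨ ∀ v ∈ X, v * (t * v * t⁻¹) ∈ Y := fun t ht e => by
    refine (dich XX (SX ht.1) (e ▸ yc)).imp_left fun ⟨v, hv, hv', h⟩ => ?_
    obtain ⟨w, yw, b2, a, -⟩ := W v hv hv'
    have h0 : y * t ∈ A := b2 _ (mul_mem yP ht) (mem_cen.1 (mul_mem (mem_cen.2 yw) (mem_cen.2 (a t ht.1 h)))) y
      (Or.inl yw) (by
        calc _ = y * y * (t * t) * (y * t)⁻¹ := by group
          _ = _ := by rw [e, H.ce.sq _ yA, one_mul])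
    have := Zn.conj_mem _ (AZ _ (mul_mem h0 (inv_mem yA)) (mul_mem (mul_mem yP ht).2 (inv_mem (mul_mem yP yP).2))) y⁻¹
    rw [k]; simpa [mul_assoc] using this
  have db : ∀ t ∈ P, ∀ t' ∈ P, t * t = t' * t' → (∀ v ∈ X, v * (t * v * t⁻¹) ∈ Y) →
      (∀ v ∈ X, v * (t' * v * t'⁻¹) ∈ Y) → π t' = π t := fun t ht t' ht' e a a' => by
    obtain ⟨v, hv, hv'⟩ := SetLike.exists_of_lt YX
    obtain ⟨w, -, b2, -, d⟩ := W v hv hv'
    have i := d t ht.1 (a v hv)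
    have h0 : t⁻¹ * t' ∈ A := b2 _ (mul_mem (inv_mem ht) ht') (by
        calc _ = t⁻¹ * (t' * w * t'⁻¹) * t := by group
          _ = w := by rw [d t' ht'.1 (a' v hv), ← i]; group) t (Or.inr i) (by
        calc _ = t'⁻¹ * (t' * t') * t⁻¹ := by group
          _ = _ := by rw [← e]; group)
    have := Zn.conj_mem _ (AZ _ h0 (mul_mem (inv_mem ht) ht').2) t
    rw [k]; simpa [mul_assoc] using this
  obtain ⟨l, lL, y1P, ny⟩ := h2 G L P y qL hP yP yZ (AZ _ yA (mul_mem yP yP).2)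
  rw [← k] at ny
  have all : ∀ g : G, g * y * g⁻¹ ∈ P → π (g * y * g⁻¹) = π y ∨ π (g * y * g⁻¹) = π (l * y * l⁻¹) :=
    fun g hg => (dc _ hg (sq g)).imp_right fun b =>
      db _ y1P _ hg ((sq l).trans (sq g).symm) ((dc _ y1P (sq l)).resolve_left ny) b
  have py : ∀ p ∈ P, p * y * p⁻¹ * y⁻¹ ∈ zc L := fun p hp =>
    AZ _ ((mem_stb H.ce.cen).1 (Sst hp.1))
      (mul_mem (mul_mem (mul_mem hp yP) (inv_mem hp)) (inv_mem yP)).2
  let K := (cen (π y)).comap π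
  have mK : ∀ g : G, g ∈ K ↔ π (g * y * g⁻¹) = π y := fun g => by
    rw [map_mul, map_mul, map_inv]; exact mem_cen
  have py1 : ∀ p ∈ P, p * (l * y * l⁻¹) * p⁻¹ * (l * y * l⁻¹)⁻¹ ∈ zc L := fun p hp => by
    have e : p * (l * y * l⁻¹) * p⁻¹ = p * l * y * (p * l)⁻¹ := by group
    rw [← k, e]
    refine (all _ (e ▸ mul_mem (mul_mem hp y1P) (inv_mem hp))).resolve_left fun h => ny ?_
    have := mul_mem (inv_mem ((mK p).2 ((k _ _).2 (py p hp)))) ((mK _).2 h)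
    rw [inv_mul_cancel_left] at this
    exact (mK l).1 this
  obtain ⟨g, gL, hg, gP⟩ := h3 G L P y l hP yP py lL
  have gl : g * l ∈ K := (mK _).2 (by rw [k]; simpa [mul_assoc] using hg)
  have gK : g ∉ K := fun h => ny ((mK l).1 (by simpa using mul_mem (inv_mem h) gl))
  have gg : g * g ∈ K := by
    have e := (all g (gP y yP (py1 y yP))).resolve_left fun h => gK ((mK g).2 h)
    have : l⁻¹ * g ∈ K := (mK _).2 (by
      calc _ = (π l)⁻¹ * π (g * y * g⁻¹) * π l := by simp [mul_assoc]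
        _ = _ := by rw [e]; simp [mul_assoc])
    simpa [mul_assoc] using mul_mem gl this
  obtain ⟨m, hm, tm⟩ := exists_odd_pow_two g
  have gN : g ∈ normalizer (P : Set G) := mem_normalizer_fintype fun p hp => gP p hp (py1 p hp)
  have e := hP.eq_of_le (IsPGroup.to_sup_of_normal_left' hP.isPGroup tm.zpowers (zpowers_le.2 (pow_mem gN m)))
    le_sup_left (sup_le hP.le (zpowers_le.2 (pow_mem gL m)))
  have gm : g ^ m ∈ P := by rw [← e]; exact mem_sup_right (mem_zpowers _)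
  exact gK (mem_of_odd_pow_mem_of_sq_mem hm ((mK _).2 ((k _ _).2 (py _ gm))) gg)

end CL.RC
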