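/-
Real classes of equal 2-part (S3860): a section inverted by an element of a 2-group.
-/
import Cfsg.Agent.RC.Defs2
import Cfsg.Agent.S0205

set_option autoImplicit false

open Cfsg CL.Grp Subgroup
open scoped commutatorElement

namespace CL.RC

universe u

theorem lv1 : LV1.{u} := by
  intro G _ _ S P O hS hPS hP hO hSO hc
  have cj : ∀ {H : Subgroup G} {g v : G}, g ∈ normalizer (H : Set G) → v ∈ H → g * v * g⁻¹ ∈ H := fun hg hv =>
    (mem_normalizer_iff.1 hg _).1 hv
  have n1 : (P.subgroupOf S).Normal := ⟨fun a ha g => cj (H := P) (hP g.2) ha⟩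
  have n2 : ((centralizer (O : Set G)).subgroupOf S).Normal :=
    ⟨fun a ha g => cj (H := centralizer (O : Set G)) (le_normalizer_centralizer' hSO g.2) ha⟩
  obtain ⟨⟨s, sS⟩, sP, s1, s2, sc⟩ := exists_central_mod_of_not_le hS (N := (centralizer (O : Set G)).subgroupOf S)
    (M := P.subgroupOf S) fun h => hc fun x hx => h (x := ⟨x, hPS hx⟩) hx
  obtain ⟨X, hX⟩ : ∃ X, X = closure {v | v ∈ O ∧ s * v * s⁻¹ = v⁻¹} := ⟨_, rfl⟩
  have XO : X ≤ O := hX ▸ (closure_le _).2 fun v hv => hv.1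
  have SX : S ≤ normalizer (X : Set G) := fun g hg => mem_normalizer_fintype fun v hv => by
    rw [hX] at hv ⊢
    induction hv using closure_induction with
    | mem v hv =>
      refine subset_closure ⟨cj (hSO hg) hv.1, ?_⟩
      have e : g * v⁻¹ * g⁻¹ * ⁅s, g⁆ = ⁅s, g⁆ * (g * v⁻¹ * g⁻¹) := sc ⟨g, hg⟩ _ (cj (hSO hg) (inv_mem hv.1))
      calc _ = ⁅s, g⁆ * (g * (s * v * s⁻¹) * g⁻¹) * ⁅s, g⁆⁻¹ := by rw [commutatorElement_def]; group
        _ = _ := by rw [hv.2, ← e]; group
    | one => simp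
    | mul a b _ _ ha hb => exact conj_mul (b := g) ▸ mul_mem ha hb
    | inv a _ ha => exact conj_inv (b := g) ▸ inv_mem ha
  have X1 : X ≠ ⊥ := fun e => s1 fun v hv => by
    have h2 : v⁻¹ * (s * s) = s * s * v⁻¹ := by simpa [pow_two] using s2 _ (inv_mem hv)
    have : ⁅v, s⁆ ∈ X := hX ▸ subset_closure ⟨by
      rw [commutatorElement_def, mul_assoc, mul_assoc, ← mul_assoc s]
      exact mul_mem hv (cj (hSO sS) (inv_mem hv)), by
      calc _ = s * v * s⁻¹ * (s * s * v⁻¹) * s⁻¹ * s⁻¹ := by rw [commutatorElement_def]; group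
        _ = s * v * s⁻¹ * (s * s * v⁻¹ * (s * s)⁻¹) := by group
        _ = _ := by rw [← h2, commutatorElement_def]; group⟩
    exact commutatorElement_eq_one_iff_mul_comm.1 (mem_bot.1 (e ▸ this))
  have sol := Cfsg.Agent.S0205.result (G := X) (hO.of_dvd_nat (card_dvd_of_le XO))
  have nt := (nontrivial_iff_ne_bot X).2 X1
  refine ⟨X, ⁅X, X⁆, s, sP, XO, lt_of_le_of_ne ((commutator_le_sup _ _).trans (sup_idem X).le) fun e =>
    (Group.IsSolvable.commutator_lt_top_of_nontrivial X).ne (map_injective X.subtype_injective ?_), le_rfl, SX,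
    le_normalizer_commutator' SX SX, fun v hv => ?_⟩
  · rw [map_subtype_commutator, e, ← MonoidHom.range_eq_map, range_subtype]
  have hv' := hX ▸ hv
  clear hv
  induction hv' using closure_induction with
  | mem v hv => rw [hv.2, mul_inv_cancel]; exact one_mem _
  | one => simp
  | mul a b ha hb ia ib =>
    rw [← hX] at ha hb
    rw [show a * b * (s * (a * b) * s⁻¹) = ⁅a, b⁆ * ⁅b, a * (s * a * s⁻¹)⁆ * (a * (s * a * s⁻¹)) * (b * (s * b * s⁻¹)) by
      simp only [commutatorElement_def]; group]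
    exact mul_mem (mul_mem (mul_mem (commutator_mem_commutator ha hb)
      (commutator_mem_commutator hb (mul_mem ha (cj (SX sS) ha)))) ia) ib
  | inv a ha ia =>
    rw [← hX] at ha
    rw [show a⁻¹ * (s * a⁻¹ * s⁻¹) = (⁅s * a * s⁻¹, a⁆ * (a * (s * a * s⁻¹)))⁻¹ by
      simp only [commutatorElement_def]; group]
    exact inv_mem (mul_mem (commutator_mem_commutator (cj (SX sS) ha) ha) ia)

end CL.RC
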