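/-
Real classes of equal 2-part (S3860): the main statement from the intermediate propositions.
-/
import Cfsg.Agent.RC.Defs2

set_option autoImplicit false

open Cfsg CL.Grp Subgroup

namespace CL.RC

universe u

theorem oddCore_top_eq_bot {G : Type*} [Group G] (h : oddCore G = ⊥) : oddCore (⊤ : Subgroup G) = ⊥ :=
  pPrimeCore_eq_bot_of_equiv (Subgroup.topEquiv (G := G)).symm h

/-- the configuration `A1` exists when the Sylow 2-subgroups have order `2 c` -/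
theorem exists_a1 (hHA : HA.{u}) (hST : ST.{u}) (hNQ : NQ.{u}) (hBS : BS.{u}) (hCF : CF.{u})
    {G : Type u} [Group G] [Finite G] {c : ℕ} (h : HH G c) (hO : oddCore G = ⊥) (hc : ¬ Clo (⊤ : Subgroup G))
    (P : Sylow 2 G) (hP : Nat.card P = 2 * c) : ∃ (L S : Subgroup G) (x : G), A1 c L S x := by
  obtain ⟨L, -, hL, hq, hom⟩ := hST G ⊤ (om G) c (hHA G c h) (oddCore_top_eq_bot hO) hc
  obtain ⟨Q, hQ⟩ := exists_isSylowIn 2 L
  obtain ⟨y0, hy0, ⟨r, hr, hr'⟩, hz⟩ := hNQ G L Q hq.qs hQ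
  have h0 : y0 ∉ om G := fun e => hz (mem_zc_of_center e.1 (hQ.le hy0))
  obtain ⟨k, hk1, hk2⟩ := (Two.of_mem hQ.isPGroup hy0).exists_last h0
  set y := y0 ^ 2 ^ k with hy
  have hyL : y ∈ L := pow_mem (hQ.le hy0) _
  have hinv : r * y * r⁻¹ = y⁻¹ := conj_pow_inv hr' _
  have hyz : y ∉ zc L := by
    intro e
    refine hk1 (hom y e ?_)
    rw [e.2 r (hQ.le hr), mul_inv_cancel_right] at hinv
    nth_rewrite 2 [hinv]; exact mul_inv_cancel y
  obtain ⟨x, hxL, hx1, hxo, hx⟩ := hBS G L y hq hyL hyz (mem_zc_of_center hk2.1 (mul_mem hyL hyL))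
  have hy2 : Two y := (Two.of_mem hQ.isPGroup hy0).pow _
  obtain ⟨S, hS, hyS⟩ := hCF G c x (zpowers y) h hx1 hxo (isConj_iff.2 ⟨y, hx⟩) hy2.zpowers
    (zpowers_le.2 (Or.inr hx))
  refine ⟨L, S, x, h, hL, hq, hom, hS, ?_, hxL, y, hyS (mem_zpowers y), ⟨hyL, hyz, ⟨r, hQ.le hr, hinv⟩, hk2⟩, hx⟩
  exact (isSylowIn_top P).of_card_le hS.two le_top (by rw [hS.card, ← hP])

theorem main_of (hHA : HA.{u}) (hHB : HB.{u}) (hCB : CB.{u}) (hST : ST.{u}) (hNQ : NQ.{u}) (hBS : BS.{u})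
    (hCF : CF.{u}) (h2a : A2a.{u}) (h2b : A2b.{u}) (h3 : A3.{u}) (h4a : A4a.{u}) (h4b : A4b.{u}) :
    Main.{u} := by
  intro G _ _ c h hO w h1 ho hr
  have hc : ¬ Clo (⊤ : Subgroup G) := fun e => by
    obtain ⟨r, hr⟩ := isConj_iff.1 hr
    exact e w (mem_top _) h1 ho ⟨r, mem_top _, hr⟩
  obtain ⟨T, hT, -⟩ := hCF G c w ⊥ h h1 ho hr IsPGroup.of_bot bot_le
  obtain ⟨P⟩ : Nonempty (Sylow 2 G) := inferInstance
  by_cases hP : Nat.card P = 2 * c
  · obtain ⟨L, S, x, hA⟩ := exists_a1 hHA hST hNQ hBS hCF h hO hc P hP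
    have hZ1 := h2a G c L S x hA
    obtain ⟨z, y, i, hZ2⟩ := h2b G c L S x hA hZ1
    have hJ := h3 G c L S x z y i hA hZ1 hZ2
    refine h4a G c L S x z y i hA hZ1 hZ2 hJ fun r hr1 hr2 => ?_
    by_contra hr3
    exact h4b G c L S x z y i r hA hZ1 hZ2 hJ hr1 hr2 hr3
  · refine hc (hCB G ⊤ (om G) c (hHB G c h fun S => ?_) (oddCore_top_eq_bot hO))
    have e : Nat.card S = Nat.card P := (isSylowIn_top S).card_eq (isSylowIn_top P)
    obtain ⟨d, hd⟩ := (isSylowIn_top P).card_dvd hT.two le_top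
    obtain ⟨n, hn⟩ := IsPGroup.iff_card.1 P.isPGroup'
    rw [hT.card] at hd
    have hd1 : d ≠ 1 := fun e1 => hP (by rw [hd, e1, mul_one])
    have hd0 : d ≠ 0 := fun e1 => by
      rw [e1, mul_zero] at hd
      exact Nat.card_pos.ne' hd
    have hd2 : 2 ≤ d := by omega
    change 4 * c ≤ Nat.card (S : Subgroup G)
    rw [show Nat.card (S : Subgroup G) = 2 * c * d from e.trans hd]
    nlinarith

end CL.RC
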