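/-
Real classes of equal 2-part (S3860): the commutators of a real element of order dividing four.
-/
import Cfsg.Agent.RC.Defs2

set_option autoImplicit false

open Cfsg CL.Grp Subgroup

namespace CL.RC

universe u

namespace U1x

variable {G : Type*} [Group G]

/-- `[g, u]` is a class function on `stb A u` -/
theorem psi_conj {A : Subgroup G} {u g h : G} (hh : h ∈ stb A u) (hg : g ∈ stb A u) :
    h * g * h⁻¹ * u * (h * g * h⁻¹)⁻¹ = g * u * g⁻¹ := by
  have e1 := stb_mul (h * g) (inv_mem hh)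
  have e2 := stb_mul h hg
  have e3 := stb_mul h (inv_mem hh)
  have hc := mem_center_iff.1 hg.2 (h⁻¹ * u * h⁻¹⁻¹ * u⁻¹)
  rw [e2, ← mul_assoc, hc, mul_assoc (g * u * g⁻¹ * u⁻¹), ← e3] at e1
  simp only [mul_inv_cancel, one_mul, inv_one, mul_one] at e1
  exact mul_right_cancel e1

theorem stb_le_normalizer [Finite G] (A : Subgroup G) (u : G) : stb A u ≤ normalizer (cen u : Set G) :=
  fun _ hh => mem_normalizer_fintype fun t ht =>
    mem_cen.2 ((psi_conj hh (cen_le_stb A u ht)).trans (mem_cen.1 ht))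

theorem odd_pow_conj {A : Subgroup G} (hA : CE2 A) {u g : G} (hg : g ∈ stb A u) {m : ℕ} (hm : Odd m) :
    g ^ m * u * (g ^ m)⁻¹ = g * u * g⁻¹ := by
  obtain ⟨k, rfl⟩ := hm
  have h3 := mem_cen.1 (pow_mem (sq_mem_cen_of_stb hA hg) k)
  rw [← pow_two, ← pow_mul] at h3
  calc g ^ (2 * k + 1) * u * (g ^ (2 * k + 1))⁻¹ = g * (g ^ (2 * k) * u * (g ^ (2 * k))⁻¹) * g⁻¹ := by group
    _ = _ := by rw [h3]

theorem cen_le_normalizer_zpowers (u : G) : cen u ≤ normalizer (zpowers u : Set G) := by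
  refine le_trans ?_ (centralizer_le_normalizer _)
  rw [zpowers_eq_closure, centralizer_closure]

theorem mul_mem_of_two [Finite G] {R S : Subgroup G} (h : R ≤ S) (hc : Nat.card S = 2 * Nat.card R) {a b : G}
    (ha : a ∈ S) (hb : b ∈ S) (ha' : a ∉ R) (hb' : b ∉ R) : a * b ∈ R := by
  have h1 := card_mul_relIndex h
  rw [hc, mul_comm 2] at h1
  have h2 : (R.subgroupOf S).index = 2 := Nat.eq_of_mul_eq_mul_left Nat.card_pos h1
  exact (mul_mem_iff_of_index_two h2 (a := ⟨a, ha⟩) (b := ⟨b, hb⟩)).2 (iff_of_false ha' hb')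

end U1x

open U1x in
theorem u1 (h : F1.{u}) : U1.{u} := by
  intro G _ _ c S u hH hS hSc ⟨hr, hz, huu⟩
  obtain ⟨⟨R, hR2, hRu, hRc⟩, hmax⟩ := hH u hr hz
  have hu2 : Two u := (Two.of_sq huu.2).of_mul_self
  obtain ⟨R', hR'⟩ := exists_isSylowIn 2 (cen u)
  have hRs : IsSylowIn 2 R (cen u) := hR'.of_card_le hR2 hRu (hRc ▸ hmax R' hR'.isPGroup hR'.le)
  have huR : u ∈ R := hRs.le_of_normalized hu2.zpowers (zpowers_le.2 (mem_cen'.2 rfl))
    (cen_le_normalizer_zpowers u) (mem_zpowers u)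
  obtain ⟨Su, hSu, hRS⟩ := exists_isSylowIn_ge hR2 (le_top : R ≤ ⊤)
  have hSuc : Nat.card Su = 2 * Nat.card R := by rw [hSu.card_eq hS, hSc, hRc]
  have hpos : 0 < Nat.card R := Nat.card_pos
  have two : ∀ {a b : G}, a ∈ Su → b ∈ Su → a ∉ R → b ∉ R → a * b ∈ R := mul_mem_of_two hRS hSuc
  obtain ⟨g0, hg0, hg0c⟩ : ∃ g0 ∈ Su, g0 ∉ cen u := by
    by_contra hn
    push Not at hn
    have := hmax Su hSu.isPGroup hn
    omega
  have hg0R : g0 ∉ R := fun e => hg0c (hRu e)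
  have hnorm : ∀ {s r : G}, s ∈ Su → s ∉ R → r ∈ R → s * r * s⁻¹ ∈ R := fun {s r} hs hs' hr =>
    two (mul_mem hs (hRS hr)) (inv_mem hs) (fun e => hs' ((R.mul_mem_cancel_right hr).1 e))
      (fun e => hs' (R.inv_mem_iff.1 e))
  have hall : ∀ {H : Subgroup G}, R ≤ H → g0 ∈ H → Su ≤ H := fun {H} hRH hg s hs => by
    by_cases hsR : s ∈ R
    · exact hRH hsR
    · have := H.mul_mem (H.inv_mem hg) (hRH (two hg0 hs hg0R hsR))
      rwa [inv_mul_cancel_left] at this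
  set u' := g0 * u * g0⁻¹ with hu'
  have hu'R : u' ∈ R := hnorm hg0 hg0R huR
  have hcu : u' * u = u * u' := mem_cen'.1 (hRu hu'R)
  have hRu' : ∀ r ∈ R, r * u' = u' * r := fun r hr => by
    have h1 := mem_cen'.1 (hRu (hnorm (inv_mem hg0) (fun e => hg0R (R.inv_mem_iff.1 e)) hr))
    calc r * u' = g0 * (g0⁻¹ * r * g0⁻¹⁻¹ * u) * g0⁻¹ := by rw [hu']; group
      _ = u' * r := by rw [h1, hu']; group
  have hu'u' : u' * u' = u * u := by
    calc u' * u' = g0 * (u * u) * g0⁻¹ := by rw [hu']; group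
      _ = u * u := by rw [mem_center_iff.1 huu.1 g0]; group
  have he2 : u * u' * (u * u') = 1 := by
    calc u * u' * (u * u') = u * (u' * u) * u' := by group
      _ = (u * u) * (u' * u') := by rw [hcu]; group
      _ = 1 := by rw [hu'u', huu.2]
  have hSe : Su ≤ cen (u * u') := by
    refine hall (fun r hr => mem_cen'.2 ?_) (mem_cen.2 ?_)
    · rw [← mul_assoc, mem_cen'.1 (hRu hr), mul_assoc, hRu' r hr, mul_assoc u u']
    · have h1 := mem_cen.1 (hRu (two hg0 hg0 hg0R hg0R))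
      calc g0 * (u * u') * g0⁻¹ = u' * (g0 * g0 * u * (g0 * g0)⁻¹) := by rw [hu']; group
        _ = u * u' := by rw [h1, hcu]
  have he : u * u' ∈ om G := h G c _ Su hH (isConj_inv_of_sq he2) hSu.isPGroup hSe (by omega)
  have hw : u⁻¹ * u' ∈ om G := by
    have := mul_mem (inv_mem huu) he
    rwa [show (u * u)⁻¹ * (u * u') = u⁻¹ * u' by group] at this
  have hg0u : g0 * u * g0⁻¹ = u * (u⁻¹ * u') := by rw [hu']; group
  have hg0H : g0 ∈ stb (om G) u := (mem_stb ce2_om.cen).2 (by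
    rw [hg0u, ce2_om.comm hw u, mul_inv_cancel_right]; exact hw)
  have hSH : Su ≤ stb (om G) u := hall (hRu.trans (cen_le_stb _ u)) hg0H
  have hval : ∀ g : G, g * u * g⁻¹ * u⁻¹ ∈ om G → g * u * g⁻¹ = u ∨ g * u * g⁻¹ = u * (u⁻¹ * u') := by
    intro g hg
    have hgH : g ∈ stb (om G) u := (mem_stb ce2_om.cen).2 hg
    obtain ⟨m, hm, hm2⟩ := exists_odd_pow_two g
    obtain ⟨k, hk, hle⟩ := (hSu.of_le hSH le_top).exists_conj_le hm2.zpowers (zpowers_le.2 (pow_mem hgH m))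
    have hs : k * g ^ m * k⁻¹ ∈ Su := hle (conj_mem_conj_smul k (mem_zpowers _))
    rw [← odd_pow_conj ce2_om hgH hm, ← psi_conj hk (pow_mem hgH m)]
    generalize k * g ^ m * k⁻¹ = s at hs
    by_cases hsR : s ∈ R
    · exact Or.inl (mem_cen.1 (hRu hsR))
    · right
      have h1 := mem_cen.1 (hRu (two (inv_mem hg0) hs (fun e => hg0R (R.inv_mem_iff.1 e)) hsR))
      calc s * u * s⁻¹ = g0 * (g0⁻¹ * s * u * (g0⁻¹ * s)⁻¹) * g0⁻¹ := by group
        _ = _ := by rw [h1, hg0u]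
  refine ⟨u⁻¹ * u', hw, fun e => hg0c (mem_cen.2 (by rw [hg0u, e, mul_one])), hval, ?_⟩
  obtain ⟨r, hr'⟩ := isConj_iff.1 hr
  rcases hval r (by rw [hr', ← mul_inv_rev]; exact inv_mem huu) with e | e <;> rw [hr'] at e
  · exact Or.inl (by nth_rewrite 1 [← e]; exact inv_mul_cancel u)
  · right
    rw [← ce2_om.inv_eq hw, eq_inv_iff_mul_eq_one, mul_assoc, ← e, mul_inv_cancel]

end CL.RC
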