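/-
Real classes of equal 2-part (S3860): a real 2-element in the centralizer of a real element of odd order.
-/
import Cfsg.Agent.RC.U1

set_option autoImplicit false

open Cfsg CL.Grp Subgroup

namespace CL.RC

universe u

theorem ps (h1 : F3.{u}) (h2 : CF.{u}) (h3 : MS.{u}) (h4 : HP.{u}) (h5 : CE.{u}) : PS.{u} := by
  intro G _ _ c x v r hH hx1 hxo hxr hv2 hvx hvA hrx hrv S
  obtain ⟨m, hm, hm2⟩ := exists_odd_pow_two r
  have hrv' := odd_pow_conj_inv hrv hm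
  have hrx' := pow_mem hrx m
  generalize r ^ m = r' at hm2 hrv' hrx'
  have hn : zpowers r' ≤ normalizer (zpowers v : Set G) := zpowers_le.2 (mem_normalizer_fintype (by
    rintro _ ⟨k, rfl⟩
    change r' * v ^ k * r'⁻¹ ∈ zpowers v
    rw [← conj_zpow, hrv']
    exact zpow_mem (inv_mem (mem_zpowers v)) k))
  obtain ⟨T, hT, hUT⟩ := h2 G c x (zpowers v ⊔ zpowers r') hH hx1 hxo hxr
    (hv2.zpowers.to_sup_of_normal_left' hm2.zpowers hn)
    ((sup_le (zpowers_le.2 hvx) (zpowers_le.2 hrx')).trans (cen_le_cst x))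
  have hvT : v ∈ T := hUT (mem_sup_left (mem_zpowers v))
  have hrT : r' ∈ T := hUT (mem_sup_right (mem_zpowers r'))
  obtain ⟨u, hu0, huA, huu, ⟨r0, hr0, hr0u⟩, hTH⟩ := h3 G (om G) T (T ⊓ cen x) v ce2_om hT.two inf_le_left
    (fun s hs => mem_normalizer_fintype fun t ht => hT.conj_mem hs ht) ⟨hvT, hvx⟩ hvA ⟨r', ⟨hrT, hrx'⟩, hrv'⟩
  have ha : ∀ s ∈ T, s ∈ cen u → s ∈ cen x := fun s hs hsu => by
    by_contra hsx
    exact huA (h1 G c x u r0 s hH hx1 hxo (Two.of_mem hT.two hu0.1) hu0.2 hr0.2 hr0u (hT.inv hs hsx)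
      (mem_cen.1 hsu))
  have hur : IsConj u u⁻¹ := isConj_iff.2 ⟨r0, hr0u⟩
  obtain ⟨⟨B0, hB2, hBu, hBc⟩, hmax⟩ := hH u hur fun e => huA (mem_om_of_real_of_center hur e)
  obtain ⟨Su, hSu, hTS⟩ := exists_isSylowIn_ge hT.two hTH
  have hRu : IsSylowIn 2 (Su ⊓ cen u) (cen u) :=
    hSu.inf_of_normalized (cen_le_stb _ u) (U1x.stb_le_normalizer _ u)
  by_cases hcase : Su ⊓ cen u ≤ T
  · have hle : Su ⊓ cen u ≤ T ⊓ cen x := fun s hs => ⟨hcase hs, ha s (hcase hs) hs.2⟩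
    have he : Su ⊓ cen u = T ⊓ cen x :=
      eq_of_le_of_card_ge hle (by rw [hT.card0, ← hBc]; exact hRu.card_le hB2 hBu)
    have h0 : ∀ t ∈ T ⊓ cen x, t * u * t⁻¹ = u := fun t ht => mem_cen.1 (he ▸ ht : t ∈ Su ⊓ cen u).2
    obtain ⟨s, hs, hsx⟩ := hT.exists_notMem
    have hw : s * u * s⁻¹ * u⁻¹ ∈ om G := (mem_stb ce2_om.cen).1 (hTH hs)
    have hsyl := h5 G c x u (s * u * s⁻¹ * u⁻¹) T hH hT hu0 h0 huu hw
      (fun e => hsx (ha s hs (mem_cen.2 (mul_inv_eq_one.1 e)))) fun t ht htx => by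
        have h6 := h0 _ (hT.mul_mem (inv_mem hs) ht (fun e => hsx ((cen x).inv_mem_iff.1 e)) htx)
        calc t * u * t⁻¹ = s * (s⁻¹ * t * u * (s⁻¹ * t)⁻¹) * s⁻¹ := by group
          _ = _ := by rw [h6, ce2_om.comm hw u, inv_mul_cancel_right]
    rw [(isSylowIn_top S).card_eq hsyl, hT.card]
  · exfalso
    have hBS : T ⊔ Su ⊓ cen u ≤ Su := sup_le hTS inf_le_left
    have hlt : T < T ⊔ Su ⊓ cen u := left_lt_sup.2 hcase
    obtain ⟨g, ⟨hgB, hgN⟩, hgT⟩ :=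
      SetLike.exists_of_lt (lt_inf_normalizer_of_isPGroup (hSu.isPGroup.to_le hBS) hlt)
    have hTN : T ≤ normalizer ((Su ⊓ cen u : Subgroup G) : Set G) :=
      hTS.trans (le_normalizer_inf' le_normalizer (hSu.le.trans (U1x.stb_le_normalizer _ u)))
    obtain ⟨t, ht, r1, hr1, rfl⟩ := (mem_sup_iff_of_le_normalizer' hTN).1 hgB
    have hr1N : r1 ∈ normalizer (T : Set G) :=
      (Subgroup.mul_mem_cancel_left _ (le_normalizer ht)).1 hgN
    obtain ⟨k, hk1, hk2⟩ := (Two.of_mem hSu.isPGroup hr1.1).exists_last (A := T)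
      fun e => hgT (mul_mem ht e)
    have hr2 := pow_mem hr1 (2 ^ k)
    have hr2N := pow_mem hr1N (2 ^ k)
    generalize r1 ^ 2 ^ k = r2 at hk1 hk2 hr2 hr2N
    obtain ⟨k', hk', hk'x, hk'c⟩ := h4 G c x r2 T Su hH hT hSu.isPGroup hTS hr2.1 hk1 hr2N (fun t ht => by
      have h6 : r2 * t * r2⁻¹ ∈ T := (mem_normalizer_iff.1 hr2N t).1 ht.1
      have h7 := U1x.psi_conj (hSu.le hr2.1) (hTH ht.1)
      have h8 : t⁻¹ * (r2 * t * r2⁻¹) ∈ cen u := mem_cen.2 (by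
        calc t⁻¹ * (r2 * t * r2⁻¹) * u * (t⁻¹ * (r2 * t * r2⁻¹))⁻¹
            = t⁻¹ * (r2 * t * r2⁻¹ * u * (r2 * t * r2⁻¹)⁻¹) * t := by group
          _ = u := by rw [h7]; group)
      exact ⟨h6, (Subgroup.mul_mem_cancel_left _ (inv_mem ht.2)).1 (ha _ (mul_mem (inv_mem ht.1) h6) h8)⟩)
      ⟨hk2, ha _ hk2 (mul_mem hr2.2 hr2.2)⟩
    exact hk'x (ha k' hk' (mem_cen'.2 (hk'c u hu0)))

theorem hb (h1 : F1.{u}) (h2 : F2.{u}) (h3 : CE.{u}) (h4 : PS.{u}) : HB.{u} := by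
  intro G _ _ c hH h4c
  refine ⟨inferInstance, ce2_om, fun w _ hw1 hwo hwr => ?_, fun v _ hvA _ hvr => ?_,
    fun w _ hw1 hwo hwr v _ hv2 hvw r hr hrv => ?_, h4c⟩
  · obtain ⟨B, hB2, hBw, hBc⟩ := (hH w hwr (not_center_of_real_odd hw1 hwo hwr)).1
    exact ⟨B, hB2, hBw, hBc.ge⟩
  · exact (hH v hvr fun e => hvA (mem_om_of_real_of_center hvr e)).2
  by_contra hvA
  obtain ⟨S⟩ : Nonempty (Sylow 2 G) := inferInstance
  have hS := h4c S
  have hpos : 0 < Nat.card S := Nat.card_pos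
  rcases mem_cst.1 hr with hrw | hrw
  · have := h4 G c w v r hH hw1 hwo hwr hv2 (mem_cen'.2 hvw) hvA (mem_cen.2 hrw) hrv S
    omega
  obtain ⟨T, hT, hvT, h0, hout⟩ := h2 G c w v r hH hw1 hwo hv2 (mem_cen'.2 hvw) hrw hrv
  have key : ∀ n : ℕ, v ^ n * v ^ n = 1 → v ^ n ∈ om G := fun n hn =>
    h1 G c _ T hH (isConj_inv_of_sq hn) hT.two (fun t ht => mem_cen.2 (by
      by_cases htw : t ∈ cen w
      · rw [← conj_pow, h0 t ht htw]
      · rw [conj_pow_inv (hout t ht htw), inv_eq_of_mul_eq_one_right hn])) hT.lt_card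
  by_cases hvv : v * v = 1
  · exact hvA (by simpa using key 1 (by simpa using hvv))
  obtain ⟨k, hk1, hk2⟩ := hv2.exists_four hvv
  have huu : v ^ k * v ^ k ∈ om G := by
    have := key (k + k) (by rw [pow_add]; exact hk2)
    rwa [pow_add] at this
  have hsyl := h3 G c w (v ^ k) (v ^ k * v ^ k) T hH hT (pow_mem (⟨hvT, mem_cen'.2 hvw⟩ : v ∈ T ⊓ cen w) k)
    (fun t ht => by rw [← conj_pow, h0 t ht.1 ht.2]) huu huu hk1 fun t ht htw => by
      rw [conj_pow_inv (hout t ht htw), inv_eq_iff_mul_eq_one, ← mul_assoc, hk2]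
  have := (isSylowIn_top S).card_eq hsyl
  rw [hT.card] at this
  have e : Nat.card S = 2 * c := this
  omega

end CL.RC
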