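/-
RC-Q2: Z*, Thompson transfer, Baer-Suzuki and four-groups in a quasisimple group with centre a 2-group.
-/
import Cfsg.Agent.RC.Defs2
import Cfsg.Agent.Inv.BaerSuzuki
import Cfsg.Agent.S0215
import Cfsg.Agent.S0111
import Cfsg.Agent.S0204
import Cfsg.Agent.S0205

set_option autoImplicit false

open Cfsg CL.Grp Subgroup

namespace CL.RC

universe u

namespace Q2x

variable {G : Type u} [Group G] [Finite G] {L P : Subgroup G}

/-- the projection -/
abbrev pr (L : Subgroup G) : L →* L ⧸ center L := QuotientGroup.mk' (center L)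

omit [Finite G] in
theorem pr_one {a : L} : pr L a = 1 ↔ (a : G) ∈ zc L := (QuotientGroup.eq_one_iff a).trans coe_mem_zc.symm

omit [Finite G] in
theorem mem_map {R : Subgroup G} (hR : zc L ≤ R) {a : L} : pr L a ∈ (R.subgroupOf L).map (pr L) ↔ (a : G) ∈ R := by
  refine ⟨?_, fun h => ⟨a, h, rfl⟩⟩
  rintro ⟨b, hb, e⟩
  have : ((b⁻¹ * a : L) : G) ∈ R := hR (pr_one.1 (by rw [map_mul, map_inv, e, inv_mul_cancel]))
  simpa using mul_mem (show (b : G) ∈ R from hb) this

theorem exists_syl (h : QS L) (hP : IsSylowIn 2 P L) :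
    ∃ S : Sylow 2 (L ⧸ center L), (S : Subgroup _) = (P.subgroupOf L).map (pr L) :=
  ⟨hP.toSylow.mapSurjective (QuotientGroup.mk'_surjective _), rfl⟩

omit [Finite G] in
theorem ord {u : L} (h1 : (u : G) ∉ zc L) (h2 : (u : G) * u ∈ zc L) : orderOf (pr L u) = 2 :=
  orderOf_eq_prime (by rw [pow_two, ← map_mul]; exact pr_one.2 h2) fun e => h1 (pr_one.1 e)

omit [Finite G] in
theorem nsolv (h : QS L) : ¬ Group.IsSolvable (L ⧸ center L) :=
  haveI := h.qs.2
  CL.Loc.IsQuasisimple.not_isSolvable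
    (CL.Loc.isQuasisimple_of_isSimpleGroup (CL.Loc.IsQuasisimple.not_isMulCommutative_quotient h.qs))

theorem ntwo (h : QS L) : ¬ IsPGroup 2 (L ⧸ center L) := fun k =>
  haveI := k.isNilpotent
  nsolv h inferInstance

end Q2x

open Q2x

theorem zs : ZS.{u} := by
  intro G _ _ L P u h hP uP u1 u2
  have := h.qs.2
  obtain ⟨S, hS⟩ := exists_syl h hP
  by_contra k
  push Not at k
  set v : L := ⟨u, hP.le uP⟩
  obtain ⟨N, hN, o, c⟩ := Cfsg.Agent.S0215.result S (pr L v) (ord u1 u2) (show pr L v ∈ (S : Subgroup _) from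
    hS ▸ (mem_map (h.zc_le hP)).2 uP) fun g hg => by
    obtain ⟨l, rfl⟩ := QuotientGroup.mk'_surjective _ g
    have hg : pr L (l * v * l⁻¹) ∈ (S : Subgroup _) := by rw [map_mul, map_mul, map_inv]; exact hg
    have := pr_one.2 (show ((l * v * l⁻¹ * v⁻¹ : L) : G) ∈ zc L from k l l.2 ((mem_map (h.zc_le hP)).1 (hS ▸ hg)))
    simpa [mul_inv_eq_one] using this
  rcases hN.eq_bot_or_eq_top with rfl | rfl
  · rcases (inferInstance : (center (L ⧸ center L)).Normal).eq_bot_or_eq_top with e | e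
    · refine u1 (pr_one (a := v).1 (mem_bot.1 (e.le (mem_center_iff.2 fun g => ?_))))
      have := mem_bot.1 (c g)
      rw [mul_inv_eq_one, mul_inv_eq_iff_eq_mul] at this
      exact this.symm
    · exact CL.Loc.IsQuasisimple.not_isMulCommutative_quotient h.qs
        ⟨⟨fun a b => mem_center_iff.1 (e ▸ mem_top b) a⟩⟩
  · exact nsolv h (Cfsg.Agent.S0205.result (card_top (G := L ⧸ center L) ▸ o))

theorem tt : TT.{u} := by
  intro G _ _ L P R e h hP RP i zR eL e2
  have := h.qs.2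
  by_cases ez : e ∈ zc L
  · exact ⟨1, one_mem _, by simpa using zR ez⟩
  obtain ⟨S, hS⟩ := exists_syl h hP
  obtain ⟨l, hl, k⟩ := hP.exists_conj_le (Two.of_mul_self (Two.of_mem h.two e2)).zpowers (zpowers_le.2 eL)
  have k := k (conj_mem_conj_smul l (mem_zpowers e))
  by_cases hR : l * e * l⁻¹ ∈ R
  · exact ⟨l, hl, hR⟩
  set v : L := ⟨l * e * l⁻¹, hP.le k⟩
  have n := le_normalizer_zc L hl
  rcases Cfsg.Agent.S0111.result S ((R.subgroupOf L).map (pr L)) (hS ▸ map_mono (comap_mono RP)) (by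
      rw [hS, ← relIndex_comap, show ((R.subgroupOf L).map (pr L)).comap (pr L) = R.subgroupOf L from
        Subgroup.ext fun _ => mem_map zR, relIndex_subgroupOf hP.le, i]) (pr L v)
      (ord (fun z => ez ((mem_normalizer_iff.1 n e).2 z)) (by
        have := (mem_normalizer_iff.1 n _).1 e2
        simpa [v, mul_assoc] using this)) (hS ▸ (mem_map (h.zc_le hP)).2 k) (fun z => hR ((mem_map zR).1 z)) with
    ⟨M, hM, c, -⟩ | ⟨g, hg⟩
  · rcases hM.eq_bot_or_eq_top with rfl | rfl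
    · exact (ntwo h (IsPGroup.of_card (n := 1) (index_bot.symm.trans c))).elim
    · simp at c
  · obtain ⟨y, rfl⟩ := QuotientGroup.mk'_surjective _ g
    have hg : pr L (y * v * y⁻¹) ∈ (R.subgroupOf L).map (pr L) := by simpa using hg
    exact ⟨y * l, mul_mem y.2 hl, by simpa [v, mul_assoc] using (mem_map zR).1 hg⟩

theorem bs : BS.{u} := by
  intro G _ _ L u h uL u1 u2
  have := h.qs.2
  set v : L := ⟨u, uL⟩
  obtain ⟨y, y1, o, c, -⟩ := CL.Inv.invol_inverts_odd_of_not_mem (t := pr L v)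
    (by rw [← map_mul]; exact pr_one.2 u2) fun k => by
    rcases (normalClosure_normal (s := {pr L v})).eq_bot_or_eq_top with e | e
    · exact u1 (pr_one (a := v).1 (mem_bot.1 (e.le (subset_normalClosure (Set.mem_singleton _)))))
    · rw [e] at k
      exact ntwo h (k.of_equiv topEquiv)
  obtain ⟨x, rfl⟩ := QuotientGroup.mk'_surjective _ y
  obtain ⟨k, hk⟩ := exists_two_pow_odd (x : G)
  refine ⟨x ^ 2 ^ k, pow_mem x.2 _, fun e => y1 (Two.eq_one_of_odd ⟨k, ?_⟩ o), hk, ?_⟩
  · rw [← map_pow, show x ^ 2 ^ k = 1 from Subtype.ext e, map_one]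
  have z : (x : G) ^ 2 ^ k * (u * x ^ 2 ^ k * u⁻¹) ∈ zc L :=
    pr_one.1 (show pr L (x ^ 2 ^ k * (v * x ^ 2 ^ k * v⁻¹)) = 1 by
      simp only [map_mul, map_inv, map_pow]
      rw [conj_pow_inv c, mul_inv_cancel])
  generalize hw : (x : G) ^ 2 ^ k = w at *
  have cm : Commute w⁻¹ (w * (u * w * u⁻¹)) := z.2 _ (inv_mem (hw ▸ pow_mem x.2 _))
  have := cm.mul_pow (orderOf w)
  rw [inv_mul_cancel_left, conj_pow, inv_pow, pow_orderOf_eq_one, mul_one, mul_inv_cancel, inv_one, one_mul] at this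
  exact eq_inv_of_mul_eq_one_right ((Two.of_mem h.two z).eq_one_of_odd
    (hk.of_dvd_nat (orderOf_dvd_of_pow_eq_one this.symm)))

theorem kf : KF.{u} := by
  intro G _ _ L P h hP
  have := h.qs.2
  obtain ⟨E, hE⟩ := Cfsg.Agent.S0204.result (G := L ⧸ center L) fun k =>
    CL.Loc.IsQuasisimple.not_isMulCommutative_quotient h.qs k.commutative
  have c : Nat.card (center L) = Nat.card (zc L) := by
    rw [← map_center_eq_zc, card_map_of_injective L.subtype_injective]
  obtain ⟨n, hn⟩ := IsPGroup.iff_card.1 h.two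
  have c2 : Nat.card ((E.comap (pr L)).map L.subtype) = 4 * Nat.card (zc L) := by
    rw [card_map_of_injective L.subtype_injective, card_comap_mk', hE.card_four, c, mul_comm]
  exact c2 ▸ hP.card_le (IsPGroup.of_card (n := n + 2) (by rw [c2, hn]; ring)) (map_subtype_le _)

end CL.RC
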