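/-
Real classes of equal 2-part (S3860): the hypothesis `HypB` passes to a quotient by a normal subgroup of
odd order.
-/
import Cfsg.Agent.RC.Defs2

set_option autoImplicit false

open Cfsg CL.Grp Subgroup

namespace CL.RC

universe u

namespace QUOx

section gen
variable {G Q : Type*} [Group G] [Group Q] {f : G →* Q}

theorem eq_one_of_ker (hO : Odd (Nat.card f.ker)) {T : Subgroup G} (hT : IsPGroup 2 T) {t : G}
    (ht : t ∈ T) (h : f t = 1) : t = 1 :=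
  (Two.of_mem hT ht).eq_one_of_odd (Odd.of_dvd_nat hO (orderOf_dvd_natCard f.ker (MonoidHom.mem_ker.2 h)))

theorem inj (hO : Odd (Nat.card f.ker)) {T : Subgroup G} (hT : IsPGroup 2 T) {s t : G}
    (hs : s ∈ T) (ht : t ∈ T) (h : f s = f t) : s = t := by
  have := eq_one_of_ker hO hT (mul_mem hs (inv_mem ht)) (by rw [map_mul, map_inv, h, mul_inv_cancel])
  exact mul_inv_eq_one.1 this

theorem card_map_two (hO : Odd (Nat.card f.ker)) {T : Subgroup G} (hT : IsPGroup 2 T) :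
    Nat.card (T.map f) = Nat.card T := by
  have h : f.ker ⊓ T = ⊥ := by
    rw [eq_bot_iff]
    intro t ht
    exact mem_bot.2 (eq_one_of_ker hO hT ht.2 (MonoidHom.mem_ker.1 ht.1))
  rw [card_eq_card_inf_ker_mul_card_map f T, h, card_bot, one_mul]

theorem mem_of_map {M : Subgroup G} (hM : f.ker ≤ M) {g : G} (h : f g ∈ M.map f) : g ∈ M := by
  obtain ⟨m, hm, e⟩ := h
  have : m⁻¹ * g ∈ M := hM (MonoidHom.mem_ker.2 (by rw [map_mul, map_inv, e, inv_mul_cancel]))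
  simpa using mul_mem hm this

theorem lift [Finite G] (hf : Function.Surjective f) (hO : Odd (Nat.card f.ker)) {Tb : Subgroup Q}
    (hTb : IsPGroup 2 Tb) : ∃ T : Subgroup G, IsPGroup 2 T ∧ T.map f = Tb := by
  have : Fact (Nat.Prime 2) := ⟨Nat.prime_two⟩
  have : Finite Q := Finite.of_surjective f hf
  obtain ⟨T, hT⟩ := exists_isSylowIn 2 (Tb.comap f)
  refine ⟨T, hT.isPGroup, ?_⟩
  have hle : T.map f ≤ Tb := map_le_iff_le_comap.2 hT.le
  refine eq_of_le_of_card_ge hle ?_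
  rw [card_map_two hO hT.isPGroup]
  obtain ⟨k, hk⟩ := IsPGroup.iff_card.1 hTb
  have h1 := card_mul_relIndex hT.le
  rw [card_comap_of_surjective hf, hk] at h1
  have h2 : 2 ^ k ∣ Nat.card T * T.relIndex (Tb.comap f) := by rw [h1]; exact Dvd.intro_left _ rfl
  have h3 : Nat.Coprime (2 ^ k) (T.relIndex (Tb.comap f)) :=
    ((Nat.Prime.coprime_iff_not_dvd Nat.prime_two).2 hT.not_dvd).pow_left k
  rw [hk]
  exact Nat.le_of_dvd Nat.card_pos (h3.dvd_of_dvd_mul_right h2)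

theorem cst_le_normalizer_zpowers (x : Q) : cst x ≤ normalizer (zpowers x : Set Q) := by
  have key : ∀ g ∈ cst x, ∀ h ∈ zpowers x, g * h * g⁻¹ ∈ zpowers x := by
    rintro g hg _ ⟨n, rfl⟩
    change g * x ^ n * g⁻¹ ∈ zpowers x
    rw [← conj_zpow]
    rcases mem_cst.1 hg with h | h <;> rw [h]
    · exact zpow_mem (mem_zpowers x) n
    · exact zpow_mem (inv_mem (mem_zpowers x)) n
  intro g hg
  rw [mem_normalizer_iff]
  intro h
  refine ⟨key g hg h, fun hh => ?_⟩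
  have := key _ ((cst x).inv_mem hg) _ hh
  simpa [mul_assoc] using this

theorem exists_inverter [Finite Q] {x : Q} {T : Subgroup Q} (hT : IsSylowIn 2 T (cst x))
    (hr : IsConj x x⁻¹) : ∃ r ∈ T, r * x * r⁻¹ = x⁻¹ := by
  have : Fact (Nat.Prime 2) := ⟨Nat.prime_two⟩
  obtain ⟨s, hs⟩ := isConj_iff.1 hr
  obtain ⟨m, hm, h2⟩ := exists_odd_pow_two s
  have hinv := odd_pow_conj_inv hs hm
  obtain ⟨h, hh, hle⟩ := hT.exists_conj_le h2.zpowers
    (show zpowers (s ^ m) ≤ cst x from zpowers_le.2 (Or.inr hinv))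
  refine ⟨h * s ^ m * h⁻¹, hle (conj_mem_conj_smul h (mem_zpowers _)), ?_⟩
  have e : h * s ^ m * h⁻¹ * x * (h * s ^ m * h⁻¹)⁻¹ =
      h * (s ^ m * (h⁻¹ * x * h⁻¹⁻¹) * (s ^ m)⁻¹) * h⁻¹ := by group
  rcases mem_cst.1 ((cst x).inv_mem hh) with h1 | h1
  · rw [e, h1, hinv]
    calc h * x⁻¹ * h⁻¹ = h * (h⁻¹ * x * h⁻¹⁻¹)⁻¹ * h⁻¹ := by rw [h1]
      _ = x⁻¹ := by group
  · have e' : s ^ m * x⁻¹ * (s ^ m)⁻¹ = x := by
      calc s ^ m * x⁻¹ * (s ^ m)⁻¹ = (s ^ m * x * (s ^ m)⁻¹)⁻¹ := by group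
        _ = x := by rw [hinv, inv_inv]
    rw [e, h1, e']
    have h3 : x = (h⁻¹ * x * h⁻¹⁻¹)⁻¹ := by rw [h1, inv_inv]
    calc h * x * h⁻¹ = h * (h⁻¹ * x * h⁻¹⁻¹)⁻¹ * h⁻¹ := by rw [← h3]
      _ = x⁻¹ := by group

end gen

theorem liftw (h : TW.{u}) {G Q : Type u} [Group G] [Finite G] [Group Q] {f : G →* Q}
    (hf : Function.Surjective f) (hO : Odd (Nat.card f.ker)) {wb : Q} (h1 : wb ≠ 1)
    (ho : Odd (orderOf wb)) {T : Subgroup G} (hT : IsPGroup 2 T) (hc : T.map f ≤ cst wb) :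
    ∃ w : G, f w = wb ∧ w ≠ 1 ∧ Odd (orderOf w) ∧ (∀ t ∈ T, f t ∈ cen wb → t * w * t⁻¹ = w) ∧
      ∀ t ∈ T, f t ∉ cen wb → t * w * t⁻¹ = w⁻¹ := by
  obtain ⟨v, hv⟩ := hf wb
  have hc' : ∀ t ∈ T, f t ∈ cst wb := fun t ht => hc ⟨t, ht, rfl⟩
  obtain ⟨w, hw, hw1, hw2⟩ := h G f.ker T (T ⊓ (cen wb).comap f) v hO hT le_normalizer_of_normal
    (le_normalizer_of_normal (mem_top v)) inf_le_left
    (fun s hs t ht hs' ht' => ⟨mul_mem hs ht, by
      change f (s * t) ∈ cen wb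
      rw [map_mul]
      exact mul_mem_cen_of_notMem (hc' s hs) (hc' t ht) (fun e => hs' ⟨hs, e⟩) fun e => ht' ⟨ht, e⟩⟩)
    (fun t ht => by
      have := mem_cen.1 (show f t ∈ cen wb from ht.2)
      rw [MonoidHom.mem_ker, map_mul, map_mul, map_mul, map_inv, map_inv, hv, this, inv_mul_cancel])
    (fun t ht ht' => by
      have := (mem_cst.1 (hc' t ht)).resolve_left fun e => ht' ⟨ht, mem_cen.2 e⟩
      rw [MonoidHom.mem_ker, map_mul, map_mul, map_mul, map_inv, hv, this, mul_inv_cancel])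
  have hfw : f w = wb := by
    rw [MonoidHom.mem_ker, map_mul, map_inv, hv, inv_mul_eq_one] at hw
    exact hw.symm
  refine ⟨w, hfw, fun e => h1 (by rw [← hfw, e, map_one]), ?_, fun t ht e => hw1 t ⟨ht, e⟩,
    fun t ht e => hw2 t ht fun e' => e e'.2⟩
  have hk : w ^ orderOf wb ∈ f.ker := by rw [MonoidHom.mem_ker, map_pow, hfw, pow_orderOf_eq_one]
  have hd : orderOf w ∣ orderOf wb * Nat.card f.ker := by
    apply orderOf_dvd_of_pow_eq_one
    rw [pow_mul]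
    exact orderOf_dvd_iff_pow_eq_one.1 (orderOf_dvd_natCard f.ker hk)
  exact Odd.of_dvd_nat (ho.mul hO) hd

end QUOx

open QUOx in
theorem quo (h : TW.{u}) : QUO.{u} := by
  intro G Q _ _ _ M A c f hB hf hO hM
  have : Fact (Nat.Prime 2) := ⟨Nat.prime_two⟩
  have : Finite Q := Finite.of_surjective f hf
  refine ⟨hB.nrm.map f hf, ⟨?_, ?_⟩, ?_, ?_, ?_, ?_⟩
  · rintro _ ⟨a, ha, rfl⟩
    rw [mem_center_iff]
    intro g
    obtain ⟨g, rfl⟩ := hf g
    rw [← map_mul, ← map_mul, hB.ce.comm ha g]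
  · rintro _ ⟨a, ha, rfl⟩
    rw [← map_mul, hB.ce.sq a ha, map_one]
  · intro wb hw h1 ho hr
    obtain ⟨s, hs⟩ := isConj_iff.1 hr
    obtain ⟨m, hm, h2⟩ := exists_odd_pow_two s
    have hinv := odd_pow_conj_inv hs hm
    obtain ⟨T, hT, hTm⟩ := lift hf hO h2.zpowers
    obtain ⟨w, hfw, hw1, hwo, -, hw3⟩ := liftw h hf hO h1 ho hT
      (by rw [hTm]; exact zpowers_le.2 (Or.inr hinv))
    obtain ⟨t, ht, e⟩ : s ^ m ∈ T.map f := by rw [hTm]; exact mem_zpowers _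
    have hti : t * w * t⁻¹ = w⁻¹ := hw3 t ht fun e' => by
      rw [e, mem_cen, hinv] at e'
      exact ne_inv_of_odd h1 ho e'.symm
    obtain ⟨B, hB2, hBc, hBcard⟩ := hB.b1 w (mem_of_map hM (hfw ▸ hw)) hw1 hwo (isConj_iff.2 ⟨t, hti⟩)
    refine ⟨B.map f, hB2.map f, ?_, by rwa [card_map_two hO hB2]⟩
    rintro _ ⟨b, hb, rfl⟩
    rw [mem_cen', ← hfw, ← map_mul, ← map_mul, mem_cen'.1 (hBc hb)]
  · intro vb hv hvA h2 hr Bb hB2 hBc
    obtain ⟨Tb, hTb, hBT⟩ := exists_isSylowIn_ge (p := 2) hB2 (hBc.trans (cen_le_cst vb))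
    have hvT : vb ∈ Tb := hTb.le_of_normalized h2.zpowers
      (zpowers_le.2 (Or.inl (by group))) (cst_le_normalizer_zpowers vb) (mem_zpowers vb)
    obtain ⟨rb, hrT, hrinv⟩ := exists_inverter hTb hr
    obtain ⟨T, hT, hTm⟩ := lift hf hO hTb.isPGroup
    obtain ⟨v, hvT', rfl⟩ : vb ∈ T.map f := by rwa [hTm]
    obtain ⟨r, hrT', rfl⟩ : rb ∈ T.map f := by rwa [hTm]
    have hinv : r * v * r⁻¹ = v⁻¹ := inj hO hT (mul_mem (mul_mem hrT' hvT') (inv_mem hrT'))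
      (inv_mem hvT') (by rw [map_mul, map_mul, map_inv, map_inv, hrinv])
    have hmap : (T ⊓ Bb.comap f).map f = Bb := by
      refine le_antisymm (map_le_iff_le_comap.2 inf_le_right) fun b hb => ?_
      obtain ⟨b', hb', rfl⟩ : b ∈ T.map f := by rw [hTm]; exact hBT hb
      exact ⟨b', ⟨hb', hb⟩, rfl⟩
    rw [← hmap, card_map_two hO hT.to_inf_left]
    refine hB.b3 v (mem_of_map hM hv) (fun e => hvA ⟨v, e, rfl⟩) (Two.of_mem hT hvT')
      (isConj_iff.2 ⟨r, hinv⟩) _ hT.to_inf_left fun b hb => ?_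
    rw [mem_cen']
    refine inj hO hT (mul_mem hb.1 hvT') (mul_mem hvT' hb.1) ?_
    rw [map_mul, map_mul]
    exact mem_cen'.1 (hBc hb.2)
  · intro wb hw h1 ho hr vb hv h2 hc rb hrc hrinv
    obtain ⟨m, hm, hr2⟩ := exists_odd_pow_two rb
    have hinv := odd_pow_conj_inv hrinv hm
    have hU : IsPGroup 2 (zpowers vb ⊔ zpowers (rb ^ m) : Subgroup Q) :=
      IsPGroup.to_sup_of_normal_left' h2.zpowers hr2.zpowers
        ((zpowers_le.2 (show rb ^ m ∈ cst vb from Or.inr hinv)).trans (cst_le_normalizer_zpowers vb))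
    obtain ⟨Tb, hTb, hUT⟩ := exists_isSylowIn_ge (p := 2) (H := cst wb) hU
      (sup_le (zpowers_le.2 (cen_le_cst _ (mem_cen'.2 hc))) (zpowers_le.2 (pow_mem hrc m)))
    obtain ⟨sb, hsT, hsinv⟩ := exists_inverter hTb hr
    obtain ⟨T, hT, hTm⟩ := lift hf hO hTb.isPGroup
    obtain ⟨w, hfw, hw1, hwo, hw2, hw3⟩ := liftw h hf hO h1 ho hT (by rw [hTm]; exact hTb.le)
    obtain ⟨v, hvT, rfl⟩ : vb ∈ T.map f := by
      rw [hTm]; exact hUT (mem_sup_left (mem_zpowers vb))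
    obtain ⟨r, hrT, er⟩ : rb ^ m ∈ T.map f := by
      rw [hTm]; exact hUT (mem_sup_right (mem_zpowers _))
    obtain ⟨s, hsT', rfl⟩ : sb ∈ T.map f := by rwa [hTm]
    have hsi : s * w * s⁻¹ = w⁻¹ := hw3 s hsT' fun e' => by
      rw [mem_cen, hsinv] at e'
      exact ne_inv_of_odd h1 ho e'.symm
    have hri : r * v * r⁻¹ = v⁻¹ := inj hO hT (mul_mem (mul_mem hrT hvT) (inv_mem hrT))
      (inv_mem hvT) (by rw [map_mul, map_mul, map_inv, map_inv, er, hinv])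
    have hrw : r ∈ cst w := by
      by_cases e : f r ∈ cen wb
      · exact Or.inl (hw2 r hrT e)
      · exact Or.inr (hw3 r hrT e)
    have hvw : v * w = w * v := mem_cen'.1 (mem_cen.2 (hw2 v hvT (mem_cen'.2 hc)))
    exact ⟨v, hB.b2 w (mem_of_map hM (hfw ▸ hw)) hw1 hwo (isConj_iff.2 ⟨s, hsi⟩) v (mem_of_map hM hv)
      (Two.of_mem hT hvT) hvw r hrw hri, rfl⟩
  · intro S
    obtain ⟨P⟩ : Nonempty (Sylow 2 G) := inferInstance
    have h1 := hB.b4 P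
    have h2 := (isSylowIn_top S).card_le (P.isPGroup'.map f) le_top
    rw [card_map_two hO P.isPGroup'] at h2
    exact h1.trans h2

end CL.RC
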