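/-
Real classes of equal 2-part (S3860): reduction to the case of trivial odd core.
-/
import Cfsg.Agent.RC.Defs2
import Cfsg.Agent.S3861
import Cfsg.Statements.S3860

set_option autoImplicit false

open Cfsg CL.Grp Subgroup

namespace CL.RC

universe u

namespace REDx

variable {G : Type u} [Group G] [Finite G]

theorem card_map_two (O : Subgroup G) [O.Normal] (hO : Odd (Nat.card O)) {B : Subgroup G} (hB : IsPGroup 2 B) :
    Nat.card (B.map (QuotientGroup.mk' O)) = Nat.card B := by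
  have hb : O ⊓ B = ⊥ := by
    obtain ⟨k, hk⟩ := IsPGroup.iff_card.1 hB
    refine (disjoint_of_coprime_natCard ?_).eq_bot
    rw [hk]
    exact Nat.Coprime.pow_right k (Nat.coprime_two_right.2 hO)
  have := card_inf_mul_relIndex O B
  rw [hb, card_bot, one_mul] at this
  rw [card_map_mk', this]

theorem lift_two (O : Subgroup G) [O.Normal] (hO : Odd (Nat.card O)) {Tb : Subgroup (G ⧸ O)}
    (hT : IsPGroup 2 Tb) : ∃ T : Subgroup G, IsPGroup 2 T ∧ T.map (QuotientGroup.mk' O) = Tb := by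
  obtain ⟨T, hS⟩ := exists_isSylowIn 2 (Tb.comap (QuotientGroup.mk' O))
  refine ⟨T, hS.isPGroup, eq_of_le_of_card_ge (map_le_iff_le_comap.2 hS.le) ?_⟩
  obtain ⟨k, hk⟩ := IsPGroup.iff_card.1 hT
  rw [card_map_two O hO hS.isPGroup, hS.card_eq_pow, card_comap_mk', hk,
    Nat.factorization_mul Nat.card_pos.ne' (by positivity)]
  refine Nat.pow_le_pow_right (by norm_num) ?_
  simp [Nat.prime_two.factorization_self]

theorem key (h1 : TW.{u}) (O : Subgroup G) [O.Normal] (hO : Odd (Nat.card O)) (xb : G ⧸ O)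
    (hx : IsConj xb xb⁻¹) : ∃ (w : G) (T0 : Subgroup G) (Tb0 : Subgroup (G ⧸ O)),
      QuotientGroup.mk' O w = xb ∧ IsConj w w⁻¹ ∧ IsPGroup 2 T0 ∧ T0 ≤ cen w ∧ IsSylowIn 2 Tb0 (cen xb) ∧
        Tb0 ≤ T0.map (QuotientGroup.mk' O) := by
  set f := QuotientGroup.mk' O with hf
  have hker : ∀ g : G, g ∈ O ↔ f g = 1 := fun g => (QuotientGroup.eq_one_iff g).symm
  obtain ⟨r, hr⟩ := isConj_iff.1 hx
  obtain ⟨m, hm, hm2⟩ := exists_odd_pow_two r
  have hrm := odd_pow_conj_inv hr hm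
  obtain ⟨Tb, hTb, hrT⟩ := exists_isSylowIn_ge (H := cst xb) hm2.zpowers (zpowers_le.2 (Or.inr hrm))
  have hS0 : IsSylowIn 2 (Tb ⊓ cen xb) (cen xb) :=
    hTb.inf_of_normalized (cen_le_cst xb) (cst_le_normalizer_cen xb)
  obtain ⟨T, hT, hTT⟩ := lift_two O hO hTb.isPGroup
  have hmem : ∀ t ∈ T, f t ∈ cst xb := fun t ht => hTb.le (hTT ▸ mem_map_of_mem f ht)
  obtain ⟨v, hv⟩ := QuotientGroup.mk'_surjective O xb
  change f v = xb at hv
  obtain ⟨w, hw, hw0, hw1⟩ := h1 G O T (T ⊓ (cen xb).comap f) v hO hT le_normalizer_of_normal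
    (le_normalizer_of_normal (mem_top v)) inf_le_left
    (fun s hs t ht hs' ht' => ⟨mul_mem hs ht, by
      show f (s * t) ∈ cen xb
      rw [map_mul]
      exact mul_mem_cen_of_notMem (hmem s hs) (hmem t ht) (fun e => hs' ⟨hs, e⟩) (fun e => ht' ⟨ht, e⟩)⟩)
    (fun t ht => by
      rw [hker, map_mul, map_mul, map_mul, map_inv, map_inv, hv, mem_cen.1 ht.2, inv_mul_cancel])
    (fun t ht ht' => by
      have := (mem_cst.1 (hmem t ht)).resolve_left fun e => ht' ⟨ht, mem_cen.2 e⟩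
      rw [hker, map_mul, map_mul, map_mul, map_inv, hv, this, mul_inv_cancel])
  have hfw : f w = xb := by
    rw [hker, map_mul, map_inv, hv] at hw
    exact (inv_mul_eq_one.1 hw).symm
  have hle : Tb ⊓ cen xb ≤ (T ⊓ (cen xb).comap f).map f := by
    intro y hy
    obtain ⟨t, ht, rfl⟩ : y ∈ T.map f := hTT ▸ hy.1
    exact mem_map_of_mem f ⟨ht, hy.2⟩
  have hT0 : IsPGroup 2 ↥(T ⊓ (cen xb).comap f) := hT.to_inf_left
  obtain ⟨t, ht, htr⟩ : r ^ m ∈ T.map f := hTT ▸ hrT (mem_zpowers _)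
  by_cases ht0 : t ∈ T ⊓ (cen xb).comap f
  · have h2 : xb = xb⁻¹ := by
      have : f t ∈ cen xb := ht0.2
      rw [htr, mem_cen] at this
      rw [← hrm, this]
    have h3 : xb * xb = 1 := eq_inv_iff_mul_eq_one.1 h2
    have h4 : w * w ∈ O := by rw [hker, map_mul, hfw, h3]
    have h5 : Odd (orderOf (w * w)) := hO.of_dvd_nat (orderOf_dvd_natCard _ h4)
    refine ⟨w ^ orderOf (w * w), _, _, ?_, isConj_inv_of_sq ?_, hT0, ?_, hS0, hle⟩
    · obtain ⟨j, hj⟩ := h5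
      rw [map_pow, hfw, hj, pow_succ, pow_mul, pow_two, h3, one_pow, one_mul]
    · rw [← (Commute.refl w).mul_pow, pow_orderOf_eq_one]
    · intro s hs
      rw [mem_cen, ← conj_pow, hw0 s hs]
  · exact ⟨w, _, _, hfw, isConj_iff.2 ⟨t, hw1 t ht ht0⟩, hT0, fun s hs => mem_cen.2 (hw0 s hs), hS0, hle⟩

theorem hh_quot (h1 : TW.{u}) (O : Subgroup G) [O.Normal] (hO : Odd (Nat.card O)) {c : ℕ} (h : HH G c) :
    HH (G ⧸ O) c := by
  intro xb hx hxc
  obtain ⟨w, T0, Tb0, hw, hwr, hT0, hT0w, hS, hle⟩ := key h1 O hO xb hx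
  have hwc : w ∉ center G := fun e => hxc (mem_center_iff.2 fun g => by
    obtain ⟨g, rfl⟩ := QuotientGroup.mk'_surjective O g
    rw [← hw, ← map_mul, ← map_mul, mem_center_iff.1 e g])
  obtain ⟨⟨B, hB, hBw, hBc⟩, hmax⟩ := h w hwr hwc
  refine ⟨⟨B.map (QuotientGroup.mk' O), hB.map _, ?_, by rw [card_map_two O hO hB, hBc]⟩, fun B' hB' hB'x => ?_⟩
  · rintro _ ⟨b, hb, rfl⟩
    rw [mem_cen', ← hw, ← map_mul, ← map_mul, mem_cen'.1 (hBw hb)]
  · calc Nat.card B' ≤ Nat.card Tb0 := hS.card_le hB' hB'x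
      _ ≤ Nat.card (T0.map (QuotientGroup.mk' O)) := card_le_of_le hle
      _ = Nat.card T0 := card_map_two O hO hT0
      _ ≤ c := hmax T0 hT0 hT0w

theorem hh_of (a : ℕ) (h : ∀ x : G, IsConj x x⁻¹ → x ∉ center G → ((cen x).index).factorization 2 = a) :
    HH G (2 ^ ((Nat.card G).factorization 2 - a)) := by
  intro x hx hxc
  obtain ⟨S, hS⟩ := exists_isSylowIn 2 (cen x)
  have hc : Nat.card S = 2 ^ ((Nat.card G).factorization 2 - a) := by
    rw [hS.card_eq_pow, ← (cen x).card_mul_index,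
      Nat.factorization_mul Nat.card_pos.ne' (index_ne_zero_of_finite), Finsupp.add_apply, h x hx hxc,
      Nat.add_sub_cancel]
  exact ⟨⟨S, hS.isPGroup, hS.le, hc⟩, fun B hB hBx => hc ▸ hS.card_le hB hBx⟩

end REDx

theorem red (h1 : TW.{u}) (h2 : Main.{u}) : type_of% @Cfsg.CfsgFrozen.S3860.{u} := by
  intro G _ _ a h
  have hO : Odd (Nat.card (oddCore G)) := Nat.coprime_two_right.1 (pPrimeCore_coprime 2 G)
  have hQ := REDx.hh_quot h1 (oddCore G) hO (REDx.hh_of a h)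
  obtain ⟨Pb⟩ : Nonempty (Sylow 2 (G ⧸ oddCore G)) := inferInstance
  have hn : (Pb : Subgroup (G ⧸ oddCore G)).Normal :=
    (Cfsg.Agent.S3861.result Pb).1 (h2 _ _ hQ (pPrimeCore_quotient_pPrimeCore 2 G))
  have hle : oddCore G ≤ (Pb : Subgroup (G ⧸ oddCore G)).comap (QuotientGroup.mk' (oddCore G)) := by
    intro x hx
    rw [mem_comap, QuotientGroup.mk'_apply, (QuotientGroup.eq_one_iff x).2 hx]
    exact one_mem _
  refine ⟨oddCore G, (Pb : Subgroup (G ⧸ oddCore G)).comap (QuotientGroup.mk' (oddCore G)), inferInstance,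
    hn.comap _, hle, hO, ?_, ?_⟩
  · rw [index_comap_of_surjective _ (QuotientGroup.mk'_surjective _), ← Nat.not_even_iff_odd, even_iff_two_dvd]
    exact Pb.not_dvd_index
  · obtain ⟨j, hj⟩ := IsPGroup.iff_card.1 Pb.isPGroup'
    refine ⟨j, ?_⟩
    have := card_mul_relIndex hle
    rw [card_comap_mk', hj] at this
    exact Nat.eq_of_mul_eq_mul_left Nat.card_pos this

end CL.RC
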