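/-
Real classes of equal 2-part (S3860): the structure step.
-/
import Cfsg.Agent.RC.Defs2

set_option autoImplicit false

open Cfsg CL.Grp Subgroup

namespace CL.RC

universe u

namespace STx

variable {G : Type u} [Group G] [Finite G] {M A : Subgroup G} {c : ℕ}

theorem core_le (h1 : K1.{u}) (h : Hyp M A c) {w : G} (hw : w ∈ M) (w1 : w ≠ 1) (wo : Odd (orderOf w))
    (wr : IsConj w w⁻¹) : pCoreOf 2 M ≤ cen w := by
  have := h.nrm
  by_contra k
  obtain ⟨B, b1, b2, b3⟩ := h.b1 w hw w1 wo wr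
  obtain ⟨y, y1, y2, y3, B', c1, c2, c3⟩ := h1 G w B _ wo b1 b2 (pCoreOf_isPGroup 2 M)
    (by rw [normalizer_eq_top]; exact le_top) (by rw [normalizer_eq_top]; trivial) k
  have := h.b3 y (pCoreOf_le 2 M y1) (fun a => y3 (mem_cen'.2 (h.ce.comm a w).symm))
    (Two.of_mem (pCoreOf_isPGroup 2 M) y1) y2.isConj B' c1 c2
  have : 0 < Nat.card B := Nat.card_pos
  omega

theorem exists_comp (h1 : K1.{u}) (h : Hyp M A c) (hO : oddCore M = ⊥) (hc : ¬ Clo M) :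
    ∃ L : Subgroup G, IsComponent L ∧ L ≤ M := by
  have := h.nrm
  have : Fact (Nat.Prime 2) := ⟨Nat.prime_two⟩
  simp only [Clo, not_forall, not_not] at hc
  obtain ⟨w, hw, w1, wo, wr⟩ := hc
  by_contra k
  have hl : layer M = ⊥ := CL.Loc.layer_eq_bot_iff.2 fun K hK =>
    k ⟨_, CL.Loc.IsComponent.map_subtype hK h.nrm.isSubnormal, map_subtype_le _⟩
  have := CL.Loc.le_pCore_of_centralizes (p := 2) hO (X := zpowers (⟨w, hw⟩ : M))
    (commutator_eq_bot_iff_le_centralizer.2 (zpowers_le.2 fun y hy =>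
      Subtype.ext (mem_cen'.1 (core_le h1 h hw w1 wo wr.isConj (mem_map_of_mem _ hy))))) (by rw [hl]; simp)
  exact w1 ((Two.of_mem (pCoreOf_isPGroup 2 M) (mem_map_of_mem _ (this (mem_zpowers _)))).eq_one_of_odd wo)

theorem uniq (h2 : NQ.{u}) (h3 : RQ.{u}) (h : Hyp M A c) {L K : Subgroup G} (hL : IsComponent L) (LM : L ≤ M)
    (hK : IsComponent K) (KM : K ≤ M) : L = K := by
  have : Fact (Nat.Prime 2) := ⟨Nat.prime_two⟩
  by_contra k
  have cm : ∀ a ∈ L, ∀ b ∈ K, b * a = a * b := fun a ha b hb =>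
    commutator_eq_bot_iff_le_centralizer.1 (CL.Loc.IsComponent.commutator_eq_bot_of_ne hL hK k) ha b hb
  obtain ⟨w, wL, w1, wo, s, sL, hs⟩ := h3 G L (CL.Loc.IsComponent.quasisimple hL)
  obtain ⟨P, hP⟩ := exists_isSylowIn 2 K
  obtain ⟨v, vP, ⟨r, rP, hr⟩, vz⟩ := h2 G K P (CL.Loc.IsComponent.quasisimple hK) hP
  exact vz (mem_zc_of_center (h.ce.cen (h.f3 w (LM wL) w1 wo v (KM (hP.le vP)) (Two.of_mem hP.isPGroup vP)
    (cm w wL v (hP.le vP)) r s (mul_inv_eq_iff_eq_mul.2 (cm w wL r (hP.le rP))) hr hs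
    (mul_inv_eq_iff_eq_mul.2 (cm s sL v (hP.le vP)).symm))) (hP.le vP))

theorem two_zc (hO : oddCore M = ⊥) {L : Subgroup G} [L.Normal] (LM : L ≤ M) : IsPGroup 2 (zc L) := by
  have := zc_normal L
  refine isPGroup_of_two fun z hz => ?_
  obtain ⟨k, hk⟩ := exists_two_pow_odd z
  have hz' := pow_mem hz (2 ^ k)
  have a1 : zpowers (z ^ 2 ^ k) ≤ pPrimeCoreOf 2 (zc L) := le_pPrimeCoreOf (zpowers_le.2 hz')
    (fun a ha => centralizer_le_normalizer _ (le_centralizer_iff.1 (zpowers_le.2 fun b hb => by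
      obtain ⟨n, rfl⟩ := hb
      exact ((show Commute a (z ^ 2 ^ k) from hz'.2 a ha.1).zpow_left n).eq) (mem_zpowers a)))
    (by rw [Nat.card_zpowers]; exact Nat.coprime_two_right.2 hk)
  have a2 : pPrimeCoreOf 2 (zc L) ≤ pPrimeCoreOf 2 M :=
    pPrimeCoreOf_le_of_le_normalizer ((zc_le L).trans LM) (by rw [normalizer_eq_top]; exact le_top)
  have a3 : pPrimeCoreOf 2 M = ⊥ := (congrArg (map M.subtype) hO).trans (map_bot _)
  exact ⟨k, mem_bot.1 (a3 ▸ a2 (a1 (mem_zpowers _)))⟩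

end STx

theorem st (h1 : K1.{u}) (h2 : NQ.{u}) (h3 : RQ.{u}) : ST.{u} := by
  intro G _ _ M A c h hO hc
  obtain ⟨L, hL, LM⟩ := STx.exists_comp h1 h hO hc
  have hN : L.Normal := ⟨fun a ha g => by
    rw [STx.uniq h2 h3 h hL LM (CL.Loc.IsComponent.conj hL g) (by
      rintro _ ⟨b, hb, rfl⟩
      exact h.nrm.conj_mem b (LM hb) g)]
    exact ⟨a, ha, rfl⟩⟩
  have two := STx.two_zc hO LM
  refine ⟨L, LM, hN, ⟨CL.Loc.IsComponent.quasisimple hL, two⟩, fun z hz e => ?_⟩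
  obtain ⟨w, wL, w1, wo, s, sL, hs⟩ := h3 G L (CL.Loc.IsComponent.quasisimple hL)
  exact h.f3 w (LM wL) w1 wo z (LM hz.1) (Two.of_sq e) (hz.2 w wL).symm 1 s (by simp)
    (by simpa using eq_inv_of_mul_eq_one_left e) hs (mul_inv_eq_iff_eq_mul.2 (hz.2 s sL))

end CL.RC
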