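/-
Real classes of equal 2-part (S3860): the hypothesis `HypB` passes to the stabilizer `stb A y`.
-/
import Cfsg.Agent.RC.Defs2

set_option autoImplicit false

open Cfsg CL.Grp Subgroup

namespace CL.RC

universe u

namespace SUBx

variable {G : Type*} [Group G]

theorem two_coe {H : Subgroup G} {v : H} (h : Two v) : Two (v : G) := by
  obtain ⟨k, hk⟩ := h
  exact ⟨k, by simpa using congrArg Subtype.val hk⟩

theorem real_coe {H : Subgroup G} {v : H} (h : IsConj v v⁻¹) : IsConj (v : G) (v : G)⁻¹ := by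
  obtain ⟨r, hr⟩ := isConj_iff.1 h
  exact isConj_iff.2 ⟨r, by simpa using congrArg Subtype.val hr⟩

theorem coe_ne_one {H : Subgroup G} {v : H} (h : v ≠ 1) : (v : G) ≠ 1 := fun e => h (Subtype.ext e)

theorem odd_coe {H : Subgroup G} {v : H} (h : Odd (orderOf v)) : Odd (orderOf (v : G)) := by
  rwa [Subgroup.orderOf_coe]

theorem coe_mem_cen {H : Subgroup G} {v g : H} : (g : G) ∈ cen (v : G) ↔ g ∈ cen v := by
  rw [mem_cen', mem_cen']
  exact ⟨fun h => Subtype.ext h, fun h => congrArg Subtype.val h⟩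

theorem coe_mem_cst {H : Subgroup G} {v g : H} (h : g ∈ cst v) : (g : G) ∈ cst (v : G) := by
  rcases mem_cst.1 h with h | h
  · exact Or.inl (by simpa using congrArg Subtype.val h)
  · exact Or.inr (by simpa using congrArg Subtype.val h)

end SUBx

open SUBx in
theorem sub (h : MSs.{u}) : SUB.{u} := by
  intro G _ _ M A L c y S hB hLM hL hyL hyA hyy hS
  have : Fact (Nat.Prime 2) := ⟨Nat.prime_two⟩
  refine ⟨hL.subgroupOf _, ⟨?_, ?_⟩, ?_, ?_, ?_, ?_⟩
  · intro a ha
    rw [mem_center_iff]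
    intro g
    exact Subtype.ext (hB.ce.comm (mem_subgroupOf.1 ha) g)
  · intro a ha
    exact Subtype.ext (hB.ce.sq _ (mem_subgroupOf.1 ha))
  · intro w hw h1 ho hr
    have hwM : (w : G) ∈ M := hLM (mem_subgroupOf.1 hw)
    obtain ⟨B, hB2, hBc, hBcard⟩ := hB.b1 w hwM (coe_ne_one h1) (odd_coe ho) (real_coe hr)
    have hwy : (w : G) ∈ cen y := mem_cen_of_odd_of_stb hB.ce w.2 (odd_coe ho)
    have hyw : y ∈ cen (w : G) := mem_cen'.2 (mem_cen'.1 hwy).symm
    have hy2 : Two y := Two.of_mul_self (Two.of_sq (hB.ce.sq _ hyy))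
    obtain ⟨T, hT, hyT⟩ := exists_isSylowIn_ge (p := 2) hy2.zpowers
      (show zpowers y ≤ cen (w : G) from zpowers_le.2 hyw)
    have hyT' : y ∈ T := hyT (mem_zpowers y)
    have hTH : T ≤ stb A y := by
      by_contra hn
      have hnorm : T ≤ normalizer ((T ⊓ L : Subgroup G) : Set G) :=
        le_normalizer_inf' le_normalizer (by rw [normalizer_eq_top]; exact le_top)
      obtain ⟨v, hv, hvA, -, hinv, -⟩ := h G A T (T ⊓ L) y hB.ce hT.isPGroup inf_le_left hnorm
        ⟨hyT', hyL⟩ hyA hyy hn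
      exact hvA (hB.b2 w hwM (coe_ne_one h1) (odd_coe ho) (real_coe hr) v (hLM hv.2)
        (Two.of_mem hT.isPGroup hv.1) (mem_cen'.1 (hT.le hv.1)) y (cen_le_cst _ hyw) hinv)
    refine ⟨T.subgroupOf (stb A y), hT.isPGroup.comap_subtype, ?_, ?_⟩
    · intro g hg
      exact coe_mem_cen.1 (hT.le (mem_subgroupOf.1 hg))
    · rw [card_subgroupOf_of_le hTH]
      exact hBcard.trans (hT.card_le hB2 hBc)
  · intro v hv hvA h2 hr B hB2 hBc
    rw [← card_map_subtype B]
    refine hB.b3 v (hLM (mem_subgroupOf.1 hv)) (fun e => hvA (mem_subgroupOf.2 e)) (two_coe h2)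
      (real_coe hr) _ (hB2.map _) ?_
    rintro _ ⟨g, hg, rfl⟩
    exact coe_mem_cen.2 (hBc hg)
  · intro w hw h1 ho hr v hv h2 hc r hrc hinv
    refine mem_subgroupOf.2 (hB.b2 w (hLM (mem_subgroupOf.1 hw)) (coe_ne_one h1) (odd_coe ho)
      (real_coe hr) v (hLM (mem_subgroupOf.1 hv)) (two_coe h2) (congrArg Subtype.val hc) r
      (coe_mem_cst hrc) ?_)
    simpa using congrArg Subtype.val hinv
  · intro S'
    have h1 := (isSylowIn_map_subtype S').card_eq (isSylowIn_of_le S hS)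
    rw [card_map_subtype] at h1
    have h2 := hB.b4 S
    change 4 * c ≤ Nat.card (S' : Subgroup (stb A y))
    rw [h1]
    exact h2

end CL.RC
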