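/-
Real classes of equal 2-part (S3860): twisted fixed points and the maximal stabilizer.
-/
import Cfsg.Agent.RC.Defs2

set_option autoImplicit false

open Cfsg CL.Grp Subgroup

namespace CL.RC

universe u

namespace TWx

variable {G : Type u} [Group G]

open Classical in
/-- the sign of `t` relative to `T0` -/
noncomputable def eps (T0 : Subgroup G) (t : G) : ℤ := if t ∈ T0 then 1 else -1

theorem eps_of_mem {T0 : Subgroup G} {t : G} (h : t ∈ T0) : eps T0 t = 1 := if_pos h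

theorem eps_of_notMem {T0 : Subgroup G} {t : G} (h : t ∉ T0) : eps T0 t = -1 := if_neg h

theorem eps_mul {T T0 : Subgroup G} (hm : ∀ s ∈ T, ∀ t ∈ T, s ∉ T0 → t ∉ T0 → s * t ∈ T0) {s t : G}
    (hs : s ∈ T) (ht : t ∈ T) : eps T0 (s * t) = eps T0 t * eps T0 s := by
  by_cases h1 : s ∈ T0 <;> by_cases h2 : t ∈ T0
  · rw [eps_of_mem h1, eps_of_mem h2, eps_of_mem (mul_mem h1 h2)]; rfl
  · rw [eps_of_mem h1, eps_of_notMem h2, eps_of_notMem fun h => h2 ((mul_mem_cancel_left h1).1 h)]; rfl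
  · rw [eps_of_notMem h1, eps_of_mem h2, eps_of_notMem fun h => h1 ((mul_mem_cancel_right h2).1 h)]; rfl
  · rw [eps_of_notMem h1, eps_of_notMem h2, eps_of_mem (hm s hs t ht h1 h2)]; rfl

theorem stb_iff {A : Subgroup G} (hA : CE2 A) {u g : G} : g ∈ stb A u ↔ ∃ a ∈ A, g * u * g⁻¹ = a * u := by
  rw [mem_stb hA.cen]
  exact ⟨fun h => ⟨_, h, by group⟩, fun ⟨a, ha, e⟩ => by rw [e]; simpa using ha⟩

end TWx

open TWx

theorem tw : TW.{u} := by
  intro G _ _ O T T0 v hO hT hTO hv hle hm h0 h1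
  have key : ∀ t ∈ T, ∀ w : G, v⁻¹ * w ∈ O → v⁻¹ * (t * w * t⁻¹) ^ eps T0 t ∈ O := by
    intro t ht w hw
    have hc : t * (v⁻¹ * w) * t⁻¹ ∈ O := (hTO ht _).1 hw
    by_cases h : t ∈ T0
    · rw [eps_of_mem h, zpow_one]
      have := mul_mem (h0 t h) hc
      convert this using 1; group
    · rw [eps_of_notMem h, zpow_neg_one]
      have h2 := inv_mem (mul_mem (h1 t ht h) hc)
      have h3 : v⁻¹ * (v * (t * v * t⁻¹) * (t * (v⁻¹ * w) * t⁻¹))⁻¹ * v⁻¹⁻¹ ∈ O := (inv_mem hv _).1 h2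
      convert h3 using 1; group
  let X := {w : G // v⁻¹ * w ∈ O}
  letI : MulAction T X :=
    { smul := fun t w => ⟨((t : G) * w.1 * (t : G)⁻¹) ^ eps T0 t, key t t.2 w.1 w.2⟩
      one_smul := fun w => Subtype.ext (by
        change (((1 : T) : G) * w.1 * ((1 : T) : G)⁻¹) ^ eps T0 ((1 : T) : G) = w.1
        rw [OneMemClass.coe_one, eps_of_mem (one_mem T0)]; simp)
      mul_smul := fun s t w => Subtype.ext (by
        change (((s * t : T) : G) * w.1 * ((s * t : T) : G)⁻¹) ^ eps T0 ((s * t : T) : G) =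
          ((s : G) * (((t : G) * w.1 * (t : G)⁻¹) ^ eps T0 t) * (s : G)⁻¹) ^ eps T0 s
        rw [coe_mul, eps_mul hm s.2 t.2, ← conj_zpow (a := (s : G)), ← zpow_mul]
        congr 1; group) }
  have hX : Nat.card X = Nat.card O := Nat.card_congr (Equiv.subtypeEquiv (Equiv.mulLeft v⁻¹) fun _ => Iff.rfl)
  obtain ⟨w, hw⟩ := hT.nonempty_fixed_point_of_prime_not_dvd_card X (by
    rw [hX, ← even_iff_two_dvd]; exact Nat.not_even_iff_odd.2 hO)
  have hw' : ∀ t ∈ T, (t * w.1 * t⁻¹) ^ eps T0 t = w.1 := fun t ht => congrArg Subtype.val (hw ⟨t, ht⟩)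
  refine ⟨w.1, w.2, fun t ht => ?_, fun t ht h => ?_⟩
  · have := hw' t (hle ht)
    rwa [eps_of_mem ht, zpow_one] at this
  · have := hw' t ht
    rw [eps_of_notMem h, zpow_neg_one] at this
    exact inv_eq_iff_eq_inv.1 this

theorem mss : MSs.{u} := by
  intro G _ _ A T N u hA hT hNT hTN hu huA huu hn
  have hlt : T ⊓ stb A u < T := lt_of_le_of_ne inf_le_left fun e => hn (inf_eq_left.1 e)
  obtain ⟨g0, hg0, hg0S⟩ := SetLike.exists_of_lt (lt_inf_normalizer_of_isPGroup hT hlt)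
  obtain ⟨k, hgS, hgg⟩ := (Two.of_mem hT hg0.1).exists_last hg0S
  have hg : g0 ^ 2 ^ k ∈ T ⊓ normalizer ((T ⊓ stb A u : Subgroup G) : Set G) := pow_mem hg0 _
  generalize g0 ^ 2 ^ k = g at hgS hgg hg
  have huS : u ∈ T ⊓ stb A u := ⟨hNT hu, (stb_iff hA).2 ⟨1, one_mem _, by group⟩⟩
  have hu'S : g * u * g⁻¹ ∈ T ⊓ stb A u := (hg.2 u).1 huS
  have hu'N : g * u * g⁻¹ ∈ N := (hTN hg.1 u).1 hu
  have hsq : g * u * g⁻¹ * (g * u * g⁻¹) = u * u := by
    calc g * u * g⁻¹ * (g * u * g⁻¹) = g * (u * u) * g⁻¹ := by group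
      _ = u * u := by rw [hA.comm huu]; group
  have h4 := hA.sq _ huu
  have hc2 : ∀ s ∈ T ⊓ stb A u, ∃ a ∈ A, s * (g * u * g⁻¹) * s⁻¹ = a * (g * u * g⁻¹) := by
    intro s hs
    have hs' : g⁻¹ * s * g⁻¹⁻¹ ∈ T ⊓ stb A u := ((normalizer ((T ⊓ stb A u : Subgroup G) : Set G)).inv_mem hg.2 s).1 hs
    obtain ⟨a, ha, e⟩ := (stb_iff hA).1 hs'.2
    refine ⟨a, ha, ?_⟩
    calc s * (g * u * g⁻¹) * s⁻¹ = g * (g⁻¹ * s * g⁻¹⁻¹ * u * (g⁻¹ * s * g⁻¹⁻¹)⁻¹) * g⁻¹ := by group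
      _ = (g * a) * u * g⁻¹ := by rw [e]; group
      _ = _ := by rw [hA.comm ha]; group
  obtain ⟨a3, ha3, e3⟩ := (stb_iff hA).1 hgg.2
  obtain ⟨a, ha, ea⟩ := (stb_iff hA).1 hu'S.2
  have hgv : g * (u * (g * u * g⁻¹)) * g⁻¹ = g * u * g⁻¹ * (a3 * u) := by rw [← e3]; group
  have hgu : g * u * g⁻¹ * u⁻¹ ∉ A := fun h => hgS ⟨hg.1, (mem_stb hA.cen).2 h⟩
  generalize g * u * g⁻¹ = u' at hu'S hu'N hsq hc2 ea hgv hgu
  have ea' : u' * u = a * (u * u') := by rw [← mul_assoc, ← ea]; group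
  refine ⟨u * u', mul_mem hu hu'N, fun h => hgu ?_, ?_, ?_, ?_⟩
  · have : u' * u⁻¹ = (u * u') * (u * u)⁻¹ := by
      calc u' * u⁻¹ = (u⁻¹ * (u * u')) * u⁻¹ := by group
        _ = _ := by rw [hA.comm h]; group
    rw [this]; exact mul_mem h (inv_mem huu)
  · have : u * u' * (u * u') = a := by
      calc u * u' * (u * u') = u * (u' * u) * u' := by group
        _ = (u * a) * u * (u' * u') := by rw [ea']; group
        _ = a * (u * u * (u * u)) := by rw [hA.comm ha, hsq]; simp only [mul_assoc]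
        _ = a := by rw [h4, mul_one]
    rw [this]; exact ha
  · calc u * (u * u') * u⁻¹ = (u * u * (u' * u')) * (u * u')⁻¹ := by simp only [mul_inv_rev, mul_assoc]; simp
      _ = _ := by rw [hsq, h4, one_mul]
  · refine lt_of_le_of_ne (fun s hs => ⟨hs.1, ?_⟩) fun e => hgS (e ▸ ⟨hg.1, ?_⟩)
    · obtain ⟨a1, ha1, e1⟩ := (stb_iff hA).1 hs.2
      obtain ⟨a2, ha2, e2⟩ := hc2 s hs
      refine (stb_iff hA).2 ⟨a1 * a2, mul_mem ha1 ha2, ?_⟩
      calc s * (u * u') * s⁻¹ = (s * u * s⁻¹) * (s * u' * s⁻¹) := by group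
        _ = a1 * (u * a2) * u' := by rw [e1, e2]; group
        _ = _ := by rw [hA.comm ha2]; group
    · refine (stb_iff hA).2 ⟨a3 * a, mul_mem ha3 ha, ?_⟩
      calc g * (u * u') * g⁻¹ = (u' * a3) * u := by rw [hgv]; group
        _ = a3 * (u' * u) := by rw [hA.comm ha3]; group
        _ = _ := by rw [ea']; group

theorem ms : MS.{u} := by
  intro G _ _ A T N u hA hT hNT hTN hu huA ⟨r, hr, er⟩
  obtain ⟨k, h1, h2⟩ := (Two.of_mem hT (hNT hu)).exists_last huA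
  obtain ⟨v, ⟨hv, hvA, hvv, hre⟩, hmax⟩ := Set.exists_max_image
    {v : G | v ∈ N ∧ v ∉ A ∧ v * v ∈ A ∧ RealIn N v} (fun v => Nat.card ↥(T ⊓ stb A v)) (Set.toFinite _)
    ⟨u ^ 2 ^ k, pow_mem hu _, h1, h2, r, hr, conj_pow_inv er _⟩
  refine ⟨v, hv, hvA, hvv, hre, ?_⟩
  by_contra hn
  obtain ⟨w, hw, hwA, hww, e, hlt⟩ := mss G A T N v hA hT hNT hTN hv hvA hvv hn
  have := hmax w ⟨hw, hwA, hww, v, hv, e⟩
  exact hlt.ne (eq_of_le_of_card_ge hlt.le this)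

end CL.RC
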